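import Cfsg.Prelude.Def_BaumannBlocks

set_option autoImplicit false
open Cfsg
open scoped Pointwise

namespace Cfsg.Agent.Lib.Helper5

variable {P : Type*} [Group P]

/-- product formula `|Q| |R| = |QR| |Q ∩ R|` -/
theorem card_mul_card_eq_card_mul_set [Finite P] (Q R : Subgroup P) :
    Nat.card Q * Nat.card R = Nat.card ((Q : Set P) * (R : Set P) : Set P) * Nat.card (Q ⊓ R : Subgroup P) := by
  classical
  rw [← Nat.card_prod, ← Nat.card_prod]
  have hdec : ∀ x : ((Q : Set P) * (R : Set P) : Set P), ∃ q : Q, ∃ r : R, (q : P) * (r : P) = x := by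
    rintro ⟨x, hx⟩
    obtain ⟨q, hq, r, hr, rfl⟩ := Set.mem_mul.mp hx
    exact ⟨⟨q, hq⟩, ⟨r, hr⟩, rfl⟩
  choose fq fr hf using hdec
  apply Nat.card_congr
  refine
    { toFun := fun qr => (⟨(qr.1 : P) * (qr.2 : P), Set.mul_mem_mul qr.1.2 qr.2.2⟩,
        ⟨((fq ⟨(qr.1 : P) * (qr.2 : P), Set.mul_mem_mul qr.1.2 qr.2.2⟩ : Q) : P)⁻¹ * (qr.1 : P), ?_⟩)
      invFun := fun xd => (⟨(fq xd.1 : P) * (xd.2 : P), Q.mul_mem (fq xd.1).2 xd.2.2.1⟩,
        ⟨(xd.2 : P)⁻¹ * (fr xd.1 : P), R.mul_mem (R.inv_mem xd.2.2.2) (fr xd.1).2⟩)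
      left_inv := ?_
      right_inv := ?_ }
  · set x : ((Q : Set P) * (R : Set P) : Set P) :=
      ⟨(qr.1 : P) * (qr.2 : P), Set.mul_mem_mul qr.1.2 qr.2.2⟩ with hx
    have h1 : (fq x : P) * (fr x : P) = (qr.1 : P) * (qr.2 : P) := hf x
    refine ⟨Q.mul_mem (Q.inv_mem (fq x).2) qr.1.2, ?_⟩
    have : ((fq x : Q) : P)⁻¹ * (qr.1 : P) = (fr x : P) * (qr.2 : P)⁻¹ := by
      have h2 : (qr.1 : P) = (fq x : P) * (fr x : P) * (qr.2 : P)⁻¹ := by rw [h1]; group
      rw [h2]; group
    rw [this]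
    exact R.mul_mem (fr x).2 (R.inv_mem qr.2.2)
  · rintro ⟨q, r⟩
    set x : ((Q : Set P) * (R : Set P) : Set P) :=
      ⟨(q : P) * (r : P), Set.mul_mem_mul q.2 r.2⟩ with hx
    have h1 : (fq x : P) * (fr x : P) = (q : P) * (r : P) := hf x
    apply Prod.ext
    · apply Subtype.ext
      show (fq x : P) * ((fq x : P)⁻¹ * (q : P)) = q
      group
    · apply Subtype.ext
      show ((fq x : P)⁻¹ * (q : P))⁻¹ * (fr x : P) = r
      have h2 : (fr x : P) = (fq x : P)⁻¹ * ((q : P) * (r : P)) := by rw [← h1]; group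
      rw [h2]; group
  · rintro ⟨x, d⟩
    have h1 : (fq x : P) * (fr x : P) = x := hf x
    have hx' : (⟨(fq x : P) * (d : P) * ((d : P)⁻¹ * (fr x : P)), Set.mul_mem_mul
        (Q.mul_mem (fq x).2 d.2.1) (R.mul_mem (R.inv_mem d.2.2) (fr x).2)⟩ :
        ((Q : Set P) * (R : Set P) : Set P)) = x := by
      apply Subtype.ext
      show (fq x : P) * (d : P) * ((d : P)⁻¹ * (fr x : P)) = x
      rw [← h1]; group
    apply Prod.ext
    · exact hx'
    · apply Subtype.ext
      show ((fq _ : Q) : P)⁻¹ * ((fq x : P) * (d : P)) = d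
      rw [hx']
      group

theorem mul_set_subset_sup (Q R : Subgroup P) : (Q : Set P) * (R : Set P) ⊆ ((Q ⊔ R : Subgroup P) : Set P) := by
  rintro _ ⟨q, hq, r, hr, rfl⟩
  exact Subgroup.mul_mem _ (Subgroup.mem_sup_left hq) (Subgroup.mem_sup_right hr)

theorem card_mul_set_le [Finite P] (Q R : Subgroup P) :
    Nat.card ((Q : Set P) * (R : Set P) : Set P) ≤ Nat.card (Q ⊔ R : Subgroup P) :=
  Nat.card_mono (Set.toFinite _) (mul_set_subset_sup Q R)

theorem mul_set_eq_of_card_eq [Finite P] (Q R : Subgroup P)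
    (h : Nat.card ((Q : Set P) * (R : Set P) : Set P) = Nat.card (Q ⊔ R : Subgroup P)) :
    ((Q ⊔ R : Subgroup P) : Set P) = (Q : Set P) * (R : Set P) := by
  symm
  apply Set.eq_of_subset_of_ncard_le (mul_set_subset_sup Q R) _ (Set.toFinite _)
  rw [← Nat.card_coe_set_eq, ← Nat.card_coe_set_eq]
  exact h.symm.le

theorem centralizer_sup_eq (Q R : Subgroup P) :
    Subgroup.centralizer ((Q ⊔ R : Subgroup P) : Set P) =
      Subgroup.centralizer (Q : Set P) ⊓ Subgroup.centralizer (R : Set P) := by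
  apply le_antisymm
  · exact le_inf (Subgroup.centralizer_le (le_sup_left : Q ≤ Q ⊔ R))
      (Subgroup.centralizer_le (le_sup_right : R ≤ Q ⊔ R))
  · rw [Subgroup.le_centralizer_iff]
    apply sup_le
    · rw [Subgroup.le_centralizer_iff]; exact inf_le_left
    · rw [Subgroup.le_centralizer_iff]; exact inf_le_right

theorem sup_centralizer_le (Q R : Subgroup P) :
    Subgroup.centralizer (Q : Set P) ⊔ Subgroup.centralizer (R : Set P) ≤
      Subgroup.centralizer ((Q ⊓ R : Subgroup P) : Set P) :=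
  sup_le (Subgroup.centralizer_le (inf_le_left : Q ⊓ R ≤ Q))
    (Subgroup.centralizer_le (inf_le_right : Q ⊓ R ≤ R))

end Cfsg.Agent.Lib.Helper5

namespace Cfsg.Agent.Lib.Helper5

variable {P : Type*} [Group P]

/-- Chermak–Delgado measure -/
noncomputable def cdm (X : Subgroup P) : ℕ := Nat.card X * Nat.card (Subgroup.centralizer (X : Set P))

theorem isCentralizerLarge_iff (X : Subgroup P) :
    Cfsg.IsCentralizerLarge X ↔ cdm X = Cfsg.maxCentralizerProduct P := Iff.rfl

theorem cdm_le_max [Finite P] (X : Subgroup P) : cdm X ≤ Cfsg.maxCentralizerProduct P := by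
  unfold Cfsg.maxCentralizerProduct
  apply le_csSup
  · refine ⟨Nat.card P * Nat.card P, ?_⟩
    rintro k ⟨R, rfl⟩
    exact Nat.mul_le_mul (Subgroup.card_le_card_group R) (Subgroup.card_le_card_group _)
  · exact ⟨X, rfl⟩

theorem nat_eq_of_mul (x y M : ℕ) (hx : x ≤ M) (hy : y ≤ M) (h : M * M ≤ x * y) (hM : 0 < M) :
    x = M ∧ y = M := by
  constructor
  · rcases lt_or_eq_of_le hx with hlt | heq
    · exfalso
      have h1 : x * y ≤ x * M := Nat.mul_le_mul_left x hy
      have h2 : x * M < M * M := Nat.mul_lt_mul_of_pos_right hlt hM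
      omega
    · exact heq
  · rcases lt_or_eq_of_le hy with hlt | heq
    · exfalso
      have h1 : x * y ≤ M * y := Nat.mul_le_mul_right y hx
      have h2 : M * y < M * M := Nat.mul_lt_mul_of_pos_left hlt hM
      omega
    · exact heq

theorem chermak_delgado [Finite P] (Q R : Subgroup P) (hQ : Cfsg.IsCentralizerLarge Q)
    (hR : Cfsg.IsCentralizerLarge R) :
    ((Q ⊔ R : Subgroup P) : Set P) = (Q : Set P) * (R : Set P) ∧ Cfsg.IsCentralizerLarge (Q ⊔ R) ∧
      Cfsg.IsCentralizerLarge (Q ⊓ R) ∧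
      Subgroup.centralizer ((Q ⊓ R : Subgroup P) : Set P) =
        Subgroup.centralizer (Q : Set P) ⊔ Subgroup.centralizer (R : Set P) := by
  set M := Cfsg.maxCentralizerProduct P with hM
  rw [isCentralizerLarge_iff] at hQ hR
  set CQ := Subgroup.centralizer (Q : Set P) with hCQ
  set CR := Subgroup.centralizer (R : Set P) with hCR
  have h1 := card_mul_card_eq_card_mul_set Q R
  have h2 := card_mul_card_eq_card_mul_set CQ CR
  have h3 := card_mul_set_le Q R
  have h4 := card_mul_set_le CQ CR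
  have h5 : Nat.card (CQ ⊔ CR : Subgroup P) ≤ Nat.card (Subgroup.centralizer ((Q ⊓ R : Subgroup P) : Set P)) :=
    Subgroup.card_le_of_le (sup_centralizer_le Q R)
  have h6 : cdm (Q ⊔ R) = Nat.card (Q ⊔ R : Subgroup P) * Nat.card (CQ ⊓ CR : Subgroup P) := by
    unfold cdm
    rw [centralizer_sup_eq]
  have h7 : cdm (Q ⊓ R) = Nat.card (Q ⊓ R : Subgroup P) *
      Nat.card (Subgroup.centralizer ((Q ⊓ R : Subgroup P) : Set P)) := rfl
  have h8 := cdm_le_max (Q ⊔ R)
  have h9 := cdm_le_max (Q ⊓ R)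
  have hQ' : Nat.card Q * Nat.card CQ = M := hQ
  have hR' : Nat.card R * Nat.card CR = M := hR
  set a := Nat.card Q
  set b := Nat.card R
  set a' := Nat.card CQ
  set b' := Nat.card CR
  set u := Nat.card ((Q : Set P) * (R : Set P) : Set P)
  set u' := Nat.card ((CQ : Set P) * (CR : Set P) : Set P)
  set c := Nat.card (Q ⊓ R : Subgroup P)
  set c' := Nat.card (CQ ⊓ CR : Subgroup P)
  set s := Nat.card (Q ⊔ R : Subgroup P)
  set s'' := Nat.card (CQ ⊔ CR : Subgroup P)
  set s' := Nat.card (Subgroup.centralizer ((Q ⊓ R : Subgroup P) : Set P))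
  have hcpos : 0 < c := Nat.card_pos
  have hc'pos : 0 < c' := Nat.card_pos
  have hapos : 0 < a := Nat.card_pos
  have ha'pos : 0 < a' := Nat.card_pos
  have hMpos : 0 < M := by rw [← hQ']; exact Nat.mul_pos hapos ha'pos
  -- M * M = (u c)(u' c')
  have hMM : M * M = (u * c) * (u' * c') := by
    rw [← h1, ← h2]
    calc M * M = (a * a') * (b * b') := by rw [hQ', hR']
      _ = (a * b) * (a' * b') := by ring
  have hle1 : (u * c) * (u' * c') ≤ (s * c) * (s' * c') :=
    Nat.mul_le_mul (Nat.mul_le_mul_right c h3) (Nat.mul_le_mul_right c' (h4.trans h5))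
  have hre : (s * c) * (s' * c') = (s * c') * (c * s') := by ring
  have hkey := nat_eq_of_mul (s * c') (c * s') M (h6 ▸ h8) (h7 ▸ h9)
    (by rw [hMM, ← hre]; exact hle1) hMpos
  -- equalities
  have heq : (u * c) * (u' * c') = (s * c) * (s' * c') := by
    apply le_antisymm hle1
    rw [hre, hkey.1, hkey.2, hMM]
  have hus : u = s ∧ u' = s' := by
    have h10 : u * u' * (c * c') = s * s' * (c * c') := by
      calc u * u' * (c * c') = (u * c) * (u' * c') := by ring
        _ = (s * c) * (s' * c') := heq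
        _ = s * s' * (c * c') := by ring
    have h11 : u * u' = s * s' := Nat.eq_of_mul_eq_mul_right (Nat.mul_pos hcpos hc'pos) h10
    have hspos : 0 < s := Nat.card_pos
    have hs'pos : 0 < s' := Nat.card_pos
    have hu' : u' ≤ s' := h4.trans h5
    constructor
    · rcases lt_or_eq_of_le h3 with hlt | h
      · exfalso
        have : u * u' < s * s' := by
          calc u * u' ≤ u * s' := Nat.mul_le_mul_left u hu'
            _ < s * s' := Nat.mul_lt_mul_of_pos_right hlt hs'pos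
        omega
      · exact h
    · rcases lt_or_eq_of_le hu' with hlt | h
      · exfalso
        have : u * u' < s * s' := by
          calc u * u' ≤ s * u' := Nat.mul_le_mul_right u' h3
            _ < s * s' := Nat.mul_lt_mul_of_pos_left hlt hspos
        omega
      · exact h
  refine ⟨mul_set_eq_of_card_eq Q R hus.1, ?_, ?_, ?_⟩
  · rw [isCentralizerLarge_iff, h6]; exact hkey.1
  · rw [isCentralizerLarge_iff, h7]; exact hkey.2
  · symm
    apply Subgroup.eq_of_le_of_card_ge (sup_centralizer_le Q R)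
    show s' ≤ s''
    rw [← hus.2]
    exact h4

theorem chermak_delgado_centralizer [Finite P] (Q : Subgroup P) (hQ : Cfsg.IsCentralizerLarge Q) :
    Cfsg.IsCentralizerLarge (Subgroup.centralizer (Q : Set P)) ∧
      Q = Subgroup.centralizer ((Subgroup.centralizer (Q : Set P) : Subgroup P) : Set P) := by
  rw [isCentralizerLarge_iff] at hQ
  set CQ := Subgroup.centralizer (Q : Set P) with hCQ
  set CCQ := Subgroup.centralizer (CQ : Set P) with hCCQ
  have hle : Q ≤ CCQ := by
    rw [hCCQ, Subgroup.le_centralizer_iff]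
  have h1 : Nat.card Q ≤ Nat.card CCQ := Subgroup.card_le_of_le hle
  have h2 := cdm_le_max CQ
  have h3 : cdm CQ = Nat.card CQ * Nat.card CCQ := rfl
  have h4 : cdm Q = Nat.card Q * Nat.card CQ := rfl
  have hpos : 0 < Nat.card CQ := Nat.card_pos
  have h5 : Nat.card CQ * Nat.card Q ≤ Nat.card CQ * Nat.card CCQ := Nat.mul_le_mul_left _ h1
  have h6 : Nat.card CQ * Nat.card CCQ = Cfsg.maxCentralizerProduct P := by
    apply le_antisymm (h3 ▸ h2)
    rw [← hQ, h4, mul_comm]
    exact h5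
  refine ⟨by rw [isCentralizerLarge_iff, h3]; exact h6, ?_⟩
  apply Subgroup.eq_of_le_of_card_ge hle
  have h7 : Nat.card CQ * Nat.card CCQ = Nat.card CQ * Nat.card Q := by
    rw [h6, ← hQ, h4, mul_comm]
  exact (Nat.eq_of_mul_eq_mul_left hpos h7).le

end Cfsg.Agent.Lib.Helper5
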