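import Mathlib

set_option autoImplicit false

namespace Cfsg.Agent.Lib.Helper5

variable {G : Type*} [Group G]

theorem conj_mem_centralizer_of_mem_normalizer (Q : Subgroup G) (n c : G)
    (hn : n ∈ Subgroup.normalizer (Q : Set G)) (hc : c ∈ Subgroup.centralizer (Q : Set G)) :
    n * c * n⁻¹ ∈ Subgroup.centralizer (Q : Set G) := by
  rw [Subgroup.mem_centralizer_iff] at hc ⊢
  intro q hq
  have h1 : n⁻¹ * q * n ∈ Q := (Subgroup.mem_normalizer_iff''.mp hn q).mp hq
  have h2 := hc _ h1
  calc q * (n * c * n⁻¹) = n * ((n⁻¹ * q * n) * c) * n⁻¹ := by group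
    _ = n * (c * (n⁻¹ * q * n)) * n⁻¹ := by rw [h2]
    _ = n * c * n⁻¹ * q := by group

theorem normalizer_le_normalizer_centralizer (Q : Subgroup G) :
    Subgroup.normalizer (Q : Set G) ≤
      Subgroup.normalizer ((Subgroup.centralizer (Q : Set G) : Subgroup G) : Set G) := by
  intro n hn
  rw [Subgroup.mem_normalizer_iff]
  intro c
  constructor
  · intro hc
    exact conj_mem_centralizer_of_mem_normalizer Q n c hn hc
  · intro hc
    have := conj_mem_centralizer_of_mem_normalizer Q n⁻¹ _ (Subgroup.inv_mem _ hn) hc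
    simpa [mul_assoc] using this

theorem le_sylow_of_normalizedBy {p : ℕ} [Fact p.Prime] (T : Sylow p G) (C : Subgroup G)
    (hC : IsPGroup p C) (hTC : (T : Subgroup G) ≤ Subgroup.normalizer (C : Set G)) :
    C ≤ (T : Subgroup G) := by
  have h1 : IsPGroup p (C ⊔ (T : Subgroup G) : Subgroup G) :=
    hC.to_sup_of_normal_left' T.isPGroup' hTC
  have h2 := T.is_maximal' h1 le_sup_right
  rw [← h2]
  exact le_sup_left

theorem mem_map_conj_iff (H : Subgroup G) (g x : G) :
    x ∈ H.map (MulAut.conj g).toMonoidHom ↔ g⁻¹ * x * g ∈ H := by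
  constructor
  · rintro ⟨y, hy, rfl⟩
    simpa [mul_assoc] using hy
  · intro h
    exact ⟨g⁻¹ * x * g, h, by simp [mul_assoc]⟩

theorem map_conj_conj (H : Subgroup G) (a b : G) :
    (H.map (MulAut.conj b).toMonoidHom).map (MulAut.conj a).toMonoidHom =
      H.map (MulAut.conj (a * b)).toMonoidHom := by
  ext x
  simp only [mem_map_conj_iff]
  have : b⁻¹ * (a⁻¹ * x * a) * b = (a * b)⁻¹ * x * (a * b) := by group
  rw [this]

theorem map_conj_one (H : Subgroup G) : H.map (MulAut.conj (1 : G)).toMonoidHom = H := by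
  ext x
  rw [mem_map_conj_iff]
  simp

theorem map_conj_inv_conj (H : Subgroup G) (g : G) :
    (H.map (MulAut.conj g).toMonoidHom).map (MulAut.conj g⁻¹).toMonoidHom = H := by
  rw [map_conj_conj, inv_mul_cancel, map_conj_one]

theorem map_conj_conj_inv (H : Subgroup G) (g : G) :
    (H.map (MulAut.conj g⁻¹).toMonoidHom).map (MulAut.conj g).toMonoidHom = H := by
  rw [map_conj_conj, mul_inv_cancel, map_conj_one]

theorem map_conj_eq_self_of_mem (H : Subgroup G) (g : G) (hg : g ∈ H) :
    H.map (MulAut.conj g).toMonoidHom = H := by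
  ext x
  rw [mem_map_conj_iff]
  constructor
  · intro h
    have : x = g * (g⁻¹ * x * g) * g⁻¹ := by group
    rw [this]
    exact H.mul_mem (H.mul_mem hg h) (H.inv_mem hg)
  · intro h
    exact H.mul_mem (H.mul_mem (H.inv_mem hg) h) hg

theorem mem_normalizer_iff_map_conj (H : Subgroup G) (g : G) :
    g ∈ Subgroup.normalizer (H : Set G) ↔ H.map (MulAut.conj g).toMonoidHom = H := by
  constructor
  · intro hg
    ext x
    rw [mem_map_conj_iff]
    exact ((Subgroup.mem_normalizer_iff''.mp hg) x).symm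
  · intro h
    rw [Subgroup.mem_normalizer_iff'']
    intro x
    rw [← mem_map_conj_iff, h]

theorem normalizer_map_conj (H : Subgroup G) (g : G) :
    Subgroup.normalizer ((H.map (MulAut.conj g).toMonoidHom : Subgroup G) : Set G) =
      (Subgroup.normalizer (H : Set G)).map (MulAut.conj g).toMonoidHom := by
  ext x
  rw [mem_map_conj_iff, mem_normalizer_iff_map_conj, mem_normalizer_iff_map_conj,
    map_conj_conj]
  constructor
  · intro h
    have h2 := congrArg (fun K : Subgroup G => K.map (MulAut.conj g⁻¹).toMonoidHom) h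
    simp only [map_conj_conj] at h2
    rw [inv_mul_cancel, map_conj_one] at h2
    have h3 : g⁻¹ * (x * g) = g⁻¹ * x * g := by group
    rw [← h3]
    exact h2
  · intro h
    have h2 := congrArg (fun K : Subgroup G => K.map (MulAut.conj g).toMonoidHom) h
    simp only [map_conj_conj] at h2
    have h3 : g * (g⁻¹ * x * g) = x * g := by group
    rw [h3] at h2
    exact h2

theorem map_conj_ne_bot (H : Subgroup G) (g : G) (h : H ≠ ⊥) :
    H.map (MulAut.conj g).toMonoidHom ≠ ⊥ := by
  intro h2
  apply h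
  rwa [Subgroup.map_eq_bot_iff_of_injective _ (MulAut.conj g).injective] at h2

theorem closure_normal_of_conj_invariant (S : Set G)
    (h : ∀ s ∈ S, ∀ g : G, g * s * g⁻¹ ∈ S) : (Subgroup.closure S).Normal := by
  constructor
  intro n hn g
  induction hn using Subgroup.closure_induction with
  | mem x hx => exact Subgroup.subset_closure (h x hx g)
  | one => simp
  | mul a b _ _ iha ihb =>
    have : g * (a * b) * g⁻¹ = (g * a * g⁻¹) * (g * b * g⁻¹) := by group
    rw [this]
    exact Subgroup.mul_mem _ iha ihb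
  | inv a _ iha =>
    have : g * a⁻¹ * g⁻¹ = (g * a * g⁻¹)⁻¹ := by group
    rw [this]
    exact Subgroup.inv_mem _ iha

theorem mem_normalizer_of_map_conj_le (N : Subgroup G) (x : G)
    (h1 : N.map (MulAut.conj x).toMonoidHom ≤ N) (h2 : N.map (MulAut.conj x⁻¹).toMonoidHom ≤ N) :
    x ∈ Subgroup.normalizer (N : Set G) := by
  rw [mem_normalizer_iff_map_conj]
  apply le_antisymm h1
  have := Subgroup.map_mono (f := (MulAut.conj x).toMonoidHom) h2
  rwa [map_conj_conj_inv] at this

end Cfsg.Agent.Lib.Helper5
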