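import Cfsg.Agent.Lib.Helper5.YL
import Cfsg.Agent.Lib.Helper5.Basic

set_option autoImplicit false
open Cfsg

namespace Cfsg.Agent.Lib.Helper5

variable {H : Type*} [Group H] {p : ℕ}

theorem normalizer_inf_le_normalizer_sup (A B : Subgroup H) :
    Subgroup.normalizer (A : Set H) ⊓ Subgroup.normalizer (B : Set H) ≤
      Subgroup.normalizer ((A ⊔ B : Subgroup H) : Set H) := by
  intro g hg
  rw [mem_normalizer_iff_map_conj, Subgroup.map_sup,
    (mem_normalizer_iff_map_conj A g).mp hg.1, (mem_normalizer_iff_map_conj B g).mp hg.2]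

theorem mem_sup_of_le_normalizer (A C : Subgroup H)
    (hA : A ≤ Subgroup.normalizer (C : Set H)) (x : H) :
    x ∈ A ⊔ C ↔ ∃ a ∈ A, ∃ c ∈ C, x = a * c := by
  constructor
  · intro hx
    let K : Subgroup H :=
      { carrier := {x | ∃ a ∈ A, ∃ c ∈ C, x = a * c}
        one_mem' := ⟨1, A.one_mem, 1, C.one_mem, by simp⟩
        mul_mem' := by
          rintro _ _ ⟨a, ha, c, hc, rfl⟩ ⟨a', ha', c', hc', rfl⟩
          refine ⟨a * a', A.mul_mem ha ha', (a'⁻¹ * c * a') * c', C.mul_mem ?_ hc', by group⟩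
          have := (Subgroup.mem_normalizer_iff''.mp (hA ha')) c
          exact this.mp hc
        inv_mem' := by
          rintro _ ⟨a, ha, c, hc, rfl⟩
          refine ⟨a⁻¹, A.inv_mem ha, a * c⁻¹ * a⁻¹, ?_, by group⟩
          have := (Subgroup.mem_normalizer_iff.mp (hA ha)) c⁻¹
          exact this.mp (C.inv_mem hc) }
    have hK : A ⊔ C ≤ K := by
      apply sup_le
      · intro a ha
        exact ⟨a, ha, 1, C.one_mem, by simp⟩
      · intro c hc
        exact ⟨1, A.one_mem, c, hc, by simp⟩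
    exact hK hx
  · rintro ⟨a, ha, c, hc, rfl⟩
    exact Subgroup.mul_mem _ (Subgroup.mem_sup_left ha) (Subgroup.mem_sup_right hc)

theorem pow_mul_mem_of_mem_normalizer (C : Subgroup H) (d c : H)
    (hd : d ∈ Subgroup.normalizer (C : Set H)) (hc : c ∈ C) (n : ℕ) :
    ∃ c' ∈ C, (d * c) ^ n = d ^ n * c' := by
  induction n with
  | zero => exact ⟨1, C.one_mem, by simp⟩
  | succ n ih =>
    obtain ⟨c', hc', h⟩ := ih
    refine ⟨(d⁻¹ * c' * d) * c, C.mul_mem ?_ hc, ?_⟩
    · exact ((Subgroup.mem_normalizer_iff''.mp hd) c').mp hc'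
    · rw [pow_succ, h, pow_succ]; group

/-- Transfer of `p`-reducedness: if `L C_H(Y) = M C_H(Y)` and `Y` is `p`-reduced for `M`
then it is `p`-reduced for `L`. -/
theorem pRedOf_transfer (L M Y : Subgroup H)
    (hMn : M ≤ Subgroup.normalizer (Y : Set H)) (hr : PRedOf p M Y)
    (hsup : L ⊔ Subgroup.centralizer (Y : Set H) = M ⊔ Subgroup.centralizer (Y : Set H)) :
    L ≤ Subgroup.normalizer (Y : Set H) ∧ PRedOf p L Y := by
  set C := Subgroup.centralizer (Y : Set H) with hC
  have hCN : C ≤ Subgroup.normalizer (Y : Set H) := Subgroup.centralizer_le_normalizer _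
  have hNC : Subgroup.normalizer (Y : Set H) ≤ Subgroup.normalizer (C : Set H) :=
    normalizer_le_normalizer_centralizer Y
  have hLN : L ≤ Subgroup.normalizer (Y : Set H) := by
    refine le_trans le_sup_left (hsup.le.trans (sup_le hMn hCN))
  refine ⟨hLN, ?_⟩
  intro D hDL hDn hDp
  set E := (D ⊔ C) ⊓ M with hE
  have hDNC : D ≤ Subgroup.normalizer (C : Set H) := (hDL.trans hLN).trans hNC
  have hLDC : L ⊔ C ≤ Subgroup.normalizer ((D ⊔ C : Subgroup H) : Set H) := by
    apply sup_le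
    · exact le_trans (le_inf hDn (hLN.trans hNC)) (normalizer_inf_le_normalizer_sup D C)
    · exact le_trans le_sup_right Subgroup.le_normalizer
  have hME : M ≤ Subgroup.normalizer (E : Set H) := by
    refine le_trans ?_ Subgroup.inf_normalizer_le_normalizer_inf
    refine le_inf ?_ Subgroup.le_normalizer
    exact le_trans le_sup_left (hsup.symm.le.trans hLDC)
  have hEC : E ≤ C := by
    apply hr E inf_le_right hME
    intro e he
    obtain ⟨d, hd, c, hc, rfl⟩ := (mem_sup_of_le_normalizer D C hDNC e).mp he.1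
    obtain ⟨k, hk⟩ := hDp d hd
    obtain ⟨c', hc', h⟩ := pow_mul_mem_of_mem_normalizer C d c (hDNC hd) hc (p ^ k)
    exact ⟨k, by rw [h]; exact C.mul_mem hk hc'⟩
  intro d hd
  have h1 : d ∈ M ⊔ C := hsup.le (Subgroup.mem_sup_left (hDL hd))
  obtain ⟨m, hm, c, hc, rfl⟩ := (mem_sup_of_le_normalizer M C (hMn.trans hNC) _).mp h1
  have hmE : m ∈ E := by
    refine ⟨?_, hm⟩
    have : m = (m * c) * c⁻¹ := by group
    rw [this]
    exact Subgroup.mul_mem _ (Subgroup.mem_sup_left hd) (Subgroup.mem_sup_right (C.inv_mem hc))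
  exact C.mul_mem (hEC hmE) hc


theorem pCoreOf_le_sylow' [Fact p.Prime] (T : Sylow p H) (M : Subgroup H)
    (hTM : (T : Subgroup H) ≤ M) : Cfsg.pCoreOf p M ≤ T := by
  have h1 := pCore_le_sylow (T.subtype hTM)
  rintro _ ⟨d, hd, rfl⟩
  have h2 := h1 hd
  rw [Sylow.coe_subtype] at h2
  exact Subgroup.mem_subgroupOf.mp h2

/-- `Y_M ≤ Y_L` whenever `L C_H(Y_M) = M C_H(Y_M)`, `T ≤ L ∩ M` and `M` has characteristic `p`. -/
theorem largestPReducedOf_le_of_sup_eq [Finite H] [Fact p.Prime] (T : Sylow p H) (L M : Subgroup H)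
    (hTL : (T : Subgroup H) ≤ L) (hTM : (T : Subgroup H) ≤ M)
    (hM : Subgroup.centralizer (Cfsg.pCore p ↥M : Set ↥M) ≤ Cfsg.pCore p ↥M)
    (hsup : L ⊔ Subgroup.centralizer (((Cfsg.largestPReducedOf p M) : Subgroup H) : Set H) =
      M ⊔ Subgroup.centralizer (((Cfsg.largestPReducedOf p M) : Subgroup H) : Set H)) :
    Cfsg.largestPReducedOf p M ≤ Cfsg.largestPReducedOf p L := by
  obtain ⟨hn, he, hr⟩ := largestPReducedOf_spec (p := p) M hM
  have hYM : Cfsg.largestPReducedOf p M ≤ M := largestPReducedOf_le M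
  have hYL : Cfsg.largestPReducedOf p M ≤ L :=
    ((le_pCoreOf M _ hYM hn (isPGroup_of_isElementaryAbelian _ he)).trans
      (pCoreOf_le_sylow' T M hTM)).trans hTL
  obtain ⟨hLn, hrL⟩ := pRedOf_transfer L M _ hn hr hsup
  exact le_largestPReducedOf L _ hYL hLn he hrL

end Cfsg.Agent.Lib.Helper5
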