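import Cfsg.Agent.Lib.Helper5.CopGen2
import Cfsg.Agent.Lib.Helper5.YL2
import Cfsg.Agent.Lib.Helper5.CD

set_option autoImplicit false
open scoped commutatorElement

namespace Cfsg.Agent.Lib.Helper5

variable {H : Type*} [Group H]

theorem zpowers_inf_eq_bot_of_not_mem [Finite H] {p : ℕ} [Fact p.Prime] (D : Subgroup H) (e : H)
    (hep : e ^ p = 1) (heD : e ∉ D) : Subgroup.zpowers e ⊓ D = ⊥ := by
  rw [eq_bot_iff]
  rintro x ⟨hxz, hxD⟩
  rw [Subgroup.mem_bot]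
  by_contra hx1
  apply heD
  have he1 : e ≠ 1 := fun h => heD (h ▸ D.one_mem)
  have hxp : x ^ p = 1 := by
    obtain ⟨k, rfl⟩ := hxz
    show (e ^ k) ^ p = 1
    rw [← zpow_natCast, ← zpow_mul, mul_comm, zpow_mul, zpow_natCast, hep, one_zpow]
  have hle : Subgroup.zpowers x ≤ Subgroup.zpowers e := Subgroup.zpowers_le.mpr hxz
  have heq : Subgroup.zpowers x = Subgroup.zpowers e :=
    Subgroup.eq_of_le_of_card_ge hle (by
      rw [Nat.card_zpowers, Nat.card_zpowers, orderOf_eq_prime hep he1, orderOf_eq_prime hxp hx1])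
  have : e ∈ Subgroup.zpowers x := heq ▸ Subgroup.mem_zpowers e
  exact (Subgroup.zpowers_le.mpr hxD) this

theorem le_normalizer_of_comm (A Z D : Subgroup H) (hcomm : ∀ a ∈ A, ∀ b ∈ A, a * b = b * a)
    (hZ : Z ≤ A) (hD : D ≤ A) : Z ≤ Subgroup.normalizer (D : Set H) := by
  refine le_trans ?_ (Subgroup.centralizer_le_normalizer (D : Set H))
  intro z hz
  rw [Subgroup.mem_centralizer_iff]
  intro d hd
  exact hcomm d (hD hd) z (hZ hz)

theorem card_zpowers_of_exp {p : ℕ} [Fact p.Prime] (e : H) (hep : e ^ p = 1) (he1 : e ≠ 1) :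
    Nat.card (Subgroup.zpowers e) = p := by
  rw [Nat.card_zpowers, orderOf_eq_prime hep he1]

theorem exists_rank_two_disjoint [Finite H] {p : ℕ} [Fact p.Prime] (A D : Subgroup H)
    (hcommA : ∀ a ∈ A, ∀ b ∈ A, a * b = b * a) (hexp : ∀ a ∈ A, a ^ p = 1) (hDA : D ≤ A)
    (hidx : p * Nat.card D < Nat.card A) :
    ∃ E : Subgroup H, E ≤ A ∧ Nat.card E = p ^ 2 ∧ E ⊓ D = ⊥ := by
  have hp : p.Prime := Fact.out
  have hDltA : D < A := by
    refine lt_of_le_of_ne hDA ?_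
    intro h
    rw [h] at hidx
    have : Nat.card A ≤ p * Nat.card A := Nat.le_mul_of_pos_left _ hp.pos
    omega
  obtain ⟨e₁, he₁A, he₁D⟩ := SetLike.exists_of_lt hDltA
  have he₁1 : e₁ ≠ 1 := fun h => he₁D (h ▸ D.one_mem)
  set Z₁ := Subgroup.zpowers e₁ with hZ₁
  have hZ₁A : Z₁ ≤ A := Subgroup.zpowers_le.mpr he₁A
  have hZ₁D : Z₁ ⊓ D = ⊥ := zpowers_inf_eq_bot_of_not_mem D e₁ (hexp _ he₁A) he₁D
  have hcard₁ : Nat.card (Z₁ ⊔ D : Subgroup H) = p * Nat.card D := by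
    have := Cfsg.Agent.Lib.Helper2.card_sup_mul_card_inf Z₁ D
      (le_normalizer_of_comm A Z₁ D hcommA hZ₁A hDA)
    rw [hZ₁D, Subgroup.card_bot, mul_one, card_zpowers_of_exp e₁ (hexp _ he₁A) he₁1] at this
    exact this
  set D₁ := Z₁ ⊔ D with hD₁
  have hD₁A : D₁ ≤ A := sup_le hZ₁A hDA
  have hD₁ltA : D₁ < A := by
    refine lt_of_le_of_ne hD₁A ?_
    intro h
    rw [h] at hcard₁
    omega
  obtain ⟨e₂, he₂A, he₂D⟩ := SetLike.exists_of_lt hD₁ltA
  have he₂1 : e₂ ≠ 1 := fun h => he₂D (h ▸ D₁.one_mem)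
  set Z₂ := Subgroup.zpowers e₂ with hZ₂
  have hZ₂A : Z₂ ≤ A := Subgroup.zpowers_le.mpr he₂A
  have hZ₂D : Z₂ ⊓ D₁ = ⊥ := zpowers_inf_eq_bot_of_not_mem D₁ e₂ (hexp _ he₂A) he₂D
  have hZ₁₂ : Z₁ ⊓ Z₂ = ⊥ := by
    rw [eq_bot_iff, ← hZ₂D, inf_comm]
    exact inf_le_inf_left _ le_sup_left
  have hnorm : Z₁ ≤ Subgroup.normalizer (Z₂ : Set H) :=
    le_normalizer_of_comm A Z₁ Z₂ hcommA hZ₁A hZ₂A
  refine ⟨Z₁ ⊔ Z₂, sup_le hZ₁A hZ₂A, ?_, ?_⟩
  · have := Cfsg.Agent.Lib.Helper2.card_sup_mul_card_inf Z₁ Z₂ hnorm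
    rw [hZ₁₂, Subgroup.card_bot, mul_one, card_zpowers_of_exp e₁ (hexp _ he₁A) he₁1,
      card_zpowers_of_exp e₂ (hexp _ he₂A) he₂1] at this
    rw [this, sq]
  · rw [eq_bot_iff]
    rintro x ⟨hxE, hxD⟩
    obtain ⟨z₁, hz₁, z₂, hz₂, rfl⟩ := (mem_sup_of_le_normalizer Z₁ Z₂ hnorm x).mp hxE
    have hz₂D₁ : z₂ ∈ D₁ := by
      have h1 : z₁⁻¹ * (z₁ * z₂) ∈ D₁ :=
        D₁.mul_mem (D₁.inv_mem (Subgroup.mem_sup_left hz₁)) (Subgroup.mem_sup_right hxD)
      simpa using h1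
    have hz₂1 : z₂ = 1 := by
      have : z₂ ∈ Z₂ ⊓ D₁ := ⟨hz₂, hz₂D₁⟩
      rw [hZ₂D] at this
      exact Subgroup.mem_bot.mp this
    subst hz₂1
    have : z₁ * 1 ∈ Z₁ ⊓ D := ⟨by simpa using hz₁, hxD⟩
    rw [hZ₁D] at this
    exact this

theorem mem_normalizer_inf (X Y : Subgroup H) (a : H) (hX : a ∈ Subgroup.normalizer (X : Set H))
    (hY : a ∈ Subgroup.normalizer (Y : Set H)) : a ∈ Subgroup.normalizer ((X ⊓ Y : Subgroup H) : Set H) := by
  rw [Subgroup.mem_normalizer_iff] at hX hY ⊢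
  intro h
  rw [Subgroup.mem_inf, Subgroup.mem_inf, ← hX h, ← hY h]

/-- **hyperplane generation** -/
theorem le_iSup_hyperplane [Finite H] (p : ℕ) [Fact p.Prime] (A X : Subgroup H)
    (hcommA : ∀ a ∈ A, ∀ b ∈ A, a * b = b * a) (hexp : ∀ a ∈ A, a ^ p = 1)
    (hX : ¬ p ∣ Nat.card X) (hAX : A ≤ Subgroup.normalizer (X : Set H)) :
    ∀ m : ℕ, ∀ D : Subgroup H, D ≤ A → Nat.card A - Nat.card D = m →
      X ⊓ Subgroup.centralizer (D : Set H) ≤
        ⨆ B : {B : Subgroup H // B ≤ A ∧ B.relIndex A ≤ p},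
          X ⊓ Subgroup.centralizer ((B : Subgroup H) : Set H) := by
  have hp : p.Prime := Fact.out
  intro m
  induction m using Nat.strong_induction_on with
  | _ m ih =>
  intro D hDA hm
  by_cases hrel : D.relIndex A ≤ p
  · exact le_iSup (fun B : {B : Subgroup H // B ≤ A ∧ B.relIndex A ≤ p} =>
      X ⊓ Subgroup.centralizer ((B : Subgroup H) : Set H)) ⟨D, hDA, hrel⟩
  rw [not_le] at hrel
  have hcardDA : Nat.card D * D.relIndex A = Nat.card A := by
    have := Subgroup.relIndex_mul_relIndex ⊥ D A bot_le hDA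
    rwa [Subgroup.relIndex_bot_left, Subgroup.relIndex_bot_left] at this
  have hidx : p * Nat.card D < Nat.card A := by
    rw [← hcardDA, mul_comm]
    exact Nat.mul_lt_mul_of_pos_left hrel Nat.card_pos
  obtain ⟨E, hEA, hEcard, hED⟩ := exists_rank_two_disjoint A D hcommA hexp hDA hidx
  set X' := X ⊓ Subgroup.centralizer (D : Set H) with hX'
  have hEX' : E ≤ Subgroup.normalizer (X' : Set H) := by
    intro a ha
    apply mem_normalizer_inf
    · exact hAX (hEA ha)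
    · exact normalizer_le_normalizer_centralizer D
        (le_normalizer_of_comm A A D hcommA le_rfl hDA (hEA ha))
  have hX'p : ¬ p ∣ Nat.card X' := fun h => hX (h.trans (Subgroup.card_dvd_of_le inf_le_left))
  refine (le_genC E (fun e he => hexp e (hEA he)) hEcard X' hEX' hX'p).trans ?_
  unfold genC
  apply iSup₂_le
  intro e he
  have heD : e ∉ D := by
    intro h
    have : e ∈ E ⊓ D := ⟨he.1, h⟩
    rw [hED] at this
    exact he.2 (Subgroup.mem_bot.mp this)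
  set D' := D ⊔ Subgroup.zpowers e with hD'
  have hD'A : D' ≤ A := sup_le hDA (Subgroup.zpowers_le.mpr (hEA he.1))
  have hlt : D < D' := by
    refine lt_of_le_of_ne le_sup_left ?_
    intro h
    apply heD
    rw [h]
    exact Subgroup.mem_sup_right (Subgroup.mem_zpowers e)
  have hcardlt : Nat.card D < Nat.card D' := card_lt_of_lt hlt
  have hcardle : Nat.card D' ≤ Nat.card A := Subgroup.card_le_of_le hD'A
  have hle : X' ⊓ Subgroup.centralizer ({e} : Set H) ≤ X ⊓ Subgroup.centralizer (D' : Set H) := by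
    rw [hD', centralizer_sup_eq, Subgroup.zpowers_eq_closure, Subgroup.centralizer_closure, hX',
      inf_assoc]
  exact hle.trans (ih (Nat.card A - Nat.card D') (by omega) D' hD'A rfl)

end Cfsg.Agent.Lib.Helper5
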