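import Mathlib

set_option autoImplicit false

namespace Cfsg.Agent.Lib.Helper5

variable {G : Type*} [Group G] {p : ℕ}

theorem exists_mem_normalizer_not_mem [Fact p.Prime] (A B : Subgroup G) [Finite B]
    (hB : IsPGroup p B) (hAB : A < B) :
    ∃ x ∈ B, x ∈ Subgroup.normalizer (A : Set G) ∧ x ∉ A := by
  haveI : Group.IsNilpotent B := hB.isNilpotent
  have hnc : NormalizerCondition B := Group.normalizerCondition_of_isNilpotent
  have hlt : A.subgroupOf B < ⊤ := by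
    rw [lt_top_iff_ne_top]
    intro h
    rw [Subgroup.subgroupOf_eq_top] at h
    exact absurd hAB (not_lt_of_ge h)
  have h1 := hnc _ hlt
  rw [← Subgroup.subgroupOf_normalizer_eq hAB.le] at h1
  obtain ⟨x, hx1, hx2⟩ := SetLike.exists_of_lt h1
  refine ⟨x, x.2, ?_, ?_⟩
  · rwa [Subgroup.mem_subgroupOf] at hx1
  · rwa [Subgroup.mem_subgroupOf] at hx2

def IsMaxPIn (p : ℕ) (M S : Subgroup G) : Prop :=
  S ≤ M ∧ IsPGroup p S ∧ ∀ B : Subgroup G, IsPGroup p B → B ≤ M → S ≤ B → B = S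

theorem isMaxPIn_of_sylow (M : Subgroup G) (S : Sylow p M) :
    IsMaxPIn p M ((S : Subgroup M).map M.subtype) := by
  refine ⟨Subgroup.map_subtype_le _, S.isPGroup'.map _, ?_⟩
  intro B hB hBM hSB
  have h1 : IsPGroup p (B.subgroupOf M) := hB.comap_of_injective M.subtype M.subtype_injective
  have h2 : (S : Subgroup M) ≤ B.subgroupOf M := by
    intro x hx
    rw [Subgroup.mem_subgroupOf]
    exact hSB ⟨x, hx, rfl⟩
  have h3 := S.is_maximal' h1 h2
  rw [← h3, Subgroup.subgroupOf_map_subtype, inf_of_le_left hBM]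

theorem IsMaxPIn.exists_sylow {M S : Subgroup G} (h : IsMaxPIn p M S) :
    ∃ P : Sylow p M, (P : Subgroup M).map M.subtype = S := by
  obtain ⟨hSM, hSp, hmax⟩ := h
  have h1 : IsPGroup p (S.subgroupOf M) := hSp.comap_of_injective M.subtype M.subtype_injective
  obtain ⟨P, hP⟩ := h1.exists_le_sylow
  refine ⟨P, ?_⟩
  apply hmax _ (P.isPGroup'.map _) (Subgroup.map_subtype_le _)
  intro x hx
  exact ⟨⟨x, hSM hx⟩, hP (by rwa [Subgroup.mem_subgroupOf]), rfl⟩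

theorem exists_isMaxPIn_ge (M A : Subgroup G) (hA : IsPGroup p A) (hAM : A ≤ M) :
    ∃ S : Subgroup G, IsMaxPIn p M S ∧ A ≤ S := by
  have h1 : IsPGroup p (A.subgroupOf M) := hA.comap_of_injective M.subtype M.subtype_injective
  obtain ⟨P, hP⟩ := h1.exists_le_sylow
  refine ⟨_, isMaxPIn_of_sylow M P, ?_⟩
  intro x hx
  exact ⟨⟨x, hAM hx⟩, hP (by rwa [Subgroup.mem_subgroupOf]), rfl⟩

theorem IsMaxPIn.conj [Fact p.Prime] {M S₁ S₂ : Subgroup G} [Finite M] (h₁ : IsMaxPIn p M S₁)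
    (h₂ : IsMaxPIn p M S₂) : ∃ m ∈ M, S₁.map (MulAut.conj m).toMonoidHom = S₂ := by
  obtain ⟨P₁, hP₁⟩ := h₁.exists_sylow
  obtain ⟨P₂, hP₂⟩ := h₂.exists_sylow
  obtain ⟨m, hm⟩ := MulAction.exists_smul_eq M P₁ P₂
  refine ⟨m, m.2, ?_⟩
  rw [← hP₁, ← hP₂, ← hm]
  ext x
  constructor
  · rintro ⟨y, ⟨z, hz, rfl⟩, rfl⟩
    refine ⟨m * z * m⁻¹, ?_, by simp⟩
    rw [Sylow.smul_def, Sylow.pointwise_smul_def]
    exact ⟨z, hz, by simp⟩
  · rintro ⟨y, hy, rfl⟩
    rw [Sylow.smul_def, Sylow.pointwise_smul_def] at hy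
    obtain ⟨z, hz, rfl⟩ := hy
    exact ⟨z, ⟨z, hz, rfl⟩, by simp⟩

theorem isMaxPIn_top_iff (S : Subgroup G) :
    IsMaxPIn p ⊤ S ↔ ∃ P : Sylow p G, (P : Subgroup G) = S := by
  constructor
  · rintro ⟨_, hSp, hmax⟩
    exact ⟨⟨S, hSp, fun {Q} hQ hSQ => hmax Q hQ le_top hSQ⟩, rfl⟩
  · rintro ⟨P, rfl⟩
    exact ⟨le_top, P.isPGroup', fun B hB _ hPB => P.is_maximal' hB hPB⟩

theorem IsMaxPIn.map_conj {M S : Subgroup G} (h : IsMaxPIn p M S) (g : G) :
    IsMaxPIn p (M.map (MulAut.conj g).toMonoidHom) (S.map (MulAut.conj g).toMonoidHom) := by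
  obtain ⟨hSM, hSp, hmax⟩ := h
  refine ⟨Subgroup.map_mono hSM, hSp.map _, ?_⟩
  intro B hB hBM hSB
  have h1 : B.map (MulAut.conj g⁻¹).toMonoidHom = S := by
    apply hmax _ (hB.map _)
    · rintro _ ⟨b, hb, rfl⟩
      obtain ⟨m, hm, hmb⟩ := hBM hb
      rw [← hmb]
      simpa [mul_assoc] using hm
    · intro s hs
      refine ⟨g * s * g⁻¹, hSB ⟨s, hs, by simp⟩, ?_⟩
      simp [mul_assoc]
  rw [← h1, Subgroup.map_map]
  ext x
  constructor
  · intro hx
    exact ⟨x, hx, by simp [mul_assoc]⟩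
  · rintro ⟨y, hy, rfl⟩
    simpa [mul_assoc] using hy

theorem exists_central_of_normal_pgroup [Fact p.Prime] {R : Type*} [Group R] [Finite R]
    (hR : IsPGroup p R) (Q : Subgroup R) [hQn : Q.Normal] (hQ : Q ≠ ⊥) :
    ∃ z ∈ Q, z ≠ 1 ∧ z ∈ Subgroup.center R := by
  have hR' : IsPGroup p (ConjAct R) := hR.of_equiv ConjAct.toConjAct
  have hdvd : p ∣ Nat.card Q := by
    rcases (hR.to_subgroup Q).card_eq_or_dvd with h | h
    · exact absurd (Subgroup.card_eq_one.mp h) hQ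
    · exact h
  have h1 : (1 : Q) ∈ MulAction.fixedPoints (ConjAct R) Q := by
    intro g
    exact smul_one g
  obtain ⟨b, hb, hb1⟩ := hR'.exists_fixed_point_of_prime_dvd_card_of_fixed_point Q hdvd h1
  refine ⟨b, b.2, fun h => hb1 (Subtype.ext h.symm), ?_⟩
  rw [Subgroup.mem_center_iff]
  intro r
  have h2 := hb (ConjAct.toConjAct r)
  have h3 := congrArg Subtype.val h2
  rw [ConjAct.Subgroup.val_conj_smul, ConjAct.toConjAct_smul] at h3
  calc r * (b : R) = r * b * r⁻¹ * r := by group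
    _ = b * r := by rw [h3]

theorem exists_central_of_normalizedBy [Fact p.Prime] (Q R : Subgroup G) [Finite R]
    (hR : IsPGroup p R) (hQR : Q ≤ R) (hRN : R ≤ Subgroup.normalizer (Q : Set G)) (hQ : Q ≠ ⊥) :
    ∃ z ∈ Q, z ≠ 1 ∧ ∀ r ∈ R, r * z = z * r := by
  haveI : (Q.subgroupOf R).Normal := by
    constructor
    intro n hn r
    rw [Subgroup.mem_subgroupOf] at hn ⊢
    have := (Subgroup.mem_normalizer_iff.mp (hRN r.2) n.1).mp hn
    simpa using this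
  have hne : Q.subgroupOf R ≠ ⊥ := by
    intro h
    rw [Subgroup.subgroupOf_eq_bot] at h
    apply hQ
    have := h.eq_bot
    rwa [inf_of_le_left hQR] at this
  obtain ⟨z, hz, hz1, hzc⟩ := exists_central_of_normal_pgroup hR (Q.subgroupOf R) hne
  refine ⟨z.1, by rwa [Subgroup.mem_subgroupOf] at hz, fun h => hz1 (Subtype.ext h), ?_⟩
  intro r hr
  rw [Subgroup.mem_center_iff] at hzc
  have := hzc ⟨r, hr⟩
  exact congrArg Subtype.val this

end Cfsg.Agent.Lib.Helper5
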