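import Cfsg.Prelude.Def_Amalgam
import Cfsg.Agent.Lib.Helper5.MaxP
import Cfsg.Agent.Lib.Helper5.Basic

set_option autoImplicit false
open Cfsg

namespace Cfsg.Agent.Lib.Helper5

variable {G : Type*} [Group G] {p : ℕ}

theorem exists_orderOf_eq_prime_of_ne_bot [Fact p.Prime] (Q : Subgroup G) (hQ : IsPGroup p Q)
    (hne : Q ≠ ⊥) : ∃ y ∈ Q, orderOf y = p := by
  have hp : p.Prime := Fact.out
  obtain ⟨x, hx, hx1⟩ : ∃ x ∈ Q, x ≠ 1 := by
    obtain ⟨x, hx⟩ := Q.ne_bot_iff_exists_ne_one.mp hne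
    exact ⟨x.1, x.2, fun h => hx (Subtype.ext h)⟩
  obtain ⟨k, hk⟩ := hQ ⟨x, hx⟩
  have hk' : x ^ p ^ k = 1 := by
    have := congrArg Subtype.val hk
    simpa using this
  have hfin : IsOfFinOrder x := isOfFinOrder_iff_pow_eq_one.mpr ⟨p ^ k, pow_pos hp.pos k, hk'⟩
  have hdvd : orderOf x ∣ p ^ k := orderOf_dvd_of_pow_eq_one hk'
  obtain ⟨j, _, hj⟩ := (Nat.dvd_prime_pow hp).mp hdvd
  have hj0 : j ≠ 0 := by
    intro h
    rw [h, pow_zero, orderOf_eq_one_iff] at hj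
    exact hx1 hj
  obtain ⟨i, rfl⟩ := Nat.exists_eq_succ_of_ne_zero hj0
  refine ⟨x ^ p ^ i, Q.pow_mem hx _, ?_⟩
  rw [orderOf_pow' x (pow_ne_zero _ hp.ne_zero), hj, Nat.gcd_eq_right (pow_dvd_pow p (Nat.le_succ i)),
    pow_succ, Nat.mul_div_cancel_left _ (pow_pos hp.pos i)]

theorem not_pRankLE_zero_iff [Fact p.Prime] (Q : Subgroup G) (hQ : IsPGroup p Q) :
    ¬ Cfsg.PRankLE p 0 ↥Q ↔ Q ≠ ⊥ := by
  have hp : p.Prime := Fact.out
  constructor
  · intro h hQ1
    apply h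
    intro A _ _
    subst hQ1
    rw [pow_zero]
    haveI : Subsingleton (⊥ : Subgroup G) := inferInstance
    exact le_of_eq (Nat.card_unique)
  · intro hne h
    obtain ⟨y, hy, hyo⟩ := exists_orderOf_eq_prime_of_ne_bot Q hQ hne
    have h1 := h (Subgroup.zpowers (⟨y, hy⟩ : Q)) inferInstance (by
      intro a ha
      rw [Subgroup.mem_zpowers_iff] at ha
      obtain ⟨n, rfl⟩ := ha
      rw [← zpow_natCast, ← zpow_mul, mul_comm, zpow_mul, zpow_natCast]
      have : (⟨y, hy⟩ : Q) ^ p = 1 := by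
        apply Subtype.ext
        simp only [Subgroup.coe_pow, Subgroup.coe_one]
        rw [← hyo]
        exact pow_orderOf_eq_one y
      rw [this, one_zpow])
    rw [Nat.card_zpowers, pow_zero] at h1
    have h2 : orderOf (⟨y, hy⟩ : Q) = p := by
      rw [← Subgroup.orderOf_coe]
      exact hyo
    rw [h2] at h1
    exact absurd h1 (not_le_of_gt hp.one_lt)

theorem kGeneratedCore_one_le_iff [Fact p.Prime] (P Y : Subgroup G) (hP : IsPGroup p P) :
    Cfsg.kGeneratedCore p 1 P ≤ Y ↔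
      ∀ Q : Subgroup G, Q ≤ P → Q ≠ ⊥ → Subgroup.normalizer (Q : Set G) ≤ Y := by
  unfold Cfsg.kGeneratedCore
  rw [iSup_le_iff]
  constructor
  · intro h Q hQP hQ1
    exact h ⟨Q, hQP, (not_pRankLE_zero_iff Q (hP.to_le hQP)).mpr hQ1⟩
  · rintro h ⟨Q, hQP, hQr⟩
    exact h Q hQP ((not_pRankLE_zero_iff Q (hP.to_le hQP)).mp hQr)

def NormCond (p : ℕ) (M : Subgroup G) : Prop :=
  ∀ A : Subgroup G, A ≤ M → IsPGroup p ↥A → A ≠ ⊥ → Subgroup.normalizer (A : Set G) ≤ M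

theorem NormCond.map_conj {M : Subgroup G} (h : NormCond p M) (g : G) :
    NormCond p (M.map (MulAut.conj g).toMonoidHom) := by
  intro A hAM hAp hA1
  have h1 : A.map (MulAut.conj g⁻¹).toMonoidHom ≤ M := by
    have := Subgroup.map_mono (f := (MulAut.conj g⁻¹).toMonoidHom) hAM
    rwa [map_conj_inv_conj] at this
  have h2 := h _ h1 (hAp.map _) (map_conj_ne_bot A g⁻¹ hA1)
  rw [normalizer_map_conj] at h2
  have h3 := Subgroup.map_mono (f := (MulAut.conj g).toMonoidHom) h2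
  rwa [map_conj_conj_inv] at h3

theorem isMaxPIn_of_inf [Fact p.Prime] [Finite G] {M M' A : Subgroup G} (hM : NormCond p M)
    (hM' : NormCond p M') (hA : IsMaxPIn p (M ⊓ M') A) (hA1 : A ≠ ⊥) : IsMaxPIn p M A := by
  obtain ⟨hAD, hAp, hmax⟩ := hA
  refine ⟨hAD.trans inf_le_left, hAp, ?_⟩
  intro B hB hBM hAB
  by_contra hne
  have hlt : A < B := lt_of_le_of_ne hAB (fun h => hne h.symm)
  obtain ⟨x, hxB, hxN, hxA⟩ := exists_mem_normalizer_not_mem A B hB hlt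
  have hxM : x ∈ M := hM A (hAD.trans inf_le_left) hAp hA1 hxN
  have hxM' : x ∈ M' := hM' A (hAD.trans inf_le_right) hAp hA1 hxN
  have h1 : A ⊔ Subgroup.zpowers x ≤ B := sup_le hAB (by rw [Subgroup.zpowers_le]; exact hxB)
  have h2 : A ⊔ Subgroup.zpowers x ≤ M ⊓ M' :=
    sup_le hAD (by rw [Subgroup.zpowers_le]; exact ⟨hxM, hxM'⟩)
  have h3 := hmax _ (hB.to_le h1) h2 le_sup_left
  apply hxA
  rw [← h3]
  exact (le_sup_right : Subgroup.zpowers x ≤ A ⊔ Subgroup.zpowers x) (Subgroup.mem_zpowers x)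

theorem NormCond.isMaxPIn_top [Fact p.Prime] [Finite G] {M S : Subgroup G} (hM : NormCond p M)
    (hS : IsMaxPIn p M S) (hS1 : S ≠ ⊥) : IsMaxPIn p ⊤ S := by
  have h1 : NormCond p (⊤ : Subgroup G) := fun _ _ _ _ => le_top
  have h2 : IsMaxPIn p (⊤ ⊓ M) S := by rwa [top_inf_eq]
  exact isMaxPIn_of_inf h1 hM h2 hS1

theorem exists_isMaxPIn_ne_bot [Fact p.Prime] (D : Subgroup G) [Finite D] (hD : p ∣ Nat.card D) :
    ∃ A : Subgroup G, IsMaxPIn p D A ∧ A ≠ ⊥ := by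
  obtain ⟨P⟩ : Nonempty (Sylow p D) := Sylow.nonempty
  refine ⟨_, isMaxPIn_of_sylow D P, ?_⟩
  intro h
  rw [Subgroup.map_eq_bot_iff_of_injective _ D.subtype_injective] at h
  exact P.ne_bot_of_dvd_card hD h

theorem NormCond.mem_of_dvd_card_inf_conj [Fact p.Prime] [Finite G] {M : Subgroup G}
    (hM : NormCond p M) (g : G)
    (hdvd : p ∣ Nat.card ↥(M ⊓ M.map (MulAut.conj g).toMonoidHom)) : g ∈ M := by
  obtain ⟨A, hA, hA1⟩ := exists_isMaxPIn_ne_bot _ hdvd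
  have hM' := hM.map_conj g
  have h1 : IsMaxPIn p M A := isMaxPIn_of_inf hM hM' hA hA1
  have h2 : IsMaxPIn p (M.map (MulAut.conj g).toMonoidHom) A := by
    rw [inf_comm] at hA
    exact isMaxPIn_of_inf hM' hM hA hA1
  have h3 := h2.map_conj g⁻¹
  rw [map_conj_inv_conj] at h3
  obtain ⟨m, hm, hmA⟩ := h3.conj h1
  rw [map_conj_conj] at hmA
  have h4 : m * g⁻¹ ∈ Subgroup.normalizer (A : Set G) := (mem_normalizer_iff_map_conj A _).mpr hmA
  have h5 : m * g⁻¹ ∈ M := hM A h1.1 h1.2.1 hA1 h4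
  have h6 : g = (m * g⁻¹)⁻¹ * m := by group
  rw [h6]
  exact M.mul_mem (M.inv_mem h5) hm

theorem NormCond.mem_of_conj_le [Fact p.Prime] [Finite G] {M : Subgroup G} (hM : NormCond p M)
    (A : Subgroup G) (hAM : A ≤ M) (hAp : IsPGroup p A) (hA1 : A ≠ ⊥) (g : G)
    (hg : A.map (MulAut.conj g).toMonoidHom ≤ M) : g ∈ M := by
  have h1 : A ≤ M ⊓ M.map (MulAut.conj g⁻¹).toMonoidHom := by
    refine le_inf hAM ?_
    have := Subgroup.map_mono (f := (MulAut.conj g⁻¹).toMonoidHom) hg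
    rwa [map_conj_inv_conj] at this
  have h2 : p ∣ Nat.card ↥(M ⊓ M.map (MulAut.conj g⁻¹).toMonoidHom) := by
    have h3 : p ∣ Nat.card A := by
      rcases hAp.card_eq_or_dvd with h | h
      · exfalso
        apply hA1
        exact Subgroup.card_eq_one.mp h
      · exact h
    exact h3.trans (Subgroup.card_dvd_of_le h1)
  have := hM.mem_of_dvd_card_inf_conj g⁻¹ h2
  simpa using M.inv_mem this

theorem normCond_of_inf_conj [Fact p.Prime] [Finite G] {M : Subgroup G}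
    (h : ∀ g : G, g ∉ M → ¬ p ∣ Nat.card ↥(M ⊓ M.map (MulAut.conj g).toMonoidHom)) :
    NormCond p M := by
  intro A hAM hAp hA1 g hg
  by_contra hgM
  apply h g hgM
  have h1 : A ≤ M ⊓ M.map (MulAut.conj g).toMonoidHom := by
    refine le_inf hAM ?_
    rw [← (mem_normalizer_iff_map_conj A g).mp hg]
    exact Subgroup.map_mono hAM
  have h3 : p ∣ Nat.card A := by
    rcases hAp.card_eq_or_dvd with h | h
    · exfalso
      apply hA1
      exact Subgroup.card_eq_one.mp h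
    · exact h
  exact h3.trans (Subgroup.card_dvd_of_le h1)

theorem IsMaxPIn.of_le {M M' S : Subgroup G} (h : IsMaxPIn p M' S) (hMM' : M ≤ M') (hSM : S ≤ M) :
    IsMaxPIn p M S :=
  ⟨hSM, h.2.1, fun B hB hBM hSB => h.2.2 B hB (hBM.trans hMM') hSB⟩

theorem normCond_of_spe [Fact p.Prime] [Finite G] {M : Subgroup G}
    (h : Cfsg.IsStronglyPEmbedded p M) : NormCond p M := by
  obtain ⟨hdvd, _, P, hΓ⟩ := h
  have hP1 : (P : Subgroup G) ≠ ⊥ := P.ne_bot_of_dvd_card hdvd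
  have hΓ' := (kGeneratedCore_one_le_iff (P : Subgroup G) M P.isPGroup').mp hΓ
  have hPM : (P : Subgroup G) ≤ M := Subgroup.le_normalizer.trans (hΓ' _ le_rfl hP1)
  have hPmax : IsMaxPIn p M (P : Subgroup G) :=
    ((isMaxPIn_top_iff (P : Subgroup G)).mpr ⟨P, rfl⟩).of_le le_top hPM
  intro A hAM hAp hA1
  obtain ⟨S, hS, hAS⟩ := exists_isMaxPIn_ge M A hAp hAM
  obtain ⟨m, hm, hmS⟩ := hS.conj hPmax
  have h1 : A.map (MulAut.conj m).toMonoidHom ≤ (P : Subgroup G) := by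
    rw [← hmS]
    exact Subgroup.map_mono hAS
  have h2 := hΓ' _ h1 (map_conj_ne_bot A m hA1)
  rw [normalizer_map_conj] at h2
  have h3 := Subgroup.map_mono (f := (MulAut.conj m⁻¹).toMonoidHom) h2
  rwa [map_conj_inv_conj, map_conj_eq_self_of_mem M m⁻¹ (M.inv_mem hm)] at h3

theorem spe_of_normCond [Fact p.Prime] [Finite G] {M : Subgroup G} (h : NormCond p M)
    (hM : M ≠ ⊤) (hpM : p ∣ Nat.card M) : Cfsg.IsStronglyPEmbedded p M := by
  refine ⟨hpM.trans (Subgroup.card_subgroup_dvd_card M), hM, ?_⟩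
  obtain ⟨S, hS, hS1⟩ := exists_isMaxPIn_ne_bot M hpM
  obtain ⟨P, hP⟩ := (isMaxPIn_top_iff S).mp (h.isMaxPIn_top hS hS1)
  refine ⟨P, ?_⟩
  rw [kGeneratedCore_one_le_iff _ _ P.isPGroup']
  intro Q hQP hQ1
  rw [hP] at hQP
  exact h Q (hQP.trans hS.1) (hS.2.1.to_le hQP) hQ1

theorem spe_iff_normCond [Fact p.Prime] [Finite G] {M : Subgroup G}
    (hM : M ≠ ⊤) (hpM : p ∣ Nat.card M) : Cfsg.IsStronglyPEmbedded p M ↔ NormCond p M :=
  ⟨normCond_of_spe, fun h => spe_of_normCond h hM hpM⟩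

theorem spe_dvd_card [Fact p.Prime] [Finite G] {M : Subgroup G}
    (h : Cfsg.IsStronglyPEmbedded p M) : p ∣ Nat.card M := by
  obtain ⟨hdvd, _, P, hΓ⟩ := h
  have hP1 : (P : Subgroup G) ≠ ⊥ := P.ne_bot_of_dvd_card hdvd
  have hΓ' := (kGeneratedCore_one_le_iff (P : Subgroup G) M P.isPGroup').mp hΓ
  have hPM : (P : Subgroup G) ≤ M := Subgroup.le_normalizer.trans (hΓ' _ le_rfl hP1)
  exact (P.dvd_card_of_dvd_card hdvd).trans (Subgroup.card_dvd_of_le hPM)

theorem sylow_smul_coe (g : G) (T : Sylow p G) :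
    ((g • T : Sylow p G) : Subgroup G) = (T : Subgroup G).map (MulAut.conj g).toMonoidHom := by
  rw [Sylow.smul_def, Sylow.pointwise_smul_def]
  ext x
  constructor
  · rintro ⟨z, hz, rfl⟩
    exact ⟨z, hz, by simp⟩
  · rintro ⟨z, hz, rfl⟩
    exact ⟨z, hz, by simp⟩

theorem spe_iff_exists_conj_le [Fact p.Prime] [Finite G] (T : Sylow p G) {M : Subgroup G}
    (hM : M ≠ ⊤) (hpM : p ∣ Nat.card M) (K : Subgroup G)
    (hK : K = ⨆ A : {A : Subgroup G // A ≤ (T : Subgroup G) ∧ A ≠ ⊥},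
      Subgroup.normalizer ((A : Subgroup G) : Set G)) :
    Cfsg.IsStronglyPEmbedded p M ↔ ∃ g : G, K.map (MulAut.conj g).toMonoidHom ≤ M := by
  constructor
  · rintro ⟨hdvd, _, P, hΓ⟩
    have hΓ' := (kGeneratedCore_one_le_iff (P : Subgroup G) M P.isPGroup').mp hΓ
    obtain ⟨g, hg⟩ := MulAction.exists_smul_eq G T P
    refine ⟨g, ?_⟩
    rw [hK, Subgroup.map_iSup]
    apply iSup_le
    rintro ⟨A, hAT, hA1⟩
    rw [← normalizer_map_conj]
    apply hΓ' _ _ (map_conj_ne_bot A g hA1)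
    rw [← hg, sylow_smul_coe]
    exact Subgroup.map_mono hAT
  · rintro ⟨g, hg⟩
    refine ⟨hpM.trans (Subgroup.card_subgroup_dvd_card M), hM, g • T, ?_⟩
    rw [kGeneratedCore_one_le_iff _ _ (g • T).isPGroup']
    intro Q hQP hQ1
    rw [sylow_smul_coe] at hQP
    have h1 : Q.map (MulAut.conj g⁻¹).toMonoidHom ≤ (T : Subgroup G) := by
      have := Subgroup.map_mono (f := (MulAut.conj g⁻¹).toMonoidHom) hQP
      rwa [map_conj_inv_conj] at this
    have h2 : Subgroup.normalizer ((Q.map (MulAut.conj g⁻¹).toMonoidHom : Subgroup G) : Set G) ≤ K := by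
      rw [hK]
      exact le_iSup (fun A : {A : Subgroup G // A ≤ (T : Subgroup G) ∧ A ≠ ⊥} =>
        Subgroup.normalizer ((A : Subgroup G) : Set G)) ⟨_, h1, map_conj_ne_bot Q g⁻¹ hQ1⟩
    have h3 := Subgroup.map_mono (f := (MulAut.conj g).toMonoidHom) h2
    rw [← normalizer_map_conj, map_conj_conj_inv] at h3
    exact h3.trans hg

theorem card_lt_of_lt {A B : Subgroup G} [Finite B] (h : A < B) : Nat.card A < Nat.card B := by
  by_contra hle
  have := Subgroup.eq_of_le_of_card_ge h.le (not_lt.mp hle)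
  exact h.ne this

theorem normCond_of_centralizers [Fact p.Prime] [Finite G] (H : Subgroup G)
    (hC : ∀ x ∈ H, orderOf x = p → Subgroup.centralizer ({x} : Set G) ≤ H)
    (hN : ∀ R : Subgroup G, IsMaxPIn p H R → Subgroup.normalizer (R : Set G) ≤ H) :
    NormCond p H := by
  suffices h : ∀ n : ℕ, ∀ Q : Subgroup G, Q ≤ H → IsPGroup p Q → Q ≠ ⊥ →
      Nat.card H - Nat.card Q = n → Subgroup.normalizer (Q : Set G) ≤ H from
    fun Q h1 h2 h3 => h _ Q h1 h2 h3 rfl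
  intro n
  induction n using Nat.strong_induction_on with
  | _ n ih =>
  intro Q hQH hQp hQ1 hn
  obtain ⟨R₀, hR₀, hQR₀⟩ := exists_isMaxPIn_ge H Q hQp hQH
  by_cases hQR : Q = R₀
  · rw [hQR]; exact hN R₀ hR₀
  · have hlt : Q < R₀ := lt_of_le_of_ne hQR₀ hQR
    obtain ⟨x, hxR₀, hxN, hxQ⟩ := exists_mem_normalizer_not_mem Q R₀ hR₀.2.1 hlt
    have hQ₁p : IsPGroup p (Q ⊔ Subgroup.zpowers x : Subgroup G) :=
      hR₀.2.1.to_le (sup_le hQR₀ ((Subgroup.zpowers_le).mpr hxR₀))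
    have hQ₁N : Q ⊔ Subgroup.zpowers x ≤ Subgroup.normalizer (Q : Set G) :=
      sup_le Subgroup.le_normalizer ((Subgroup.zpowers_le).mpr hxN)
    obtain ⟨R, hR, hQ₁R⟩ := exists_isMaxPIn_ge _ _ hQ₁p hQ₁N
    have hQR' : Q ≤ R := le_sup_left.trans hQ₁R
    have hxR : x ∈ R := hQ₁R ((le_sup_right : Subgroup.zpowers x ≤ Q ⊔ Subgroup.zpowers x)
      (Subgroup.mem_zpowers x))
    obtain ⟨z, hzQ, hz1, hzc⟩ := exists_central_of_normalizedBy Q R hR.2.1 hQR' hR.1 hQ1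
    have hZ : (Q ⊓ Subgroup.centralizer (R : Set G)) ≠ ⊥ := by
      intro h
      apply hz1
      have hzc' : z ∈ Subgroup.centralizer (R : Set G) := by
        rw [Subgroup.mem_centralizer_iff]
        intro r hr
        exact hzc r hr
      have hz : z ∈ Q ⊓ Subgroup.centralizer (R : Set G) := ⟨hzQ, hzc'⟩
      rw [h, Subgroup.mem_bot] at hz
      exact hz
    obtain ⟨y, hy, hyo⟩ := exists_orderOf_eq_prime_of_ne_bot _ (hQp.to_inf_left) hZ
    have hyQ : y ∈ Q := hy.1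
    have hyc : y ∈ Subgroup.centralizer (R : Set G) := hy.2
    have hRle : ∀ n ∈ Subgroup.normalizer (Q : Set G), R.map (MulAut.conj n).toMonoidHom ≤ H := by
      intro n hn
      have hyn : n * y * n⁻¹ ∈ Q := (Subgroup.mem_normalizer_iff.mp hn y).mp hyQ
      have hord : orderOf (n * y * n⁻¹) = p := by
        have := MulEquiv.orderOf_eq (MulAut.conj n) y
        rw [MulAut.conj_apply] at this
        rw [this, hyo]
      refine le_trans ?_ (hC _ (hQH hyn) hord)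
      rintro _ ⟨r, hr, rfl⟩
      rw [Subgroup.mem_centralizer_iff]
      intro w hw
      rw [Set.mem_singleton_iff] at hw
      subst hw
      rw [Subgroup.mem_centralizer_iff] at hyc
      have hyr := hyc r hr
      simp only [MulEquiv.coe_toMonoidHom, MulAut.conj_apply]
      calc n * y * n⁻¹ * (n * r * n⁻¹) = n * (y * r) * n⁻¹ := by group
        _ = n * (r * y) * n⁻¹ := by rw [hyr]
        _ = n * r * n⁻¹ * (n * y * n⁻¹) := by group
    have hRH : R ≤ H := by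
      have := hRle 1 (Subgroup.one_mem _)
      rwa [map_conj_one] at this
    have hQltR : Q < R := lt_of_le_of_ne hQR' (fun h => hxQ (h ▸ hxR))
    have hcard : Nat.card Q < Nat.card R := card_lt_of_lt hQltR
    have hcardR : Nat.card R ≤ Nat.card H := Subgroup.card_le_of_le hRH
    have hR1 : R ≠ ⊥ := fun h => hQ1 (le_bot_iff.mp (h ▸ hQR'))
    have hNR : Subgroup.normalizer (R : Set G) ≤ H :=
      ih (Nat.card H - Nat.card R) (by omega) R hRH hR.2.1 hR1 rfl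
    intro n hn
    have hRn : IsMaxPIn p (Subgroup.normalizer (Q : Set G)) (R.map (MulAut.conj n).toMonoidHom) := by
      have := hR.map_conj n
      rwa [map_conj_eq_self_of_mem _ n hn] at this
    have h1 : IsMaxPIn p (Subgroup.normalizer (Q : Set G) ⊓ H) R :=
      hR.of_le inf_le_left (le_inf hR.1 hRH)
    have h2 : IsMaxPIn p (Subgroup.normalizer (Q : Set G) ⊓ H) (R.map (MulAut.conj n).toMonoidHom) :=
      hRn.of_le inf_le_left (le_inf hRn.1 (hRle n hn))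
    obtain ⟨h, hh, hhR⟩ := h2.conj h1
    rw [map_conj_conj] at hhR
    have h3 : h * n ∈ Subgroup.normalizer (R : Set G) := (mem_normalizer_iff_map_conj R _).mpr hhR
    have h4 := hNR h3
    have h5 : n = h⁻¹ * (h * n) := by group
    rw [h5]
    exact H.mul_mem (H.inv_mem hh.2) h4

theorem isMaxPIn_of_inf' [Fact p.Prime] [Finite G] {M M' A : Subgroup G}
    (hM' : NormCond p M') (hA : IsMaxPIn p (M ⊓ M') A) (hA1 : A ≠ ⊥) : IsMaxPIn p M A := by
  obtain ⟨hAD, hAp, hmax⟩ := hA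
  refine ⟨hAD.trans inf_le_left, hAp, ?_⟩
  intro B hB hBM hAB
  by_contra hne
  have hlt : A < B := lt_of_le_of_ne hAB (fun h => hne h.symm)
  obtain ⟨x, hxB, hxN, hxA⟩ := exists_mem_normalizer_not_mem A B hB hlt
  have hxM : x ∈ M := hBM hxB
  have hxM' : x ∈ M' := hM' A (hAD.trans inf_le_right) hAp hA1 hxN
  have h1 : A ⊔ Subgroup.zpowers x ≤ B := sup_le hAB (by rw [Subgroup.zpowers_le]; exact hxB)
  have h2 : A ⊔ Subgroup.zpowers x ≤ M ⊓ M' :=
    sup_le hAD (by rw [Subgroup.zpowers_le]; exact ⟨hxM, hxM'⟩)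
  have h3 := hmax _ (hB.to_le h1) h2 le_sup_left
  apply hxA
  rw [← h3]
  exact (le_sup_right : Subgroup.zpowers x ≤ A ⊔ Subgroup.zpowers x) (Subgroup.mem_zpowers x)

theorem NormCond.le_of_pgroup_of_inf_ne_bot [Fact p.Prime] [Finite G] {M : Subgroup G}
    (hM : NormCond p M) (R : Subgroup G) (hR : IsPGroup p R) (hne : R ⊓ M ≠ ⊥) : R ≤ M := by
  by_contra hRM
  have hlt : R ⊓ M < R := lt_of_le_of_ne inf_le_left (fun h => hRM (h ▸ inf_le_right))
  obtain ⟨x, hxR, hxN, hxT⟩ := exists_mem_normalizer_not_mem (R ⊓ M) R hR hlt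
  have hxM : x ∈ M := hM _ inf_le_right (hR.to_le inf_le_left) hne hxN
  exact hxT ⟨hxR, hxM⟩

end Cfsg.Agent.Lib.Helper5
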