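import Cfsg.Agent.Lib.Helper5.CopGen
import Cfsg.Agent.S3917

set_option autoImplicit false
open scoped commutatorElement

namespace Cfsg.Agent.Lib.Helper5

variable {H : Type*} [Group H]

/-- a finite noncyclic abelian group contains an elementary abelian subgroup of order `p²` -/
theorem exists_rank_two_of_not_cyclic [Finite H] (A : Subgroup H) [IsMulCommutative A]
    (hA : ¬ IsCyclic A) :
    ∃ (p : ℕ) (_ : p.Prime) (E : Subgroup H), E ≤ A ∧ (∀ e ∈ E, e ^ p = 1) ∧ Nat.card E = p ^ 2 := by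
  letI : CommGroup ↥A := { (inferInstance : Group ↥A) with mul_comm := fun a b => mul_comm' a b }
  have h1 : ¬ ∀ q : ℕ, q.Prime → Nat.card (Cfsg.Agent.S3917.tors ↥A q) ≤ q := by
    intro h
    exact hA (Cfsg.Agent.S3917.isCyclic_of_tors h)
  simp only [not_forall] at h1
  obtain ⟨q, hq, hlt⟩ := h1
  rw [not_le] at hlt
  haveI : Fact q.Prime := ⟨hq⟩
  set T := Cfsg.Agent.S3917.tors ↥A q with hT
  have hTq : IsPGroup q ↥T := by
    intro c
    refine ⟨1, ?_⟩
    apply Subtype.ext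
    have := (Cfsg.Agent.S3917.mem_tors q (c : ↥A)).mp c.2
    simpa using this
  obtain ⟨k, hk⟩ := IsPGroup.iff_card.mp hTq
  have hk2 : 2 ≤ k := by
    by_contra hcon
    have hk1 : k ≤ 1 := by omega
    have : q ^ k ≤ q ^ 1 := Nat.pow_le_pow_right hq.pos hk1
    rw [pow_one] at this
    omega
  have hdvd : q ^ 2 ∣ Nat.card ↥T := by
    rw [hk]; exact pow_dvd_pow q hk2
  obtain ⟨K, hK⟩ := Sylow.exists_subgroup_card_pow_prime q hdvd
  refine ⟨q, hq, (K.map T.subtype).map A.subtype, ?_, ?_, ?_⟩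
  · rintro _ ⟨a, _, rfl⟩
    exact a.2
  · rintro _ ⟨a, ⟨t, _, rfl⟩, rfl⟩
    have := (Cfsg.Agent.S3917.mem_tors q (t : ↥A)).mp t.2
    have h2 := congrArg Subtype.val this
    simpa using h2
  · rw [Subgroup.card_map_of_injective A.subtype_injective,
      Subgroup.card_map_of_injective T.subtype_injective, hK]

/-- **S0058 form** -/
theorem iSup_centralizer_eq_of_not_cyclic [Finite H] (A K : Subgroup H) [IsMulCommutative A]
    (hA : ¬ IsCyclic A) (hAK : A ≤ Subgroup.normalizer (K : Set H))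
    (hcop : (Nat.card A).Coprime (Nat.card K)) :
    (⨆ a ∈ {a : H | a ∈ A ∧ a ≠ 1}, K ⊓ Subgroup.centralizer {a}) = K := by
  apply le_antisymm
  · exact iSup₂_le fun _ _ => inf_le_left
  obtain ⟨p, hp, E, hEA, hexp, hcard⟩ := exists_rank_two_of_not_cyclic A hA
  haveI : Fact p.Prime := ⟨hp⟩
  have hpA : p ∣ Nat.card A := by
    have h1 : Nat.card E ∣ Nat.card A := Subgroup.card_dvd_of_le hEA
    rw [hcard] at h1
    exact (dvd_pow_self p (by norm_num)).trans h1
  have hK : ¬ p ∣ Nat.card K := by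
    intro h
    have := Nat.dvd_gcd hpA h
    rw [hcop] at this
    exact hp.one_lt.ne' (Nat.dvd_one.mp this)
  refine (le_genC E hexp hcard K (hEA.trans hAK) hK).trans ?_
  unfold genC
  apply iSup₂_le
  intro e he
  exact le_iSup₂ (f := fun a (_ : a ∈ {a : H | a ∈ A ∧ a ≠ 1}) => K ⊓ Subgroup.centralizer {a})
    e ⟨hEA he.1, he.2⟩

end Cfsg.Agent.Lib.Helper5
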