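import Mathlib

set_option autoImplicit false

namespace Cfsg.Agent.Lib.Helper5

theorem mem_of_zpow_mem_of_not_dvd {E : Type*} [Group E] {p : ℕ} (hp : p.Prime) (K : Subgroup E)
    (x : E) (hx : x ^ p = 1) (k : ℤ) (hk : ¬ (p : ℤ) ∣ k) (hxk : x ^ k ∈ K) : x ∈ K := by
  have hcop : IsCoprime k (p : ℤ) := by
    rw [Int.isCoprime_iff_gcd_eq_one]
    have h1 : ¬ p ∣ k.natAbs := by
      intro h
      exact hk (Int.natCast_dvd.mpr h)
    have h2 : Nat.Coprime p k.natAbs := (Nat.Prime.coprime_iff_not_dvd hp).2 h1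
    rw [Int.gcd_def]
    simpa using h2.symm
  obtain ⟨a, b, hab⟩ := hcop
  have h3 : x = (x ^ k) ^ a * (x ^ (p : ℤ)) ^ b := by
    rw [← zpow_mul, ← zpow_mul, ← zpow_add, mul_comm k a, mul_comm (p : ℤ) b, hab, zpow_one]
  rw [h3, zpow_natCast, hx, one_zpow, mul_one]
  exact K.zpow_mem hxk a

theorem frattini_eq_bot_of_elem_abelian {E : Type*} [Group E] [Finite E] {p : ℕ} (hp : p.Prime)
    (hcomm : ∀ a b : E, a * b = b * a) (hexp : ∀ a : E, a ^ p = 1) : frattini E = ⊥ := by
  letI : CommGroup E := { ‹Group E› with mul_comm := hcomm }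
  rw [eq_bot_iff]
  intro e he
  rw [Subgroup.mem_bot]
  by_contra hne
  have hfin : (Set.univ : Set (Subgroup E)).Finite := Set.finite_univ
  have hS : ({M : Subgroup E | e ∉ M}).Finite := Set.toFinite _
  have hSne : ({M : Subgroup E | e ∉ M}).Nonempty := ⟨⊥, by simpa using hne⟩
  obtain ⟨M, hM, hmax⟩ := hS.exists_maximal hSne
  have hM' : e ∉ M := hM
  have hco : IsCoatom M := by
    refine ⟨fun h => hM' (h ▸ Subgroup.mem_top e), ?_⟩
    intro K hMK
    have heK : e ∈ K := by
      by_contra heK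
      have := hmax (show K ∈ {M : Subgroup E | e ∉ M} from heK) hMK.le
      exact hMK.ne' (le_antisymm this hMK.le)
    rw [eq_top_iff]
    intro x _
    by_cases hxM : x ∈ M
    · exact hMK.le hxM
    · have hlt : M < M ⊔ Subgroup.zpowers x := by
        refine lt_of_le_of_ne le_sup_left ?_
        intro h
        apply hxM
        rw [h]
        exact (le_sup_right : Subgroup.zpowers x ≤ M ⊔ Subgroup.zpowers x) (Subgroup.mem_zpowers x)
      have heN : e ∈ M ⊔ Subgroup.zpowers x := by
        by_contra heN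
        have := hmax (show M ⊔ Subgroup.zpowers x ∈ {M : Subgroup E | e ∉ M} from heN) hlt.le
        exact hlt.ne' (le_antisymm this hlt.le)
      rw [Subgroup.mem_sup] at heN
      obtain ⟨m, hm, z, hz, hmz⟩ := heN
      rw [Subgroup.mem_zpowers_iff] at hz
      obtain ⟨k, rfl⟩ := hz
      have hxk : x ^ k ∈ K := by
        have : x ^ k = m⁻¹ * e := by rw [← hmz]; group
        rw [this]
        exact K.mul_mem (K.inv_mem (hMK.le hm)) heK
      have hk : ¬ (p : ℤ) ∣ k := by
        rintro ⟨c, rfl⟩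
        apply hM'
        rw [← hmz, zpow_mul, zpow_natCast, hexp, one_zpow, mul_one]
        exact hm
      exact mem_of_zpow_mem_of_not_dvd hp K x (hexp x) k hk hxk
  exact hM' (frattini_le_coatom hco he)

theorem frattini_le_ker_of_elem_abelian {P E : Type*} [Group P] [Finite P] [Group E] {p : ℕ}
    (hp : p.Prime) (φ : P →* E)
    (hcomm : ∀ a b : E, a * b = b * a) (hexp : ∀ a : E, a ^ p = 1) : frattini P ≤ φ.ker := by
  haveI : Finite ↥φ.range := Finite.of_surjective φ.rangeRestrict φ.rangeRestrict_surjective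
  have h1 : frattini ↥φ.range = ⊥ := by
    apply frattini_eq_bot_of_elem_abelian hp
    · intro a b
      exact Subtype.ext (hcomm a b)
    · intro a
      exact Subtype.ext (by simpa using hexp a)
  have h2 := frattini_le_comap_frattini_of_surjective (φ := φ.rangeRestrict) φ.rangeRestrict_surjective
  rw [h1] at h2
  intro x hx
  have h3 := h2 hx
  rw [Subgroup.mem_comap, Subgroup.mem_bot] at h3
  rw [MonoidHom.mem_ker]
  have := congrArg Subtype.val h3
  simpa using this

end Cfsg.Agent.Lib.Helper5
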