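import Cfsg.Agent.Lib.Helper5.YL3

set_option autoImplicit false
open Cfsg

namespace Cfsg.Agent.Lib.Helper5

variable {H : Type*} [Group H] {p : ℕ}

theorem charp_iff_ambient (M : Subgroup H) :
    Subgroup.centralizer (Cfsg.pCore p ↥M : Set ↥M) ≤ Cfsg.pCore p ↥M ↔
      M ⊓ Subgroup.centralizer ((Cfsg.pCoreOf p M : Subgroup H) : Set H) ≤ Cfsg.pCoreOf p M := by
  constructor
  · intro h x hx
    have hxM : x ∈ M := (Subgroup.mem_inf.mp hx).1
    have hxc := (Subgroup.mem_inf.mp hx).2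
    rw [Subgroup.mem_centralizer_iff] at hxc
    have : (⟨x, hxM⟩ : M) ∈ Subgroup.centralizer (Cfsg.pCore p ↥M : Set ↥M) := by
      rw [Subgroup.mem_centralizer_iff]
      intro q hq
      apply Subtype.ext
      exact hxc q ⟨q, hq, rfl⟩
    exact ⟨⟨x, hxM⟩, h this, rfl⟩
  · intro h x hx
    rw [Subgroup.mem_centralizer_iff] at hx
    have : (x : H) ∈ M ⊓ Subgroup.centralizer ((Cfsg.pCoreOf p M : Subgroup H) : Set H) := by
      refine Subgroup.mem_inf.mpr ⟨x.2, ?_⟩
      rw [Subgroup.mem_centralizer_iff]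
      rintro _ ⟨q, hq, rfl⟩
      exact congrArg Subtype.val (hx q hq)
    obtain ⟨y, hy, hyx⟩ := h this
    have : y = x := Subtype.ext hyx
    rwa [← this]

theorem omegaOne_mono {A B : Subgroup H} (h : A ≤ B) : Cfsg.omegaOne p A ≤ Cfsg.omegaOne p B := by
  unfold Cfsg.omegaOne
  apply Subgroup.closure_mono
  intro x hx
  exact ⟨h hx.1, hx.2⟩

theorem map_omegaOne {H' : Type*} [Group H'] (f : H →* H') (hf : Function.Injective f)
    (Z : Subgroup H) : (Cfsg.omegaOne p Z).map f = Cfsg.omegaOne p (Z.map f) := by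
  unfold Cfsg.omegaOne
  rw [MonoidHom.map_closure]
  congr 1
  ext y
  constructor
  · rintro ⟨x, hx, rfl⟩
    exact ⟨⟨x, hx.1, rfl⟩, by rw [← map_pow, hx.2, map_one]⟩
  · rintro ⟨⟨x, hx, rfl⟩, hy⟩
    refine ⟨x, ⟨hx, ?_⟩, rfl⟩
    apply hf
    rw [map_pow, hy, map_one]

section Fin
variable [Finite H] [Fact p.Prime]

/-- ambient Frattini argument -/
theorem frattini_ambient (T : Sylow p H) (M C : Subgroup H) (hTM : (T : Subgroup H) ≤ M)
    (hMC : M ≤ Subgroup.normalizer (C : Set H)) :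
    M ≤ (M ⊓ Subgroup.normalizer (((T : Subgroup H) ⊓ C : Subgroup H) : Set H)) ⊔ C := by
  let T' : Sylow p M := T.subtype hTM
  have hT' : (T' : Subgroup M) = (T : Subgroup H).subgroupOf M := Sylow.coe_subtype _ _
  set N : Subgroup M := C.subgroupOf M with hN
  haveI hNn : N.Normal := by
    rw [hN, Subgroup.normal_subgroupOf_iff_le_normalizer_inf]
    refine le_trans ?_ Subgroup.inf_normalizer_le_normalizer_inf
    exact le_inf hMC Subgroup.le_normalizer
  have hfr := frattini_inf_normal T' N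
  have hinf : (T' : Subgroup M) ⊓ N = ((T : Subgroup H) ⊓ C).subgroupOf M := by
    rw [hT', hN]
    rfl
  have hle : (T : Subgroup H) ⊓ C ≤ M := inf_le_left.trans hTM
  rw [hinf, ← Subgroup.subgroupOf_normalizer_eq hle] at hfr
  intro m hm
  have hm' : (⟨m, hm⟩ : M) ∈
      (Subgroup.normalizer ((((T : Subgroup H) ⊓ C : Subgroup H)) : Set H)).subgroupOf M ⊔ N := by
    rw [hfr]; exact Subgroup.mem_top _
  have hNN : Subgroup.normalizer (N : Set M) = ⊤ := Subgroup.normalizer_eq_top_iff.mpr hNn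
  obtain ⟨a, ha, c, hc, hac⟩ := (mem_sup_of_le_normalizer _ N (by rw [hNN]; exact le_top) _).mp hm'
  have : m = (a : H) * (c : H) := by
    have := congrArg Subtype.val hac
    simpa using this
  rw [this]
  refine Subgroup.mul_mem _ (Subgroup.mem_sup_left ⟨a.2, ?_⟩) (Subgroup.mem_sup_right ?_)
  · exact Subgroup.mem_subgroupOf.mp ha
  · exact Subgroup.mem_subgroupOf.mp hc

/-- `Y_L = Ω₁Z(C_T(Y_L))` at the ambient level -/
theorem largestPReducedOf_eq_omegaOne (T : Sylow p H) (L : Subgroup H)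
    (hTL : (T : Subgroup H) ≤ L)
    (hL : Subgroup.centralizer (Cfsg.pCore p ↥L : Set ↥L) ≤ Cfsg.pCore p ↥L)
    (T₀ : Subgroup H)
    (hT₀ : T₀ = (T : Subgroup H) ⊓
      Subgroup.centralizer (((Cfsg.largestPReducedOf p L) : Subgroup H) : Set H)) :
    Cfsg.largestPReducedOf p L = Cfsg.omegaOne p (T₀ ⊓ Subgroup.centralizer (T₀ : Set H)) := by
  let T' : Sylow p L := T.subtype hTL
  have hT' : (T' : Subgroup L) = (T : Subgroup H).subgroupOf L := Sylow.coe_subtype _ _
  set Y' := Cfsg.largestPReduced p ↥L with hY'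
  have hY : Cfsg.IsPReducedNormal p Y' ∧ ∀ V : Subgroup L, Cfsg.IsPReducedNormal p V → V ≤ Y' :=
    ⟨exists_largest_pReduced hL, fun V hV => le_sSup hV⟩
  obtain ⟨_, _, h3⟩ := yl_structure hL T' Y' hY _ rfl
  have hYmap : Y'.map L.subtype ≤ L := by
    rintro _ ⟨d, _, rfl⟩
    exact d.2
  have hcomap : (Y'.map L.subtype).subgroupOf L = Y' :=
    Subgroup.comap_map_eq_self_of_injective L.subtype_injective _
  have hT₀L : T₀ ≤ L := by rw [hT₀]; exact inf_le_left.trans hTL
  have hTL' : (T' : Subgroup L) ⊓ Subgroup.centralizer (Y' : Set L) = T₀.subgroupOf L := by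
    rw [hT', hT₀]
    unfold Cfsg.largestPReducedOf
    have := centralizer_subgroupOf_eq L (Y'.map L.subtype) hYmap
    rw [hcomap] at this
    rw [this]
    rfl
  rw [hTL', centralizer_subgroupOf_eq L T₀ hT₀L] at h3
  have h4 : T₀.subgroupOf L ⊓ (Subgroup.centralizer (T₀ : Set H)).subgroupOf L =
      (T₀ ⊓ Subgroup.centralizer (T₀ : Set H)).subgroupOf L := rfl
  rw [h4] at h3
  unfold Cfsg.largestPReducedOf
  rw [← hY', h3, map_omegaOne L.subtype L.subtype_injective,
    Subgroup.map_subgroupOf_eq_of_le (inf_le_left.trans hT₀L)]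

end Fin

end Cfsg.Agent.Lib.Helper5
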