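import Cfsg.Agent.Lib.Helper5.CD
import Cfsg.Agent.Lib.Helper5.Basic

set_option autoImplicit false
open Cfsg
open scoped Pointwise

namespace Cfsg.Agent.Lib.Helper5

variable {P : Type*} [Group P]

theorem centralizer_map_conj (B : Subgroup P) (g : P) :
    Subgroup.centralizer ((B.map (MulAut.conj g).toMonoidHom : Subgroup P) : Set P) =
      (Subgroup.centralizer (B : Set P)).map (MulAut.conj g).toMonoidHom := by
  ext x
  rw [mem_map_conj_iff, Subgroup.mem_centralizer_iff, Subgroup.mem_centralizer_iff]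
  constructor
  · intro h b hb
    have h1 : g * b * g⁻¹ ∈ ((B.map (MulAut.conj g).toMonoidHom : Subgroup P) : Set P) := by
      rw [SetLike.mem_coe, mem_map_conj_iff]
      simpa [mul_assoc] using hb
    have h2 := h _ h1
    calc b * (g⁻¹ * x * g) = g⁻¹ * ((g * b * g⁻¹) * x) * g := by group
      _ = g⁻¹ * (x * (g * b * g⁻¹)) * g := by rw [h2]
      _ = g⁻¹ * x * g * b := by group
  · intro h y hy
    rw [SetLike.mem_coe, mem_map_conj_iff] at hy
    have h2 := h _ hy
    calc y * x = g * ((g⁻¹ * y * g) * (g⁻¹ * x * g)) * g⁻¹ := by group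
      _ = g * ((g⁻¹ * x * g) * (g⁻¹ * y * g)) * g⁻¹ := by rw [h2]
      _ = x * y := by group

theorem isCentralizerLarge_map_conj (B : Subgroup P) (g : P) (hB : Cfsg.IsCentralizerLarge B) :
    Cfsg.IsCentralizerLarge (B.map (MulAut.conj g).toMonoidHom) := by
  unfold Cfsg.IsCentralizerLarge at hB ⊢
  rw [centralizer_map_conj, Subgroup.card_map_of_injective (MulAut.conj g).injective,
    Subgroup.card_map_of_injective (MulAut.conj g).injective]
  exact hB

/-- a group is never the product of a proper subgroup and one of its conjugates -/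
theorem eq_top_of_mul_conj_eq_univ (B : Subgroup P) (g : P)
    (h : (B : Set P) * ((B.map (MulAut.conj g).toMonoidHom : Subgroup P) : Set P) = Set.univ) :
    B = ⊤ := by
  have hg : g⁻¹ ∈ (B : Set P) * ((B.map (MulAut.conj g).toMonoidHom : Subgroup P) : Set P) := by
    rw [h]; exact Set.mem_univ _
  obtain ⟨b, hb, c, hc, hbc⟩ := hg
  rw [SetLike.mem_coe, mem_map_conj_iff] at hc
  have hgB : g ∈ B := by
    have h1 : g = b⁻¹ * (g⁻¹ * c * g)⁻¹ := by
      have : c = b⁻¹ * g⁻¹ := by rw [← hbc]; group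
      rw [this]; group
    rw [h1]
    exact Subgroup.mul_mem _ (Subgroup.inv_mem _ hb) (Subgroup.inv_mem _ hc)
  rw [map_conj_eq_self_of_mem B g hgB] at h
  rw [eq_top_iff]
  intro x _
  have hx : x ∈ (B : Set P) * (B : Set P) := by rw [h]; exact Set.mem_univ _
  obtain ⟨b1, hb1, b2, hb2, rfl⟩ := hx
  exact Subgroup.mul_mem _ hb1 hb2

/-- In a simple group, the only measure-largest subgroups are `⊥` and `⊤` -/
theorem isCentralizerLarge_simple [Finite P] [IsSimpleGroup P] (A : Subgroup P)
    (hA : Cfsg.IsCentralizerLarge A) : A = ⊥ ∨ A = ⊤ := by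
  classical
  by_contra hcon
  rw [not_or] at hcon
  have hfin : {X : Subgroup P | Cfsg.IsCentralizerLarge X ∧ A ≤ X ∧ X ≠ ⊤}.Finite := Set.toFinite _
  obtain ⟨B, ⟨hB1, hB2, hB3⟩, hBmax⟩ := hfin.exists_maximal ⟨A, hA, le_rfl, hcon.2⟩
  have hnorm : B.Normal := by
    have key : ∀ g : P, B.map (MulAut.conj g).toMonoidHom ≤ B := by
      intro g
      have hBg := isCentralizerLarge_map_conj B g hB1
      obtain ⟨h1, h2, _, _⟩ := chermak_delgado B _ hB1 hBg
      by_cases htop : B ⊔ B.map (MulAut.conj g).toMonoidHom = ⊤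
      · exfalso
        apply hB3
        apply eq_top_of_mul_conj_eq_univ B g
        rw [← h1, htop]; rfl
      · have := hBmax ⟨h2, hB2.trans le_sup_left, htop⟩ le_sup_left
        exact le_sup_right.trans this
    constructor
    intro n hn g
    have := key g
    apply this
    rw [mem_map_conj_iff]
    simpa [mul_assoc] using hn
  rcases hnorm.eq_bot_or_eq_top with h | h
  · apply hcon.1
    rw [eq_bot_iff, ← h]; exact hB2
  · exact hB3 h

end Cfsg.Agent.Lib.Helper5
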