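import Cfsg.Agent.Lib.Helper5.CD

set_option autoImplicit false
open Cfsg
open scoped Pointwise

namespace Cfsg.Agent.Lib.Helper5

variable {P : Type*} [Group P]

/-- the centre of `Q`, viewed in the ambient group, is `Q ∩ C(Q)` -/
theorem center_map_subtype (Q : Subgroup P) :
    (Subgroup.center ↥Q).map Q.subtype = Q ⊓ Subgroup.centralizer (Q : Set P) := by
  ext x
  constructor
  · rintro ⟨⟨y, hy⟩, hyc, rfl⟩
    refine ⟨hy, ?_⟩
    intro z hz
    have := Subgroup.mem_center_iff.mp hyc ⟨z, hz⟩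
    exact congrArg Subtype.val this
  · rintro ⟨hxQ, hxc⟩
    refine ⟨⟨x, hxQ⟩, ?_, rfl⟩
    apply Subgroup.mem_center_iff.mpr
    rintro ⟨z, hz⟩
    apply Subtype.ext
    exact hxc z hz

theorem card_center_eq (Q : Subgroup P) :
    Nat.card (Subgroup.center ↥Q) = Nat.card ↥(Q ⊓ Subgroup.centralizer (Q : Set P)) := by
  rw [← center_map_subtype, Subgroup.card_map_of_injective Q.subtype_injective]

/-- central measure `|Q| |Z(Q)|` -/
noncomputable def clm (X : Subgroup P) : ℕ :=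
  Nat.card X * Nat.card ↥(X ⊓ Subgroup.centralizer (X : Set P))

theorem isCentrallyLarge_iff (X : Subgroup P) :
    Cfsg.IsCentrallyLarge X ↔ clm X = Cfsg.maxCentralProduct P := by
  unfold Cfsg.IsCentrallyLarge clm
  rw [card_center_eq]

theorem clm_le_max [Finite P] (X : Subgroup P) : clm X ≤ Cfsg.maxCentralProduct P := by
  unfold Cfsg.maxCentralProduct
  apply le_csSup
  · refine ⟨Nat.card P * Nat.card P, ?_⟩
    rintro k ⟨R, rfl⟩
    exact Nat.mul_le_mul (Subgroup.card_le_card_group R)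
      ((Subgroup.card_le_card_group _).trans (Subgroup.card_le_card_group R))
  · exact ⟨X, by rw [card_center_eq]; rfl⟩

theorem exists_isCentrallyLarge (P : Type*) [Group P] [Finite P] : ∃ X : Subgroup P, Cfsg.IsCentrallyLarge X := by
  have hne : {k : ℕ | ∃ R : Subgroup P, Nat.card ↥R * Nat.card ↥(Subgroup.center ↥R) = k}.Nonempty :=
    ⟨_, ⊥, rfl⟩
  have hbdd : BddAbove {k : ℕ | ∃ R : Subgroup P, Nat.card ↥R * Nat.card ↥(Subgroup.center ↥R) = k} := by
    refine ⟨Nat.card P * Nat.card P, ?_⟩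
    rintro k ⟨R, rfl⟩
    exact Nat.mul_le_mul (Subgroup.card_le_card_group R)
      ((Subgroup.card_le_card_group _).trans (Subgroup.card_le_card_group R))
  obtain ⟨R, hR⟩ := Nat.sSup_mem hne hbdd
  exact ⟨R, hR⟩

theorem clm_le_cdm [Finite P] (X : Subgroup P) : clm X ≤ cdm X := by
  unfold clm cdm
  exact Nat.mul_le_mul_left _ (Subgroup.card_le_of_le inf_le_right)

theorem exists_isCentralizerLarge (P : Type*) [Group P] [Finite P] :
    ∃ X : Subgroup P, Cfsg.IsCentralizerLarge X := by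
  have hne : {k : ℕ | ∃ R : Subgroup P, Nat.card ↥R * Nat.card ↥(Subgroup.centralizer (R : Set P)) = k}.Nonempty :=
    ⟨_, ⊥, rfl⟩
  have hbdd : BddAbove {k : ℕ | ∃ R : Subgroup P, Nat.card ↥R * Nat.card ↥(Subgroup.centralizer (R : Set P)) = k} := by
    refine ⟨Nat.card P * Nat.card P, ?_⟩
    rintro k ⟨R, rfl⟩
    exact Nat.mul_le_mul (Subgroup.card_le_card_group R) (Subgroup.card_le_card_group _)
  obtain ⟨R, hR⟩ := Nat.sSup_mem hne hbdd
  exact ⟨R, hR⟩

/-- `R C(R)` has central measure at least the centralizer measure of `R` -/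
theorem cdm_le_clm_sup [Finite P] (R : Subgroup P) :
    cdm R ≤ clm (R ⊔ Subgroup.centralizer (R : Set P)) := by
  set C := Subgroup.centralizer (R : Set P) with hC
  have h1 := card_mul_card_eq_card_mul_set R C
  have h2 : Nat.card ((R : Set P) * (C : Set P) : Set P) ≤ Nat.card ↥(R ⊔ C) := card_mul_set_le R C
  have h3 : R ⊓ C ≤ (R ⊔ C) ⊓ Subgroup.centralizer ((R ⊔ C : Subgroup P) : Set P) := by
    refine le_inf (inf_le_left.trans le_sup_left) ?_
    rw [centralizer_sup_eq]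
    refine le_inf inf_le_right ?_
    intro x hx
    rw [Subgroup.mem_centralizer_iff]
    intro c hc
    exact (hc x hx.1).symm
  have h4 := Subgroup.card_le_of_le h3
  unfold cdm clm
  calc Nat.card ↥R * Nat.card ↥C = Nat.card ((R : Set P) * (C : Set P) : Set P) * Nat.card ↥(R ⊓ C) := h1
    _ ≤ _ := Nat.mul_le_mul h2 h4

theorem maxCentralProduct_eq (P : Type*) [Group P] [Finite P] :
    Cfsg.maxCentralProduct P = Cfsg.maxCentralizerProduct P := by
  apply le_antisymm
  · obtain ⟨X, hX⟩ := exists_isCentrallyLarge P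
    rw [isCentrallyLarge_iff] at hX
    rw [← hX]
    exact (clm_le_cdm X).trans (cdm_le_max X)
  · obtain ⟨X, hX⟩ := exists_isCentralizerLarge P
    rw [isCentralizerLarge_iff] at hX
    rw [← hX]
    exact (cdm_le_clm_sup X).trans (clm_le_max _)

theorem maxCentralProduct_pos (P : Type*) [Group P] [Finite P] : 0 < Cfsg.maxCentralProduct P := by
  have := clm_le_max (⊥ : Subgroup P)
  have h2 : 0 < clm (⊥ : Subgroup P) := by
    unfold clm
    exact Nat.mul_pos Nat.card_pos Nat.card_pos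
  omega

/-- a centrally large subgroup is measure-largest and contains its centralizer -/
theorem isCentralizerLarge_of_isCentrallyLarge [Finite P] (Q : Subgroup P) (hQ : Cfsg.IsCentrallyLarge Q) :
    Cfsg.IsCentralizerLarge Q ∧
      Subgroup.centralizer (Q : Set P) = Q ⊓ Subgroup.centralizer (Q : Set P) := by
  rw [isCentrallyLarge_iff] at hQ
  have h1 := clm_le_cdm Q
  have h2 := cdm_le_max Q
  rw [← maxCentralProduct_eq] at h2
  have h3 : cdm Q = clm Q := by omega
  constructor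
  · rw [isCentralizerLarge_iff, h3, hQ, maxCentralProduct_eq]
  · unfold cdm clm at h3
    have hpos : 0 < Nat.card ↥Q := Nat.card_pos
    have h4 : Nat.card ↥(Subgroup.centralizer (Q : Set P)) =
        Nat.card ↥(Q ⊓ Subgroup.centralizer (Q : Set P)) := Nat.eq_of_mul_eq_mul_left hpos h3
    symm
    exact Subgroup.eq_of_le_of_card_ge inf_le_right h4.le

theorem centralizer_le_of_isCentrallyLarge [Finite P] (Q : Subgroup P) (hQ : Cfsg.IsCentrallyLarge Q) :
    Subgroup.centralizer (Q : Set P) ≤ Q := by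
  have := (isCentralizerLarge_of_isCentrallyLarge Q hQ).2
  rw [this]
  exact inf_le_left

theorem isCentrallyLarge_iff_of_isCentralizerLarge [Finite P] (Q : Subgroup P)
    (hQ : Cfsg.IsCentralizerLarge Q) :
    Cfsg.IsCentrallyLarge Q ↔ Subgroup.centralizer (Q : Set P) ≤ Q := by
  constructor
  · exact centralizer_le_of_isCentrallyLarge Q
  · intro h
    rw [isCentrallyLarge_iff]
    rw [isCentralizerLarge_iff] at hQ
    rw [maxCentralProduct_eq, ← hQ]
    unfold clm cdm
    rw [inf_eq_right.mpr h]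

theorem isCentrallyLarge_sup [Finite P] (Q R : Subgroup P) (hQ : Cfsg.IsCentrallyLarge Q)
    (hR : Cfsg.IsCentrallyLarge R) :
    ((Q ⊔ R : Subgroup P) : Set P) = (Q : Set P) * (R : Set P) ∧ Cfsg.IsCentrallyLarge (Q ⊔ R) := by
  obtain ⟨hQ1, _⟩ := isCentralizerLarge_of_isCentrallyLarge Q hQ
  obtain ⟨hR1, _⟩ := isCentralizerLarge_of_isCentrallyLarge R hR
  obtain ⟨h1, h2, _, _⟩ := chermak_delgado Q R hQ1 hR1
  refine ⟨h1, ?_⟩
  rw [isCentrallyLarge_iff_of_isCentralizerLarge _ h2, centralizer_sup_eq]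
  exact inf_le_left.trans ((centralizer_le_of_isCentrallyLarge Q hQ).trans le_sup_left)

/-- the join of a nonempty family of centrally large subgroups is centrally large -/
theorem isCentrallyLarge_sSup [Finite P] (𝒮 : Set (Subgroup P)) (hne : 𝒮.Nonempty)
    (h𝒮 : ∀ X ∈ 𝒮, Cfsg.IsCentrallyLarge X) : Cfsg.IsCentrallyLarge (sSup 𝒮) := by
  classical
  obtain ⟨X₀, hX₀⟩ := hne
  have hfin : {X : Subgroup P | Cfsg.IsCentrallyLarge X ∧ X ≤ sSup 𝒮}.Finite := Set.toFinite _
  obtain ⟨M, ⟨hM1, hM2⟩, hMmax⟩ := hfin.exists_maximal ⟨X₀, h𝒮 X₀ hX₀, le_sSup hX₀⟩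
  have hle : sSup 𝒮 ≤ M := by
    apply sSup_le
    intro R hR
    have h1 := (isCentrallyLarge_sup M R hM1 (h𝒮 R hR)).2
    have h2 : M ⊔ R ≤ sSup 𝒮 := sup_le hM2 (le_sSup hR)
    have h3 := hMmax ⟨h1, h2⟩ le_sup_left
    exact le_sup_right.trans h3
  rw [le_antisymm hle hM2]
  exact hM1

theorem exists_isMinimalCentrallyLarge_le [Finite P] (Q : Subgroup P) (hQ : Cfsg.IsCentrallyLarge Q) :
    ∃ R : Subgroup P, Cfsg.IsMinimalCentrallyLarge R ∧ R ≤ Q := by
  classical
  have hfin : {X : Subgroup P | Cfsg.IsCentrallyLarge X ∧ X ≤ Q}.Finite := Set.toFinite _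
  obtain ⟨M, ⟨hM1, hM2⟩, hMmin⟩ := hfin.exists_minimal ⟨Q, hQ, le_rfl⟩
  refine ⟨M, ⟨hM1, ?_⟩, hM2⟩
  intro R' hR' hR'cl
  exact le_antisymm hR' (hMmin ⟨hR'cl, hR'.trans hM2⟩ hR')

theorem isCentrallyLarge_centrallyLargeJoin (P : Type*) [Group P] [Finite P] :
    Cfsg.IsCentrallyLarge (Cfsg.centrallyLargeJoin P) := by
  obtain ⟨X, hX⟩ := exists_isCentrallyLarge P
  exact isCentrallyLarge_sSup _ ⟨X, hX⟩ (fun _ h => h)

theorem isCentrallyLarge_minimalCentrallyLargeJoin (P : Type*) [Group P] [Finite P] :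
    Cfsg.IsCentrallyLarge (Cfsg.minimalCentrallyLargeJoin P) := by
  obtain ⟨X, hX⟩ := exists_isCentrallyLarge P
  obtain ⟨R, hR, _⟩ := exists_isMinimalCentrallyLarge_le X hX
  exact isCentrallyLarge_sSup _ ⟨R, hR⟩ (fun _ h => h.1)

end Cfsg.Agent.Lib.Helper5
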