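import Cfsg.Agent.Lib.Helper5.CL
import Cfsg.Prelude.Def_PLocal

set_option autoImplicit false
open Cfsg
open scoped Pointwise

namespace Cfsg.Agent.Lib.Helper5

variable {P : Type*} [Group P]

theorem isMulCommutative_iff_le_centralizer (A : Subgroup P) :
    IsMulCommutative ↥A ↔ A ≤ Subgroup.centralizer (A : Set P) := by
  rw [isMulCommutative_iff]
  constructor
  · intro h x hx y hy
    have := h ⟨y, hy⟩ ⟨x, hx⟩
    exact congrArg Subtype.val this
  · rintro h ⟨a, ha⟩ ⟨b, hb⟩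
    apply Subtype.ext
    exact (h hb a ha)

theorem abelian_sup (X Y : Subgroup P) (hX : X ≤ Subgroup.centralizer (X : Set P))
    (hY : Y ≤ Subgroup.centralizer (Y : Set P)) (hXY : X ≤ Subgroup.centralizer (Y : Set P)) :
    X ⊔ Y ≤ Subgroup.centralizer ((X ⊔ Y : Subgroup P) : Set P) := by
  rw [centralizer_sup_eq]
  exact sup_le (le_inf hX hXY) (le_inf (Subgroup.le_centralizer_iff.mp hXY) hY)

theorem centralizer_eq_of_mem_maxAbelian [Finite P] (A : Subgroup P)
    (hA : A ∈ Cfsg.maxAbelianSubgroups P) : Subgroup.centralizer (A : Set P) = A := by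
  obtain ⟨hAc, hAmax⟩ := hA
  rw [isMulCommutative_iff_le_centralizer] at hAc
  apply le_antisymm _ hAc
  intro x hx
  have hz : Subgroup.zpowers x ≤ Subgroup.centralizer (A : Set P) := by
    rw [Subgroup.zpowers_le]; exact hx
  have hzz : Subgroup.zpowers x ≤ Subgroup.centralizer (Subgroup.zpowers x : Set P) := by
    rw [← isMulCommutative_iff_le_centralizer]
    infer_instance
  have hab := abelian_sup (Subgroup.zpowers x) A hzz hAc hz
  rw [← isMulCommutative_iff_le_centralizer] at hab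
  have hcard := hAmax _ hab
  have heq : A = Subgroup.zpowers x ⊔ A := Subgroup.eq_of_le_of_card_ge le_sup_right hcard
  rw [heq]
  exact Subgroup.mem_sup_left (Subgroup.mem_zpowers x)

theorem exists_mem_maxAbelianSubgroups (P : Type*) [Group P] [Finite P] :
    ∃ A : Subgroup P, A ∈ Cfsg.maxAbelianSubgroups P := by
  haveI : Nonempty {A : Subgroup P // IsMulCommutative ↥A} := ⟨⟨⊥, by
    rw [isMulCommutative_iff_le_centralizer]; exact bot_le⟩⟩
  obtain ⟨⟨A, hA⟩, hmax⟩ := Finite.exists_max (fun A : {A : Subgroup P // IsMulCommutative ↥A} => Nat.card ↥A.1)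
  exact ⟨A, hA, fun B hB => hmax ⟨B, hB⟩⟩

theorem mem_maxAbelian_of_card_ge (A X : Subgroup P) (hA : A ∈ Cfsg.maxAbelianSubgroups P)
    (hX : IsMulCommutative ↥X) (h : Nat.card ↥A ≤ Nat.card ↥X) : X ∈ Cfsg.maxAbelianSubgroups P :=
  ⟨hX, fun B hB => (hA.2 B hB).trans h⟩

theorem cl_arith (q a z b r w s t u c f : ℕ) (hq : 0 < q) (hb : 0 < b) (hw : 0 < w)
    (e1 : q * a = u * b) (e2 : u ≤ r) (e3 : z * b = t * w) (e4 : t ≤ s) (e5 : s ≤ a) (e6 : w ≤ c)
    (e7 : r * c ≤ f) (e8 : q * z = f) : r * c = f ∧ u = r ∧ s = a ∧ t = s := by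
  have h0 : f * b = q * (t * w) := by rw [← e8, ← e3]; ring
  have h1 : q * (t * w) ≤ q * (s * w) := Nat.mul_le_mul_left _ (Nat.mul_le_mul_right _ e4)
  have h2 : q * (s * w) ≤ q * (a * w) := Nat.mul_le_mul_left _ (Nat.mul_le_mul_right _ e5)
  have h3 : q * (a * w) = u * b * w := by rw [← e1]; ring
  have h4 : u * b * w ≤ r * b * w := Nat.mul_le_mul_right _ (Nat.mul_le_mul_right _ e2)
  have h5 : r * b * w ≤ r * b * c := Nat.mul_le_mul_left _ e6
  have h6 : r * b * c = r * c * b := by ring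
  have h7 : r * c * b ≤ f * b := Nat.mul_le_mul_right _ e7
  have E1 : q * (t * w) = q * (s * w) := by omega
  have E2 : q * (s * w) = q * (a * w) := by omega
  have E4 : u * b * w = r * b * w := by omega
  have E7 : r * c * b = f * b := by omega
  refine ⟨Nat.eq_of_mul_eq_mul_right hb E7, ?_, ?_, ?_⟩
  · have := Nat.eq_of_mul_eq_mul_right hw E4
    exact Nat.eq_of_mul_eq_mul_right hb this
  · have := Nat.eq_of_mul_eq_mul_left hq E2
    exact Nat.eq_of_mul_eq_mul_right hw this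
  · have := Nat.eq_of_mul_eq_mul_left hq E1
    exact Nat.eq_of_mul_eq_mul_right hw this

/-- Key fact: for `Q` centrally large and `A` abelian of largest order, `QA = AQ` is centrally large and
`Z(Q)(Q ∩ A)` is again abelian of largest order. -/
theorem cl_mul_maxAbelian [Finite P] (Q A : Subgroup P) (hQ : Cfsg.IsCentrallyLarge Q)
    (hA : A ∈ Cfsg.maxAbelianSubgroups P) :
    ((Q ⊔ A : Subgroup P) : Set P) = (Q : Set P) * (A : Set P) ∧ Cfsg.IsCentrallyLarge (Q ⊔ A) ∧
      ((Q ⊓ Subgroup.centralizer (Q : Set P)) ⊔ (Q ⊓ A)) ∈ Cfsg.maxAbelianSubgroups P ∧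
      ((((Q ⊓ Subgroup.centralizer (Q : Set P)) ⊔ (Q ⊓ A) : Subgroup P)) : Set P) =
        ((Q ⊓ Subgroup.centralizer (Q : Set P) : Subgroup P) : Set P) * ((Q ⊓ A : Subgroup P) : Set P) := by
  have hAc := hA.1
  rw [isMulCommutative_iff_le_centralizer] at hAc
  set Z := Q ⊓ Subgroup.centralizer (Q : Set P) with hZ
  set B := Q ⊓ A with hB
  set R := Q ⊔ A with hR
  -- Z ⊔ B abelian
  have hZB : IsMulCommutative ↥(Z ⊔ B) := by
    rw [isMulCommutative_iff_le_centralizer]
    apply abelian_sup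
    · exact inf_le_right.trans (Subgroup.centralizer_le inf_le_left)
    · exact inf_le_right.trans (hAc.trans (Subgroup.centralizer_le inf_le_right))
    · exact inf_le_right.trans (Subgroup.centralizer_le inf_le_left)
  -- cards
  have e1 : Nat.card ↥Q * Nat.card ↥A = Nat.card ((Q : Set P) * (A : Set P) : Set P) * Nat.card ↥B :=
    card_mul_card_eq_card_mul_set Q A
  have e2 : Nat.card ((Q : Set P) * (A : Set P) : Set P) ≤ Nat.card ↥R := card_mul_set_le Q A
  have e3 : Nat.card ↥Z * Nat.card ↥B = Nat.card ((Z : Set P) * (B : Set P) : Set P) * Nat.card ↥(Z ⊓ B) :=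
    card_mul_card_eq_card_mul_set Z B
  have e4 : Nat.card ((Z : Set P) * (B : Set P) : Set P) ≤ Nat.card ↥(Z ⊔ B) := card_mul_set_le Z B
  have e5 : Nat.card ↥(Z ⊔ B) ≤ Nat.card ↥A := hA.2 _ hZB
  have hle6 : Z ⊓ B ≤ R ⊓ Subgroup.centralizer (R : Set P) := by
    refine le_inf (inf_le_left.trans (inf_le_left.trans le_sup_left)) ?_
    rw [hR, centralizer_sup_eq]
    refine le_inf (inf_le_left.trans inf_le_right) ?_
    exact inf_le_right.trans (inf_le_right.trans hAc)
  have e6 : Nat.card ↥(Z ⊓ B) ≤ Nat.card ↥(R ⊓ Subgroup.centralizer (R : Set P)) :=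
    Subgroup.card_le_of_le hle6
  have e7 : Nat.card ↥R * Nat.card ↥(R ⊓ Subgroup.centralizer (R : Set P)) ≤ Cfsg.maxCentralProduct P :=
    clm_le_max R
  have e8 : Nat.card ↥Q * Nat.card ↥Z = Cfsg.maxCentralProduct P := (isCentrallyLarge_iff Q).mp hQ
  obtain ⟨E1, E2, E3, E4⟩ := cl_arith _ _ _ _ _ _ _ _ _ _ _ (Nat.card_pos (α := ↥Q)) (Nat.card_pos (α := ↥B))
    (Nat.card_pos (α := ↥(Z ⊓ B))) e1 e2 e3 e4 e5 e6 e7 e8
  refine ⟨mul_set_eq_of_card_eq Q A E2, (isCentrallyLarge_iff R).mpr E1,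
    mem_maxAbelian_of_card_ge A _ hA hZB E3.ge, mul_set_eq_of_card_eq Z B E4⟩

/-- S3006 (c),(d) -/
theorem cl_maxAbelian_centralizer [Finite P] (Q A : Subgroup P) (hQ : Cfsg.IsCentrallyLarge Q)
    (hA : A ∈ Cfsg.maxAbelianSubgroups P) :
    (Q ⊔ A) ⊓ Subgroup.centralizer ((Q ⊓ A : Subgroup P) : Set P) =
        (Q ⊓ Subgroup.centralizer (Q : Set P)) ⊔ A ∧
      (((Q ⊓ Subgroup.centralizer (Q : Set P)) ⊔ A : Subgroup P) : Set P) =
        ((Q ⊓ Subgroup.centralizer (Q : Set P)) : Set P) * (A : Set P) := by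
  obtain ⟨h1, _, h3, h4⟩ := cl_mul_maxAbelian Q A hQ hA
  have hAc := hA.1
  rw [isMulCommutative_iff_le_centralizer] at hAc
  set Z := Q ⊓ Subgroup.centralizer (Q : Set P) with hZ
  set B := Q ⊓ A with hB
  have hself := centralizer_eq_of_mem_maxAbelian _ h3
  have hsub1 : (((Q ⊔ A) ⊓ Subgroup.centralizer (B : Set P) : Subgroup P) : Set P) ⊆
      (Z : Set P) * (A : Set P) := by
    rintro x ⟨hx1, hx2⟩
    rw [SetLike.mem_coe] at hx1 hx2
    have hx1' : x ∈ ((Q ⊔ A : Subgroup P) : Set P) := hx1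
    rw [h1] at hx1'
    obtain ⟨q, hq, a, ha, rfl⟩ := hx1'
    have haB : a ∈ Subgroup.centralizer (B : Set P) :=
      Subgroup.centralizer_le (inf_le_right : B ≤ A) (hAc ha)
    have hqB : q ∈ Subgroup.centralizer (B : Set P) := by
      have := Subgroup.mul_mem _ hx2 (Subgroup.inv_mem _ haB)
      simpa using this
    have hqZ : q ∈ Subgroup.centralizer (Z : Set P) := by
      have hZQ : Z ≤ Subgroup.centralizer (Q : Set P) := inf_le_right
      exact (Subgroup.le_centralizer_iff.mp hZQ) hq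
    have hq2 : q ∈ Subgroup.centralizer ((Z ⊔ B : Subgroup P) : Set P) := by
      rw [centralizer_sup_eq]; exact ⟨hqZ, hqB⟩
    rw [hself] at hq2
    have hq3 : q ∈ ((Z ⊔ B : Subgroup P) : Set P) := hq2
    rw [h4] at hq3
    obtain ⟨z, hz, b, hb, rfl⟩ := hq3
    refine ⟨z, hz, b * a, Subgroup.mul_mem _ hb.2 ha, ?_⟩
    simp [mul_assoc]
  have hsub2 : (Z : Set P) * (A : Set P) ⊆ ((Z ⊔ A : Subgroup P) : Set P) := mul_set_subset_sup Z A
  have hsub3 : Z ⊔ A ≤ (Q ⊔ A) ⊓ Subgroup.centralizer (B : Set P) := by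
    apply sup_le
    · exact le_inf (inf_le_left.trans le_sup_left)
        (inf_le_right.trans (Subgroup.centralizer_le inf_le_left))
    · exact le_inf le_sup_right (hAc.trans (Subgroup.centralizer_le inf_le_right))
  constructor
  · apply le_antisymm _ hsub3
    intro x hx
    exact hsub2 (hsub1 hx)
  · apply Set.Subset.antisymm _ hsub2
    intro x hx
    exact hsub1 (hsub3 hx)

/-- if a centrally large `Q` contains all abelian subgroups of largest order then `C(Z(J)) ≤ Q` -/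
theorem centralizer_center_thompson_le [Finite P] (Q : Subgroup P) (hQ : Cfsg.IsCentrallyLarge Q)
    (hJ : Cfsg.thompsonSubgroupA P ≤ Q) :
    Subgroup.centralizer ((Cfsg.thompsonSubgroupA P ⊓
      Subgroup.centralizer (Cfsg.thompsonSubgroupA P : Set P) : Subgroup P) : Set P) ≤ Q := by
  set J := Cfsg.thompsonSubgroupA P with hJdef
  set Z := Q ⊓ Subgroup.centralizer (Q : Set P) with hZ
  have hZA : ∀ A ∈ Cfsg.maxAbelianSubgroups P, Z ≤ A := by
    intro A hA
    have hAJ : A ≤ J := le_sSup hA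
    have hAQ : A ≤ Q := hAJ.trans hJ
    obtain ⟨h1, _⟩ := cl_maxAbelian_centralizer Q A hQ hA
    rw [sup_eq_left.mpr hAQ, inf_eq_right.mpr hAQ, centralizer_eq_of_mem_maxAbelian A hA,
      inf_eq_right.mpr hAQ] at h1
    rw [h1]
    exact le_sup_left
  obtain ⟨A₀, hA₀⟩ := exists_mem_maxAbelianSubgroups P
  have hZJ : Z ≤ J := (hZA A₀ hA₀).trans (le_sSup hA₀)
  have hZC : Z ≤ Subgroup.centralizer (J : Set P) := by
    rw [Subgroup.le_centralizer_iff]
    apply sSup_le
    intro A hA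
    rw [Subgroup.le_centralizer_iff]
    have := hA.1
    rw [isMulCommutative_iff_le_centralizer] at this
    exact (hZA A hA).trans this
  have h2 : Subgroup.centralizer ((J ⊓ Subgroup.centralizer (J : Set P) : Subgroup P) : Set P) ≤
      Subgroup.centralizer (Z : Set P) := Subgroup.centralizer_le (le_inf hZJ hZC)
  refine h2.trans ?_
  obtain ⟨hQ1, hQ2⟩ := isCentralizerLarge_of_isCentrallyLarge Q hQ
  have := (chermak_delgado_centralizer Q hQ1).2
  rw [hZ, ← hQ2]
  exact this.ge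

end Cfsg.Agent.Lib.Helper5
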