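import Cfsg.Agent.Lib.Helper5.CL2
import Cfsg.Agent.Lib.Helper5.YL2

set_option autoImplicit false
open Cfsg
open scoped Pointwise commutatorElement

namespace Cfsg.Agent.Lib.Helper5

variable {P : Type*} [Group P]

/-- `Q` minimal centrally large, `R` centrally large: `Q = (Q ∩ R) Z(Q)`.  More precisely:
`(Q ⊓ R) ⊔ C(Q)` is centrally large. -/
theorem isCentrallyLarge_inf_sup_centralizer [Finite P] (Q R : Subgroup P) (hQ : Cfsg.IsCentrallyLarge Q)
    (hR : Cfsg.IsCentrallyLarge R) :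
    Cfsg.IsCentrallyLarge ((Q ⊓ R) ⊔ Subgroup.centralizer (Q : Set P)) := by
  obtain ⟨hQ1, _⟩ := isCentralizerLarge_of_isCentrallyLarge Q hQ
  obtain ⟨hR1, _⟩ := isCentralizerLarge_of_isCentrallyLarge R hR
  have hCQ := centralizer_le_of_isCentrallyLarge Q hQ
  have hCR := centralizer_le_of_isCentrallyLarge R hR
  obtain ⟨_, _, hD, hCD⟩ := chermak_delgado Q R hQ1 hR1
  obtain ⟨hZQ, hQeq⟩ := chermak_delgado_centralizer Q hQ1
  obtain ⟨hZR, _⟩ := chermak_delgado_centralizer R hR1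
  obtain ⟨hprod, _, _, _⟩ := chermak_delgado _ _ hZQ hZR
  obtain ⟨_, hX, _, _⟩ := chermak_delgado _ _ hD hZQ
  rw [isCentrallyLarge_iff_of_isCentralizerLarge _ hX, centralizer_sup_eq, hCD, ← hQeq]
  rintro x ⟨hx1, hx2⟩
  have hx1' : x ∈ ((Subgroup.centralizer (Q : Set P) ⊔ Subgroup.centralizer (R : Set P) : Subgroup P) : Set P) := hx1
  rw [hprod] at hx1'
  obtain ⟨c1, hc1, c2, hc2, rfl⟩ := hx1'
  have hc2Q : c2 ∈ Q := by
    have := Subgroup.mul_mem _ (Subgroup.inv_mem _ (hCQ hc1)) hx2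
    simpa using this
  exact Subgroup.mul_mem _ (Subgroup.mem_sup_right hc1) (Subgroup.mem_sup_left ⟨hc2Q, hCR hc2⟩)

theorem minCL_eq [Finite P] (Q R : Subgroup P) (hQ : Cfsg.IsMinimalCentrallyLarge Q)
    (hR : Cfsg.IsCentrallyLarge R) :
    (Q ⊓ R) ⊔ Subgroup.centralizer (Q : Set P) = Q := by
  apply hQ.2 _ _ (isCentrallyLarge_inf_sup_centralizer Q R hQ.1 hR)
  exact sup_le inf_le_left (centralizer_le_of_isCentrallyLarge Q hQ.1)

theorem commutator_eq_of_sup_central (Q D Z : Subgroup P) (hD : D ≤ Q) (hZ : Z ≤ Subgroup.centralizer (Q : Set P))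
    (h : D ⊔ Z = Q) : ⁅Q, Q⁆ = ⁅D, D⁆ := by
  apply le_antisymm _ (Subgroup.commutator_mono hD hD)
  rw [Subgroup.commutator_le]
  have hN : D ≤ Subgroup.normalizer (Z : Set P) :=
    (hD.trans (Subgroup.le_centralizer_iff.mp hZ)).trans (Subgroup.centralizer_le_normalizer _)
  intro x hx y hy
  rw [← h, mem_sup_of_le_normalizer D Z hN] at hx hy
  obtain ⟨d1, hd1, z1, hz1, rfl⟩ := hx
  obtain ⟨d2, hd2, z2, hz2, rfl⟩ := hy
  have c1 : ∀ g ∈ Q, g * z1 = z1 * g := fun g hg => hZ hz1 g hg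
  have c2 : ∀ g ∈ Q, g * z2 = z2 * g := fun g hg => hZ hz2 g hg
  have hz1Q : z1 ∈ Q := h ▸ Subgroup.mem_sup_right hz1
  have hz2Q : z2 ∈ Q := h ▸ Subgroup.mem_sup_right hz2
  have e : ⁅d1 * z1, d2 * z2⁆ = ⁅d1, d2⁆ := by
    rw [commutatorElement_def, commutatorElement_def]
    have a1 : d1 * z1 * (d2 * z2) = d1 * d2 * (z1 * z2) := by
      rw [mul_assoc d1 z1, ← mul_assoc z1 d2, ← c1 d2 (hD hd2)]; group
    have a2 : (d1 * z1)⁻¹ * (d2 * z2)⁻¹ = (z1 * z2)⁻¹ * (d1⁻¹ * d2⁻¹) := by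
      have : (d2 * z2) * (d1 * z1) = d2 * d1 * (z1 * z2) := by
        rw [mul_assoc d2 z2, ← mul_assoc z2 d1, ← c2 d1 (hD hd1), c2 z1 hz1Q]; group
      have h3 : (d1 * z1)⁻¹ * (d2 * z2)⁻¹ = ((d2 * z2) * (d1 * z1))⁻¹ := by group
      rw [h3, this]; group
    calc d1 * z1 * (d2 * z2) * (d1 * z1)⁻¹ * (d2 * z2)⁻¹
        = (d1 * z1 * (d2 * z2)) * ((d1 * z1)⁻¹ * (d2 * z2)⁻¹) := by group
      _ = d1 * d2 * (z1 * z2) * ((z1 * z2)⁻¹ * (d1⁻¹ * d2⁻¹)) := by rw [a1, a2]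
      _ = d1 * d2 * d1⁻¹ * d2⁻¹ := by group
  rw [e]
  exact Subgroup.commutator_mem_commutator hd1 hd2

theorem mincl_arith (q r d a b u v c e f : ℕ) (hd : 0 < d) (ha : 0 < a) (hb : 0 < b)
    (h1 : d * a = q * u) (h2 : d * b = r * v) (h3 : q * a = f) (h4 : r * b = f) (h5 : d * e = f)
    (h6 : a * b = e * c) (h7 : c ≤ u) (h8 : c ≤ v) : q = r ∧ a = b := by
  have e1 : f * u = d * a * a := by rw [← h3, h1]; ring
  have e2 : f * c = d * a * b := by rw [← h5, mul_assoc, mul_assoc, h6]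
  have e3 : f * v = d * b * b := by rw [← h4, h2]; ring
  have i1 : d * a * b ≤ d * a * a := by rw [← e1, ← e2]; exact Nat.mul_le_mul_left _ h7
  have i2 : d * a * b ≤ d * b * b := by rw [← e3, ← e2]; exact Nat.mul_le_mul_left _ h8
  have hba : b ≤ a := Nat.le_of_mul_le_mul_left i1 (Nat.mul_pos hd ha)
  have hab : a ≤ b := by
    have : d * b * a ≤ d * b * b := by
      calc d * b * a = d * a * b := by ring
        _ ≤ _ := i2
    exact Nat.le_of_mul_le_mul_left this (Nat.mul_pos hd hb)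
  have hEq : a = b := le_antisymm hab hba
  refine ⟨?_, hEq⟩
  subst hEq
  have : q * a = r * a := by rw [h3, h4]
  exact Nat.eq_of_mul_eq_mul_right ha this

/-- S3007 parts 1-4 -/
theorem minCL_pair [Finite P] (Q R : Subgroup P) (hQ : Cfsg.IsMinimalCentrallyLarge Q)
    (hR : Cfsg.IsMinimalCentrallyLarge R) :
    ⁅Q, Q⁆ = ⁅R, R⁆ ∧ Nat.card ↥Q = Nat.card ↥R ∧
      Nat.card ↥(Subgroup.centralizer (Q : Set P)) = Nat.card ↥(Subgroup.centralizer (R : Set P)) := by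
  have hQR := minCL_eq Q R hQ hR.1
  have hRQ := minCL_eq R Q hR hQ.1
  rw [inf_comm] at hRQ
  constructor
  · rw [commutator_eq_of_sup_central Q (Q ⊓ R) _ inf_le_left le_rfl hQR,
      commutator_eq_of_sup_central R (Q ⊓ R) _ inf_le_right le_rfl hRQ]
  · obtain ⟨hQ1, _⟩ := isCentralizerLarge_of_isCentrallyLarge Q hQ.1
    obtain ⟨hR1, _⟩ := isCentralizerLarge_of_isCentrallyLarge R hR.1
    have hCQ := centralizer_le_of_isCentrallyLarge Q hQ.1
    have hCR := centralizer_le_of_isCentrallyLarge R hR.1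
    obtain ⟨_, _, hD, hCD⟩ := chermak_delgado Q R hQ1 hR1
    obtain ⟨hZQ, _⟩ := chermak_delgado_centralizer Q hQ1
    obtain ⟨hZR, _⟩ := chermak_delgado_centralizer R hR1
    obtain ⟨hprod, _, _, _⟩ := chermak_delgado _ _ hZQ hZR
    obtain ⟨hpQ, _, _, _⟩ := chermak_delgado _ _ hD hZQ
    obtain ⟨hpR, _, _, _⟩ := chermak_delgado _ _ hD hZR
    set D := Q ⊓ R with hDdef
    set ZQ := Subgroup.centralizer (Q : Set P) with hZQdef
    set ZR := Subgroup.centralizer (R : Set P) with hZRdef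
    have h1 : Nat.card ↥D * Nat.card ↥ZQ = Nat.card ↥Q * Nat.card ↥(D ⊓ ZQ) := by
      rw [card_mul_card_eq_card_mul_set D ZQ, ← hpQ, hQR]; rfl
    have h2 : Nat.card ↥D * Nat.card ↥ZR = Nat.card ↥R * Nat.card ↥(D ⊓ ZR) := by
      rw [card_mul_card_eq_card_mul_set D ZR, ← hpR, hRQ]; rfl
    have h3 : Nat.card ↥Q * Nat.card ↥ZQ = Cfsg.maxCentralizerProduct P := hQ1
    have h4 : Nat.card ↥R * Nat.card ↥ZR = Cfsg.maxCentralizerProduct P := hR1
    have h5 : Nat.card ↥D * Nat.card ↥(ZQ ⊔ ZR) = Cfsg.maxCentralizerProduct P := by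
      have := hD
      unfold Cfsg.IsCentralizerLarge at this
      rw [hCD] at this
      exact this
    have h6 : Nat.card ↥ZQ * Nat.card ↥ZR = Nat.card ↥(ZQ ⊔ ZR) * Nat.card ↥(ZQ ⊓ ZR) := by
      rw [card_mul_card_eq_card_mul_set ZQ ZR, ← hprod]; rfl
    have h7 : Nat.card ↥(ZQ ⊓ ZR) ≤ Nat.card ↥(D ⊓ ZQ) :=
      Subgroup.card_le_of_le (le_inf (le_inf (inf_le_left.trans hCQ) (inf_le_right.trans hCR)) inf_le_left)
    have h8 : Nat.card ↥(ZQ ⊓ ZR) ≤ Nat.card ↥(D ⊓ ZR) :=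
      Subgroup.card_le_of_le (le_inf (le_inf (inf_le_left.trans hCQ) (inf_le_right.trans hCR)) inf_le_right)
    exact mincl_arith _ _ _ _ _ _ _ _ _ _ Nat.card_pos Nat.card_pos Nat.card_pos h1 h2 h3 h4 h5 h6 h7 h8

theorem clm_of_abelian (B : Subgroup P) (hB : B ≤ Subgroup.centralizer (B : Set P)) :
    clm B = Nat.card ↥B * Nat.card ↥B := by
  unfold clm
  rw [inf_eq_left.mpr hB]

theorem mem_maxAbelian_of_cl_abelian [Finite P] (Q : Subgroup P) (hQ : Cfsg.IsCentrallyLarge Q)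
    (hQab : Q ≤ Subgroup.centralizer (Q : Set P)) : Q ∈ Cfsg.maxAbelianSubgroups P := by
  refine ⟨(isMulCommutative_iff_le_centralizer Q).mpr hQab, fun B hB => ?_⟩
  rw [isMulCommutative_iff_le_centralizer] at hB
  have h1 := clm_le_max B
  rw [← (isCentrallyLarge_iff Q).mp hQ, clm_of_abelian B hB, clm_of_abelian Q hQab] at h1
  exact Nat.mul_self_le_mul_self_iff.mp h1

theorem cl_of_maxAbelian [Finite P] (Q X : Subgroup P) (hQ : Cfsg.IsCentrallyLarge Q)
    (hQab : Q ≤ Subgroup.centralizer (Q : Set P)) (hX : X ∈ Cfsg.maxAbelianSubgroups P) :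
    Cfsg.IsCentrallyLarge X := by
  have hXab := hX.1
  rw [isMulCommutative_iff_le_centralizer] at hXab
  have h1 := hX.2 Q ((isMulCommutative_iff_le_centralizer Q).mpr hQab)
  rw [isCentrallyLarge_iff]
  apply le_antisymm (clm_le_max X)
  rw [← (isCentrallyLarge_iff Q).mp hQ, clm_of_abelian X hXab, clm_of_abelian Q hQab]
  exact Nat.mul_le_mul h1 h1

theorem minCL_iff_maxAbelian [Finite P] (Q : Subgroup P) (hQ : Cfsg.IsMinimalCentrallyLarge Q)
    (hQab : IsMulCommutative ↥Q) (X : Subgroup P) :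
    Cfsg.IsMinimalCentrallyLarge X ↔ X ∈ Cfsg.maxAbelianSubgroups P := by
  have hQab' := hQab
  rw [isMulCommutative_iff_le_centralizer] at hQab'
  have hQmax := mem_maxAbelian_of_cl_abelian Q hQ.1 hQab'
  constructor
  · intro hX
    obtain ⟨h1, h2, _⟩ := minCL_pair Q X hQ hX
    have hXab : IsMulCommutative ↥X := by
      rw [isMulCommutative_iff_le_centralizer, ← Subgroup.commutator_eq_bot_iff_le_centralizer, ← h1,
        Subgroup.commutator_eq_bot_iff_le_centralizer]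
      exact hQab'
    exact mem_maxAbelian_of_card_ge Q X hQmax hXab h2.le
  · intro hX
    have hXcl := cl_of_maxAbelian Q X hQ.1 hQab' hX
    refine ⟨hXcl, fun X' hX' hX'cl => ?_⟩
    have hXab := hX.1
    rw [isMulCommutative_iff_le_centralizer] at hXab
    have hX'ab : X' ≤ Subgroup.centralizer (X' : Set P) :=
      hX'.trans (hXab.trans (Subgroup.centralizer_le hX'))
    have e1 := (isCentrallyLarge_iff X).mp hXcl
    have e2 := (isCentrallyLarge_iff X').mp hX'cl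
    rw [clm_of_abelian X hXab] at e1
    rw [clm_of_abelian X' hX'ab, ← e1] at e2
    have h3 : Nat.card ↥X ≤ Nat.card ↥X' := Nat.mul_self_le_mul_self_iff.mp e2.ge
    exact Subgroup.eq_of_le_of_card_ge hX' h3

end Cfsg.Agent.Lib.Helper5
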