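import Cfsg.Prelude.Def_Amalgam

set_option autoImplicit false
open Cfsg

namespace Cfsg.Agent.Lib.Helper5

variable {G : Type*} [Group G] {p : ℕ}

theorem conj_pow_eq (x r c : G) (hcomm : x * c = c * x) (h : x * r * x⁻¹ = r * c) (k : ℕ) :
    x ^ k * r * (x ^ k)⁻¹ = r * c ^ k := by
  induction k with
  | zero => simp
  | succ k ih =>
    have h1 : x ^ (k + 1) * r * (x ^ (k + 1))⁻¹ = x * (x ^ k * r * (x ^ k)⁻¹) * x⁻¹ := by
      rw [pow_succ']
      group
    rw [h1, ih]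
    have h2 : x * (r * c ^ k) * x⁻¹ = (x * r * x⁻¹) * (x * c ^ k * x⁻¹) := by group
    rw [h2, h]
    have h3 : x * c ^ k * x⁻¹ = c ^ k := by
      have : Commute x (c ^ k) := (show Commute x c from hcomm).pow_right k
      rw [this.eq]
      group
    rw [h3, pow_succ']
    group

theorem eq_one_of_coprime_conj [Fact p.Prime] (x r c : G)
    (hx : (orderOf x).Coprime p)
    (hc : ∃ k : ℕ, c ^ p ^ k = 1) (hcomm : x * c = c * x) (h : x * r * x⁻¹ = r * c) : c = 1 := by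
  have h1 := conj_pow_eq x r c hcomm h (orderOf x)
  rw [pow_orderOf_eq_one] at h1
  have h2 : c ^ orderOf x = 1 := by
    have : r = r * c ^ orderOf x := by simpa using h1
    exact (mul_eq_left.mp this.symm)
  obtain ⟨k, hk⟩ := hc
  have h3 : orderOf c ∣ orderOf x := orderOf_dvd_of_pow_eq_one h2
  have h4 : orderOf c ∣ p ^ k := orderOf_dvd_of_pow_eq_one hk
  have h5 : (orderOf x).Coprime (p ^ k) := Nat.Coprime.pow_right k hx
  have h6 : orderOf c = 1 := Nat.eq_one_of_dvd_coprimes h5 h3 h4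
  exact orderOf_eq_one_iff.mp h6

theorem pprime_part (g : G) (hfin : IsOfFinOrder g) [Fact p.Prime] :
    ∃ a : ℕ, IsOfFinOrder (g ^ p ^ a) ∧ (orderOf (g ^ p ^ a)).Coprime p := by
  have hp : p.Prime := Fact.out
  have hpos : 0 < orderOf g := hfin.orderOf_pos
  refine ⟨(orderOf g).factorization p, hfin.pow, ?_⟩
  rw [orderOf_pow' g (pow_ne_zero _ hp.ne_zero)]
  have h1 : Nat.gcd (orderOf g) (p ^ (orderOf g).factorization p) = p ^ (orderOf g).factorization p :=
    Nat.gcd_eq_right (Nat.ordProj_dvd _ _)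
  rw [h1]
  exact (Nat.coprime_ordCompl hp hpos.ne').symm

theorem isPGroup_of_coprime_trivial [Fact p.Prime] (L : Subgroup G)
    (hfin : ∀ g ∈ L, IsOfFinOrder g)
    (h : ∀ x ∈ L, IsOfFinOrder x → (orderOf x).Coprime p → x = 1) : IsPGroup p L := by
  rintro ⟨g, hg⟩
  obtain ⟨a, h1, h2⟩ := pprime_part (p := p) g (hfin g hg)
  refine ⟨a, ?_⟩
  have := h _ (L.pow_mem hg _) h1 h2
  exact Subtype.ext this

theorem pelement_coprime_eq_one [Fact p.Prime] (x : G) (hx : (orderOf x).Coprime p)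
    (hp : ∃ k : ℕ, x ^ p ^ k = 1) : x = 1 := by
  obtain ⟨k, hk⟩ := hp
  have h4 : orderOf x ∣ p ^ k := orderOf_dvd_of_pow_eq_one hk
  have h5 : (orderOf x).Coprime (p ^ k) := Nat.Coprime.pow_right k hx
  have h6 : orderOf x = 1 := Nat.eq_one_of_dvd_coprimes h5 dvd_rfl h4
  exact orderOf_eq_one_iff.mp h6

theorem coprime_centralizes_chain [Fact p.Prime] (x : G)
    (hx : (orderOf x).Coprime p) (B : ℕ → Subgroup G) (hB0 : B 0 = ⊥)
    (hp : ∀ i, IsPGroup p (B i))
    (hstep : ∀ i, ∀ r ∈ B (i + 1), r⁻¹ * (x * r * x⁻¹) ∈ B i) :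
    ∀ i, ∀ r ∈ B i, x * r = r * x := by
  intro i
  induction i with
  | zero =>
    intro r hr
    rw [hB0, Subgroup.mem_bot] at hr
    rw [hr]; simp
  | succ i ih =>
    intro r hr
    have hc := hstep i r hr
    set c := r⁻¹ * (x * r * x⁻¹) with hcdef
    have hcp : ∃ k : ℕ, c ^ p ^ k = 1 := by
      obtain ⟨k, hk⟩ := hp i ⟨c, hc⟩
      refine ⟨k, ?_⟩
      have := congrArg Subtype.val hk
      simpa using this
    have h1 : x * r * x⁻¹ = r * c := by rw [hcdef]; group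
    have hc1 := eq_one_of_coprime_conj x r c hx hcp (ih c hc) h1
    rw [hc1, mul_one] at h1
    calc x * r = x * r * x⁻¹ * x := by group
      _ = r * x := by rw [h1]

theorem coprime_centralizes_step [Fact p.Prime] (x : G)
    (hx : (orderOf x).Coprime p) (B C : Subgroup G)
    (hC : IsPGroup p C) (hcent : ∀ c ∈ C, x * c = c * x)
    (hstep : ∀ r ∈ B, r⁻¹ * (x * r * x⁻¹) ∈ C) :
    ∀ r ∈ B, x * r = r * x := by
  intro r hr
  have hc := hstep r hr
  have hcp : ∃ k : ℕ, (r⁻¹ * (x * r * x⁻¹)) ^ p ^ k = 1 := by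
    obtain ⟨k, hk⟩ := hC ⟨_, hc⟩
    refine ⟨k, ?_⟩
    have := congrArg Subtype.val hk
    simpa using this
  have h1 : x * r * x⁻¹ = r * (r⁻¹ * (x * r * x⁻¹)) := by group
  have hc1 := eq_one_of_coprime_conj x r _ hx hcp (hcent _ hc) h1
  rw [hc1, mul_one] at h1
  calc x * r = x * r * x⁻¹ * x := by group
    _ = r * x := by rw [h1]

theorem isPGroup_mem_pow [Fact p.Prime] (C : Subgroup G) (hC : IsPGroup p C) (c : G) (hc : c ∈ C) :
    ∃ k : ℕ, c ^ p ^ k = 1 := by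
  obtain ⟨k, hk⟩ := hC ⟨c, hc⟩
  refine ⟨k, ?_⟩
  have := congrArg Subtype.val hk
  simpa using this

end Cfsg.Agent.Lib.Helper5
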