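import Cfsg.Agent.Lib.Helper5.PCore
import Cfsg.Agent.Lib.Helper5.Coprime

set_option autoImplicit false
open Cfsg

namespace Cfsg.Agent.Lib.Helper5

variable {G : Type*} [Group G] {p : ℕ}

theorem pCore_map_equiv_le {G' : Type*} [Group G'] (e : G ≃* G') :
    (Cfsg.pCore p G).map e.toMonoidHom ≤ Cfsg.pCore p G' := by
  apply le_pCore
  · exact Subgroup.Normal.map (Cfsg.pCore_normal p G) e.toMonoidHom e.surjective
  · exact (isPGroup_pCore p G).map _

theorem pCore_map_equiv {G' : Type*} [Group G'] (e : G ≃* G') :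
    (Cfsg.pCore p G).map e.toMonoidHom = Cfsg.pCore p G' := by
  apply le_antisymm (pCore_map_equiv_le e)
  have h := pCore_map_equiv_le (p := p) e.symm
  intro x hx
  have h2 := h (Subgroup.mem_map_of_mem _ hx)
  refine ⟨e.symm x, h2, ?_⟩
  simp

theorem pCore_characteristic (p : ℕ) (G : Type*) [Group G] : (Cfsg.pCore p G).Characteristic :=
  Subgroup.characteristic_iff_map_le.mpr (fun ϕ => pCore_map_equiv_le ϕ)

theorem mem_pCore_equiv {G' : Type*} [Group G'] (e : G ≃* G') (x : G) :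
    e x ∈ Cfsg.pCore p G' ↔ x ∈ Cfsg.pCore p G := by
  rw [← pCore_map_equiv e]
  constructor
  · rintro ⟨y, hy, hyx⟩
    have : y = x := e.injective hyx
    rwa [← this]
  · intro hx
    exact ⟨x, hx, rfl⟩

theorem charp_of_equiv {G' : Type*} [Group G'] (e : G ≃* G')
    (h : Subgroup.centralizer (Cfsg.pCore p G : Set G) ≤ Cfsg.pCore p G) :
    Subgroup.centralizer (Cfsg.pCore p G' : Set G') ≤ Cfsg.pCore p G' := by
  intro x hx
  have h1 : e.symm x ∈ Subgroup.centralizer (Cfsg.pCore p G : Set G) := by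
    rw [Subgroup.mem_centralizer_iff] at hx ⊢
    intro q hq
    have hq' : e q ∈ Cfsg.pCore p G' := (mem_pCore_equiv e q).mpr hq
    have := hx (e q) hq'
    apply e.injective
    simpa using this
  have h2 := h h1
  have h3 := (mem_pCore_equiv (p := p) e (e.symm x)).mpr h2
  simpa using h3

theorem charp_of_coprime_trivial [Fact p.Prime] [Finite G]
    (h : ∀ x ∈ Subgroup.centralizer (Cfsg.pCore p G : Set G), (orderOf x).Coprime p → x = 1) :
    Subgroup.centralizer (Cfsg.pCore p G : Set G) ≤ Cfsg.pCore p G := by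
  haveI := Cfsg.pCore_normal p G
  apply le_pCore _ Subgroup.normal_centralizer
  apply isPGroup_of_coprime_trivial _ (fun g _ => isOfFinOrder_of_finite g)
  intro x hx _ hc
  exact h x hx hc

theorem subgroupOf_le_pCore [Fact p.Prime] (N L : Subgroup G) (hN : N.Normal) (hNp : IsPGroup p N) :
    N.subgroupOf L ≤ Cfsg.pCore p L := by
  apply le_pCore
  · exact hN.subgroupOf L
  · exact hNp.comap_of_injective L.subtype L.subtype_injective

theorem charp_of_normalizedBy [Fact p.Prime] [Finite G]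
    (hG : Subgroup.centralizer (Cfsg.pCore p G : Set G) ≤ Cfsg.pCore p G) (L : Subgroup G)
    (hL : Cfsg.pCore p G ≤ Subgroup.normalizer (L : Set G)) :
    Subgroup.centralizer (Cfsg.pCore p ↥L : Set ↥L) ≤ Cfsg.pCore p ↥L := by
  apply charp_of_coprime_trivial
  intro x hx hxc
  have hxc' : (orderOf (x : G)).Coprime p := by rwa [Subgroup.orderOf_coe]
  have hQp := isPGroup_pCore p G
  have hQn := Cfsg.pCore_normal p G
  have hsub := subgroupOf_le_pCore (Cfsg.pCore p G) L hQn hQp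
  have hPp : IsPGroup p (Cfsg.pCoreOf p L) := isPGroup_pCoreOf p L
  have hcent : ∀ c ∈ Cfsg.pCoreOf p L, (x : G) * c = c * x := by
    intro c hc
    obtain ⟨c', hc', rfl⟩ := hc
    rw [Subgroup.mem_centralizer_iff] at hx
    have := hx c' hc'
    have h2 := congrArg Subtype.val this
    simpa using h2.symm
  have hstep : ∀ r ∈ Cfsg.pCore p G, r⁻¹ * ((x : G) * r * (x : G)⁻¹) ∈ Cfsg.pCoreOf p L := by
    intro r hr
    have h1 : r⁻¹ * ((x : G) * r * (x : G)⁻¹) ∈ Cfsg.pCore p G :=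
      Subgroup.mul_mem _ (Subgroup.inv_mem _ hr) (hQn.conj_mem r hr x)
    have h2 : r⁻¹ * ((x : G) * r * (x : G)⁻¹) ∈ L := by
      have h3 : r⁻¹ * (x : G) * r⁻¹⁻¹ ∈ L :=
        (Subgroup.mem_normalizer_iff.mp (hL (Subgroup.inv_mem _ hr)) x).mp x.2
      have h4 : r⁻¹ * ((x : G) * r * (x : G)⁻¹) = (r⁻¹ * (x : G) * r⁻¹⁻¹) * (x : G)⁻¹ := by group
      rw [h4]
      exact L.mul_mem h3 (L.inv_mem x.2)
    have h5 : (⟨_, h2⟩ : L) ∈ (Cfsg.pCore p G).subgroupOf L := by
      rw [Subgroup.mem_subgroupOf]; exact h1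
    exact ⟨⟨_, h2⟩, hsub h5, rfl⟩
  have key := coprime_centralizes_step (x : G) hxc' (Cfsg.pCore p G) (Cfsg.pCoreOf p L) hPp hcent hstep
  have hxC : (x : G) ∈ Subgroup.centralizer (Cfsg.pCore p G : Set G) := by
    rw [Subgroup.mem_centralizer_iff]
    intro r hr
    exact (key r hr).symm
  have hx1 : (x : G) = 1 := pelement_coprime_eq_one (x : G) hxc'
    (isPGroup_mem_pow _ hQp _ (hG hxC))
  exact Subtype.ext hx1

theorem pCoreOf_normal_of_normal (p : ℕ) (K : Subgroup G) (hK : K.Normal) :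
    (Cfsg.pCoreOf p K).Normal := by
  haveI := hK
  haveI := pCore_characteristic p ↥K
  unfold Cfsg.pCoreOf
  exact ConjAct.normal_of_characteristic_of_normal

theorem pCoreOf_eq_map_of_normal [Fact p.Prime] (K : Subgroup G) (hK : K.Normal) :
    Cfsg.pCoreOf p K ≤ Cfsg.pCore p G :=
  le_pCore _ (pCoreOf_normal_of_normal p K hK) (isPGroup_pCoreOf p K)

theorem pCoreOf_le_pCoreOf_of_normal [Fact p.Prime] (K H : Subgroup G) (hKH : K ≤ H)
    (hK : (K.subgroupOf H).Normal) : Cfsg.pCoreOf p K ≤ Cfsg.pCoreOf p H := by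
  intro q hq
  obtain ⟨q', hq', rfl⟩ := hq
  let e := Subgroup.subgroupOfEquivOfLe hKH
  have h1 : (e.symm q') ∈ Cfsg.pCore p ↥(K.subgroupOf H) := (mem_pCore_equiv e.symm q').mpr hq'
  have h2 : (Cfsg.pCoreOf p (K.subgroupOf H)) ≤ Cfsg.pCore p ↥H :=
    pCoreOf_eq_map_of_normal (K.subgroupOf H) hK
  have h3 : ((e.symm q' : ↥(K.subgroupOf H)) : ↥H) ∈ Cfsg.pCore p ↥H :=
    h2 ⟨_, h1, rfl⟩
  refine ⟨_, h3, ?_⟩
  rfl

end Cfsg.Agent.Lib.Helper5
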