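import Cfsg.Agent.Lib.Helper5.PReduced2

set_option autoImplicit false
open Cfsg

namespace Cfsg.Agent.Lib.Helper5

variable {H : Type*} [Group H] {p : ℕ}

/-- ambient-level `p`-reducedness of the action of `M` on `Y`. -/
def PRedOf (p : ℕ) (M Y : Subgroup H) : Prop :=
  ∀ D : Subgroup H, D ≤ M → M ≤ Subgroup.normalizer (D : Set H) →
    (∀ d ∈ D, ∃ k : ℕ, d ^ p ^ k ∈ Subgroup.centralizer (Y : Set H)) →
    D ≤ Subgroup.centralizer (Y : Set H)

theorem centralizer_subgroupOf_eq (M Y : Subgroup H) (hYM : Y ≤ M) :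
    Subgroup.centralizer ((Y.subgroupOf M : Subgroup M) : Set M) =
      (Subgroup.centralizer (Y : Set H)).subgroupOf M := by
  ext m
  rw [Subgroup.mem_subgroupOf, Subgroup.mem_centralizer_iff, Subgroup.mem_centralizer_iff]
  constructor
  · intro h y hy
    have := h ⟨y, hYM hy⟩ (by rw [SetLike.mem_coe, Subgroup.mem_subgroupOf]; exact hy)
    exact congrArg Subtype.val this
  · intro h y hy
    rw [SetLike.mem_coe, Subgroup.mem_subgroupOf] at hy
    exact Subtype.ext (h y hy)

theorem isElementaryAbelian_subgroupOf_iff (M Y : Subgroup H) (hYM : Y ≤ M) :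
    Cfsg.IsElementaryAbelian p (Y.subgroupOf M) ↔ Cfsg.IsElementaryAbelian p Y := by
  unfold Cfsg.IsElementaryAbelian
  constructor
  · rintro ⟨⟨⟨hc⟩⟩, he⟩
    refine ⟨⟨⟨fun a b => ?_⟩⟩, fun a ha => ?_⟩
    · have := hc ⟨⟨a.1, hYM a.2⟩, by rw [Subgroup.mem_subgroupOf]; exact a.2⟩
        ⟨⟨b.1, hYM b.2⟩, by rw [Subgroup.mem_subgroupOf]; exact b.2⟩
      have h2 := congrArg Subtype.val (congrArg Subtype.val this)
      exact Subtype.ext h2
    · have := he ⟨a, hYM ha⟩ (by rw [Subgroup.mem_subgroupOf]; exact ha)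
      have h2 := congrArg Subtype.val this
      simpa using h2
  · rintro ⟨⟨⟨hc⟩⟩, he⟩
    refine ⟨⟨⟨fun a b => ?_⟩⟩, fun a ha => ?_⟩
    · have := hc ⟨a.1.1, Subgroup.mem_subgroupOf.mp a.2⟩ ⟨b.1.1, Subgroup.mem_subgroupOf.mp b.2⟩
      have h2 := congrArg Subtype.val this
      exact Subtype.ext (Subtype.ext h2)
    · have := he a.1 (Subgroup.mem_subgroupOf.mp ha)
      apply Subtype.ext
      simpa using this

theorem pRed_subgroupOf_iff (M Y : Subgroup H) (hYM : Y ≤ M) :
    PRed p (Subgroup.centralizer ((Y.subgroupOf M : Subgroup M) : Set M)) ↔ PRedOf p M Y := by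
  rw [centralizer_subgroupOf_eq M Y hYM]
  constructor
  · intro h D hDM hDn hDp
    have hn : (D.subgroupOf M).Normal := (Subgroup.normal_subgroupOf_iff_le_normalizer hDM).mpr hDn
    have := h (D.subgroupOf M) hn (by
      intro d hd
      rw [Subgroup.mem_subgroupOf] at hd
      obtain ⟨k, hk⟩ := hDp _ hd
      refine ⟨k, ?_⟩
      rw [Subgroup.mem_subgroupOf]
      simpa using hk)
    intro d hd
    have h2 := this (show (⟨d, hDM hd⟩ : M) ∈ D.subgroupOf M from by
      rw [Subgroup.mem_subgroupOf]; exact hd)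
    rw [Subgroup.mem_subgroupOf] at h2
    exact h2
  · intro h D hD hDp
    have hDM : D.map M.subtype ≤ M := by
      rintro _ ⟨d, _, rfl⟩
      exact d.2
    have hcm : (D.map M.subtype).subgroupOf M = D :=
      Subgroup.comap_map_eq_self_of_injective M.subtype_injective _
    have hDn : M ≤ Subgroup.normalizer ((D.map M.subtype : Subgroup H) : Set H) := by
      rw [← Subgroup.normal_subgroupOf_iff_le_normalizer hDM, hcm]
      exact hD
    have := h (D.map M.subtype) hDM hDn (by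
      rintro _ ⟨d, hd, rfl⟩
      obtain ⟨k, hk⟩ := hDp d hd
      refine ⟨k, ?_⟩
      rw [Subgroup.mem_subgroupOf] at hk
      simpa using hk)
    intro d hd
    rw [Subgroup.mem_subgroupOf]
    exact this ⟨d, hd, rfl⟩

theorem isPReducedNormal_subgroupOf_iff (M Y : Subgroup H) (hYM : Y ≤ M) :
    Cfsg.IsPReducedNormal p (Y.subgroupOf M) ↔
      M ≤ Subgroup.normalizer (Y : Set H) ∧ Cfsg.IsElementaryAbelian p Y ∧ PRedOf p M Y := by
  rw [isPReducedNormal_iff, Subgroup.normal_subgroupOf_iff_le_normalizer hYM,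
    isElementaryAbelian_subgroupOf_iff M Y hYM, pRed_subgroupOf_iff M Y hYM]

theorem isPReducedNormal_iff_map (M : Subgroup H) (X : Subgroup M) :
    Cfsg.IsPReducedNormal p X ↔
      M ≤ Subgroup.normalizer ((X.map M.subtype : Subgroup H) : Set H) ∧
      Cfsg.IsElementaryAbelian p (X.map M.subtype) ∧ PRedOf p M (X.map M.subtype) := by
  have hDM : X.map M.subtype ≤ M := by
    rintro _ ⟨d, _, rfl⟩
    exact d.2
  have hcm : (X.map M.subtype).subgroupOf M = X :=
    Subgroup.comap_map_eq_self_of_injective M.subtype_injective _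
  rw [← isPReducedNormal_subgroupOf_iff M _ hDM, hcm]


theorem largestPReducedOf_le (L : Subgroup H) : Cfsg.largestPReducedOf p L ≤ L := by
  rintro _ ⟨d, _, rfl⟩
  exact d.2

theorem le_largestPReducedOf (L Y : Subgroup H) (hYL : Y ≤ L)
    (hn : L ≤ Subgroup.normalizer (Y : Set H)) (he : Cfsg.IsElementaryAbelian p Y)
    (hr : PRedOf p L Y) : Y ≤ Cfsg.largestPReducedOf p L := by
  have h1 : Cfsg.IsPReducedNormal p (Y.subgroupOf L) :=
    (isPReducedNormal_subgroupOf_iff L Y hYL).mpr ⟨hn, he, hr⟩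
  have h2 : Y.subgroupOf L ≤ Cfsg.largestPReduced p ↥L := le_sSup h1
  unfold Cfsg.largestPReducedOf
  rw [← Subgroup.map_subgroupOf_eq_of_le hYL]
  exact Subgroup.map_mono h2

theorem pCoreOf_normalizer (L : Subgroup H) :
    L ≤ Subgroup.normalizer ((Cfsg.pCoreOf p L : Subgroup H) : Set H) := by
  have hn := Cfsg.pCore_normal p ↥L
  have h1 : Cfsg.pCoreOf p L ≤ L := pCoreOf_le p L
  rw [← Subgroup.normal_subgroupOf_iff_le_normalizer h1]
  have : (Cfsg.pCoreOf p L).subgroupOf L = Cfsg.pCore p ↥L :=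
    Subgroup.comap_map_eq_self_of_injective L.subtype_injective _
  rw [this]
  exact hn

theorem pCoreOf_le_centralizer_of_pRedOf (L Y : Subgroup H) (hr : PRedOf p L Y) :
    Cfsg.pCoreOf p L ≤ Subgroup.centralizer (Y : Set H) := by
  apply hr _ (pCoreOf_le p L) (pCoreOf_normalizer L)
  intro d hd
  obtain ⟨k, hk⟩ := isPGroup_pCoreOf p L ⟨d, hd⟩
  refine ⟨k, ?_⟩
  have := congrArg Subtype.val hk
  simp only [Subgroup.coe_pow, Subgroup.coe_one] at this
  rw [this]
  exact Subgroup.one_mem _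

/-- a normal `p`-subgroup of `L` lies in `O_p(L)`. -/
theorem le_pCoreOf (L N : Subgroup H) (hNL : N ≤ L) (hn : L ≤ Subgroup.normalizer (N : Set H))
    (hN : IsPGroup p N) : N ≤ Cfsg.pCoreOf p L := by
  have h1 : (N.subgroupOf L).Normal := (Subgroup.normal_subgroupOf_iff_le_normalizer hNL).mpr hn
  have h2 : IsPGroup p (N.subgroupOf L) := hN.comap_of_injective L.subtype L.subtype_injective
  have h3 := le_pCore _ h1 h2
  unfold Cfsg.pCoreOf
  rw [← Subgroup.map_subgroupOf_eq_of_le hNL]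
  exact Subgroup.map_mono h3

theorem isPGroup_of_isElementaryAbelian [Fact p.Prime] (Y : Subgroup H)
    (he : Cfsg.IsElementaryAbelian p Y) : IsPGroup p Y := by
  intro y
  refine ⟨1, ?_⟩
  apply Subtype.ext
  simpa using he.2 y.1 y.2

theorem le_omegaOne_center_pCoreOf [Fact p.Prime] (L Y : Subgroup H) (hYL : Y ≤ L)
    (hn : L ≤ Subgroup.normalizer (Y : Set H)) (he : Cfsg.IsElementaryAbelian p Y)
    (hr : PRedOf p L Y) :
    Y ≤ Cfsg.omegaOne p (Cfsg.pCoreOf p L ⊓
      Subgroup.centralizer ((Cfsg.pCoreOf p L : Subgroup H) : Set H)) := by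
  have h1 : Y ≤ Cfsg.pCoreOf p L := le_pCoreOf L Y hYL hn (isPGroup_of_isElementaryAbelian Y he)
  have h2 := pCoreOf_le_centralizer_of_pRedOf L Y hr
  intro y hy
  unfold Cfsg.omegaOne
  apply Subgroup.subset_closure
  refine ⟨Subgroup.mem_inf.mpr ⟨h1 hy, ?_⟩, he.2 y hy⟩
  rw [Subgroup.mem_centralizer_iff]
  intro q hq
  have := h2 hq
  rw [Subgroup.mem_centralizer_iff] at this
  exact (this y hy).symm

section Finite
variable [Finite H] [Fact p.Prime]

theorem largestPReducedOf_spec (L : Subgroup H)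
    (hL : Subgroup.centralizer (Cfsg.pCore p ↥L : Set ↥L) ≤ Cfsg.pCore p ↥L) :
    L ≤ Subgroup.normalizer ((Cfsg.largestPReducedOf p L : Subgroup H) : Set H) ∧
      Cfsg.IsElementaryAbelian p (Cfsg.largestPReducedOf p L) ∧
      PRedOf p L (Cfsg.largestPReducedOf p L) := by
  have := exists_largest_pReduced hL
  exact (isPReducedNormal_iff_map L _).mp this

end Finite


theorem pRedOf_subgroupOf (L R X : Subgroup H) (hRL : R ≤ L) (hXL : X ≤ L)
    (h : PRedOf p R X) : PRedOf p (R.subgroupOf L) (X.subgroupOf L) := by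
  intro D hDR hDn hDp
  have hcent : ∀ d : L, d ∈ Subgroup.centralizer ((X.subgroupOf L : Subgroup L) : Set L) ↔
      (d : H) ∈ Subgroup.centralizer (X : Set H) := by
    intro d
    rw [centralizer_subgroupOf_eq L X hXL, Subgroup.mem_subgroupOf]
  have hDR' : D.map L.subtype ≤ R := by
    rintro _ ⟨d, hd, rfl⟩
    exact Subgroup.mem_subgroupOf.mp (hDR hd)
  have hDn' : R ≤ Subgroup.normalizer ((D.map L.subtype : Subgroup H) : Set H) := by
    intro r hr
    have hr' : (⟨r, hRL hr⟩ : L) ∈ R.subgroupOf L := by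
      rw [Subgroup.mem_subgroupOf]; exact hr
    have h1 := hDn hr'
    rw [Subgroup.mem_normalizer_iff] at h1 ⊢
    intro x
    constructor
    · rintro ⟨d, hd, rfl⟩
      exact ⟨_, (h1 d).mp hd, by simp⟩
    · rintro ⟨d, hd, hdx⟩
      have hdx' : (d : H) = r * x * r⁻¹ := hdx
      have hxL : x ∈ L := by
        have : x = r⁻¹ * (d : H) * r := by rw [hdx']; group
        rw [this]
        exact L.mul_mem (L.mul_mem (L.inv_mem (hRL hr)) d.2) (hRL hr)
      refine ⟨⟨x, hxL⟩, ?_, rfl⟩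
      rw [SetLike.mem_coe, h1 ⟨x, hxL⟩]
      have : (⟨r, hRL hr⟩ : L) * ⟨x, hxL⟩ * (⟨r, hRL hr⟩ : L)⁻¹ = d := by
        apply Subtype.ext
        simpa using hdx.symm
      rw [this]
      exact hd
  have := h (D.map L.subtype) hDR' hDn' (by
    rintro _ ⟨d, hd, rfl⟩
    obtain ⟨k, hk⟩ := hDp d hd
    refine ⟨k, ?_⟩
    rw [hcent] at hk
    simpa using hk)
  intro d hd
  rw [hcent]
  exact this ⟨d, hd, rfl⟩

section Finite2
variable [Finite H] [Fact p.Prime]

/-- H-level version of: for `S ≤ R ≤ L`, `S` Sylow in `L` of characteristic `p`, a `p`-reduced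
normal subgroup of `R` lies in `Y_L`. -/
theorem le_largestPReducedOf_of_sylow (L : Subgroup H)
    (hL : Subgroup.centralizer (Cfsg.pCore p ↥L : Set ↥L) ≤ Cfsg.pCore p ↥L)
    (S : Sylow p L) (R X : Subgroup H) (hSR : (S : Subgroup L).map L.subtype ≤ R) (hRL : R ≤ L)
    (hXR : X ≤ R) (hn : R ≤ Subgroup.normalizer (X : Set H))
    (he : Cfsg.IsElementaryAbelian p X) (hr : PRedOf p R X) :
    X ≤ Cfsg.largestPReducedOf p L := by
  have hXL : X ≤ L := hXR.trans hRL
  set R' : Subgroup L := R.subgroupOf L with hR'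
  set X₀ : Subgroup L := X.subgroupOf L with hX₀
  have hX₀R' : X₀ ≤ R' := by
    intro x hx
    rw [hR', Subgroup.mem_subgroupOf]
    rw [hX₀, Subgroup.mem_subgroupOf] at hx
    exact hXR hx
  have hSR' : (S : Subgroup L) ≤ R' := by
    intro s hs
    rw [hR', Subgroup.mem_subgroupOf]
    exact hSR ⟨s, hs, rfl⟩
  have hn' : R' ≤ Subgroup.normalizer (X₀ : Set L) := by
    rw [hX₀, ← Subgroup.subgroupOf_normalizer_eq hXL, hR']
    intro r hr
    rw [Subgroup.mem_subgroupOf] at hr ⊢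
    exact hn hr
  have he' : Cfsg.IsElementaryAbelian p X₀ := (isElementaryAbelian_subgroupOf_iff L X hXL).mpr he
  have hr' : PRedOf p R' X₀ := pRedOf_subgroupOf L R X hRL hXL hr
  have h1 : Cfsg.IsPReducedNormal p (X₀.subgroupOf R') :=
    (isPReducedNormal_subgroupOf_iff R' X₀ hX₀R').mpr ⟨hn', he', hr'⟩
  have h2 := pReduced_normalClosure_of_sylow_le hL S R' hSR' (X₀.subgroupOf R') h1
  rw [Subgroup.map_subgroupOf_eq_of_le hX₀R'] at h2
  have h3 : Subgroup.normalClosure (X₀ : Set L) ≤ Cfsg.largestPReduced p ↥L := le_sSup h2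
  have h4 : X₀ ≤ Cfsg.largestPReduced p ↥L := Subgroup.le_normalClosure.trans h3
  unfold Cfsg.largestPReducedOf
  rw [← Subgroup.map_subgroupOf_eq_of_le hXL]
  exact Subgroup.map_mono h4

end Finite2


theorem omegaOne_le (Z : Subgroup H) : Cfsg.omegaOne p Z ≤ Z := by
  unfold Cfsg.omegaOne
  rw [Subgroup.closure_le]
  intro x hx
  exact hx.1

theorem omegaOne_pow_eq_one (Z : Subgroup H) (hZ : ∀ a ∈ Z, ∀ b ∈ Z, a * b = b * a) :
    ∀ x ∈ Cfsg.omegaOne p Z, x ^ p = 1 := by
  have hcl : ∀ x ∈ Cfsg.omegaOne p Z, x ∈ Z ∧ x ^ p = 1 := by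
    intro x hx
    unfold Cfsg.omegaOne at hx
    induction hx using Subgroup.closure_induction with
    | mem g hg => exact hg
    | one => exact ⟨Z.one_mem, one_pow _⟩
    | mul a b _ _ iha ihb =>
      refine ⟨Z.mul_mem iha.1 ihb.1, ?_⟩
      have hab : Commute a b := hZ a iha.1 b ihb.1
      rw [hab.mul_pow, iha.2, ihb.2, one_mul]
    | inv a _ iha => exact ⟨Z.inv_mem iha.1, by rw [inv_pow, iha.2, inv_one]⟩
  intro x hx
  exact (hcl x hx).2

theorem center_comm (S : Subgroup H) :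
    ∀ a ∈ S ⊓ Subgroup.centralizer (S : Set H), ∀ b ∈ S ⊓ Subgroup.centralizer (S : Set H),
      a * b = b * a := by
  intro a ha b hb
  have h1 := (Subgroup.mem_inf.mp ha).2
  rw [Subgroup.mem_centralizer_iff] at h1
  exact (h1 b (Subgroup.mem_inf.mp hb).1).symm

theorem isElementaryAbelian_omegaOne_center (S : Subgroup H) :
    Cfsg.IsElementaryAbelian p (Cfsg.omegaOne p (S ⊓ Subgroup.centralizer (S : Set H))) := by
  refine ⟨⟨⟨fun a b => ?_⟩⟩, omegaOne_pow_eq_one _ (center_comm S)⟩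
  apply Subtype.ext
  exact center_comm S a.1 (omegaOne_le _ a.2) b.1 (omegaOne_le _ b.2)

section Finite3
variable [Finite H] [Fact p.Prime]

theorem omegaOne_center_le_largestPReducedOf (L : Subgroup H)
    (hL : Subgroup.centralizer (Cfsg.pCore p ↥L : Set ↥L) ≤ Cfsg.pCore p ↥L)
    (S : Sylow p L) :
    Cfsg.omegaOne p (((S : Subgroup L).map L.subtype) ⊓
      Subgroup.centralizer (((S : Subgroup L).map L.subtype : Subgroup H) : Set H)) ≤
      Cfsg.largestPReducedOf p L := by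
  set S' := (S : Subgroup L).map L.subtype with hS'
  set X := Cfsg.omegaOne p (S' ⊓ Subgroup.centralizer (S' : Set H)) with hX
  have hXZ : X ≤ S' ⊓ Subgroup.centralizer (S' : Set H) := omegaOne_le _
  have hS'L : S' ≤ L := by
    rintro _ ⟨d, _, rfl⟩
    exact d.2
  have hSC : S' ≤ Subgroup.centralizer (X : Set H) := by
    intro s hs
    rw [Subgroup.mem_centralizer_iff]
    intro x hx
    have := (Subgroup.mem_inf.mp (hXZ hx)).2
    rw [Subgroup.mem_centralizer_iff] at this
    exact (this s hs).symm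
  apply le_largestPReducedOf_of_sylow L hL S S' X le_rfl hS'L (hXZ.trans inf_le_left)
    (hSC.trans (Subgroup.centralizer_le_normalizer _)) (isElementaryAbelian_omegaOne_center S')
  intro D hD _ _
  exact hD.trans hSC

theorem sylowCenterClosure_le_largestPReducedOf (L : Subgroup H)
    (hL : Subgroup.centralizer (Cfsg.pCore p ↥L : Set ↥L) ≤ Cfsg.pCore p ↥L) :
    Cfsg.sylowCenterClosure p L ≤ Cfsg.largestPReducedOf p L := by
  unfold Cfsg.sylowCenterClosure
  apply iSup_le
  intro S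
  exact omegaOne_center_le_largestPReducedOf L hL S

end Finite3

end Cfsg.Agent.Lib.Helper5
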