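import Mathlib
import Cfsg.Agent.Lib.Helper5.CharP
import Cfsg.Agent.Lib.Helper5.YL
import Cfsg.Agent.Lib.Helper5.Basic
import Cfsg.Agent.Lib.Helper5.CopGen3
import Cfsg.Agent.S0028

set_option autoImplicit false

namespace Cfsg.Agent.Lib.Helper5

variable {G : Type*} [Group G] {p : ℕ}

/-- subgroup-level "characteristic p": every p'-element of `L` centralizing `O_p(L)` is trivial. -/
def CPin (p : ℕ) (L : Subgroup G) : Prop :=
  ∀ x ∈ L, (orderOf x).Coprime p → (∀ q ∈ Cfsg.pCoreOf p L, x * q = q * x) → x = 1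

theorem cpin_of_charp [Fact p.Prime] (L : Subgroup G)
    (h : Subgroup.centralizer (Cfsg.pCore p ↥L : Set ↥L) ≤ Cfsg.pCore p ↥L) : CPin p L := by
  intro x hx hxc hq
  have h1 : (⟨x, hx⟩ : ↥L) ∈ Subgroup.centralizer (Cfsg.pCore p ↥L : Set ↥L) := by
    rw [Subgroup.mem_centralizer_iff]
    intro q hq'
    apply Subtype.ext
    simp only [Subgroup.coe_mul]
    exact (hq q ⟨q, hq', rfl⟩).symm
  have h2 := h h1
  obtain ⟨k, hk⟩ := isPGroup_mem_pow _ (isPGroup_pCore p ↥L) _ h2
  apply pelement_coprime_eq_one x hxc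
  exact ⟨k, by simpa using congrArg Subtype.val hk⟩

theorem charp_of_cpin [Fact p.Prime] [Finite G] (L : Subgroup G) (h : CPin p L) :
    Subgroup.centralizer (Cfsg.pCore p ↥L : Set ↥L) ≤ Cfsg.pCore p ↥L := by
  apply charp_of_coprime_trivial
  intro x hx hxc
  have h1 : (x : G) = 1 := by
    apply h x x.2 (by rwa [Subgroup.orderOf_coe])
    rintro q ⟨q', hq', rfl⟩
    rw [Subgroup.mem_centralizer_iff] at hx
    have := hx q' hq'
    exact (congrArg Subtype.val this).symm
  exact Subtype.ext h1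

/-- a subgroup normalized by a group of characteristic p has characteristic p -/
theorem cpin_of_normalizedBy [Fact p.Prime] (M N : Subgroup G) (hM : CPin p M) (hNM : N ≤ M)
    (hn : M ≤ Subgroup.normalizer (N : Set G)) : CPin p N := by
  intro x hx hxc hq
  apply hM x (hNM hx) hxc
  apply coprime_centralizes_step x hxc (Cfsg.pCoreOf p M) (Cfsg.pCoreOf p N)
    (isPGroup_pCoreOf p N) hq
  intro r hr
  have hPN : Cfsg.pCoreOf p M ⊓ N ≤ Cfsg.pCoreOf p N := by
    apply le_pCoreOf N _ inf_le_right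
    · intro n hn'
      apply mem_normalizer_inf
      · exact pCoreOf_normalizer M (hNM hn')
      · exact Subgroup.le_normalizer hn'
    · exact (isPGroup_pCoreOf p M).to_le inf_le_left
  apply hPN
  constructor
  · apply Subgroup.mul_mem _ (Subgroup.inv_mem _ hr)
    exact (Subgroup.mem_normalizer_iff.mp (pCoreOf_normalizer M (hNM hx)) r).mp hr
  · have hrM : r ∈ M := pCoreOf_le p M hr
    have h1 : r⁻¹ * x * r⁻¹⁻¹ ∈ N :=
      (Subgroup.mem_normalizer_iff.mp (hn (M.inv_mem hrM)) x).mp hx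
    have h2 : r⁻¹ * (x * r * x⁻¹) = (r⁻¹ * x * r⁻¹⁻¹) * x⁻¹ := by group
    rw [h2]
    exact N.mul_mem h1 (N.inv_mem hx)

/-- the normalizer of a p-subgroup in a group of characteristic p has characteristic p -/
theorem cpin_normalizer [Fact p.Prime] [Finite G] (M R : Subgroup G) (hM : CPin p M) (hRM : R ≤ M)
    (hR : IsPGroup p R) : CPin p (M ⊓ Subgroup.normalizer (R : Set G)) := by
  intro x hx hxc hq
  apply hM x hx.1 hxc
  have hRL : R ≤ Cfsg.pCoreOf p (M ⊓ Subgroup.normalizer (R : Set G)) :=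
    le_pCoreOf _ R (le_inf hRM Subgroup.le_normalizer) inf_le_right hR
  have hPL : Cfsg.pCoreOf p M ⊓ Subgroup.normalizer (R : Set G) ≤
      Cfsg.pCoreOf p (M ⊓ Subgroup.normalizer (R : Set G)) := by
    apply le_pCoreOf _ _ (inf_le_inf_right _ (pCoreOf_le p M))
    · intro n hn
      apply mem_normalizer_inf
      · exact pCoreOf_normalizer M hn.1
      · exact Subgroup.le_normalizer hn.2
    · exact (isPGroup_pCoreOf p M).to_le inf_le_left
  have key := Cfsg.Agent.S0028.result p R (Subgroup.zpowers x) (Cfsg.pCoreOf p M) hR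
    (by rw [Nat.card_zpowers]; exact hxc) (isPGroup_pCoreOf p M) ?_ ?_ ?_ ?_
  · intro q hq'
    have := key (Subgroup.mem_zpowers x)
    rw [Subgroup.mem_centralizer_iff] at this
    exact (this q hq').symm
  · intro r hr
    rw [Subgroup.mem_centralizer_iff]
    rintro _ ⟨n, rfl⟩
    have h1 : x * r = r * x := hq r (hRL hr)
    exact (Commute.zpow_left (show Commute x r from h1) n).eq
  · exact fun r hr => pCoreOf_normalizer M (hRM hr)
  · rw [Subgroup.zpowers_le]; exact pCoreOf_normalizer M hx.1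
  · intro u hu
    rw [Subgroup.mem_centralizer_iff]
    rintro _ ⟨n, rfl⟩
    have h0 : u ∈ Cfsg.pCoreOf p (M ⊓ Subgroup.normalizer (R : Set G)) :=
      hPL ⟨hu.1, Subgroup.centralizer_le_normalizer (R : Set G) hu.2⟩
    have h1 : x * u = u * x := hq u h0
    exact (Commute.zpow_left (show Commute x u from h1) n).eq

/-- if `U ≤ O_p(L)` and `C_L(U)` has characteristic p then so does `L` -/
theorem cpin_of_centralizer [Fact p.Prime] (L U : Subgroup G) (hU : U ≤ Cfsg.pCoreOf p L)
    (hC : CPin p (L ⊓ Subgroup.centralizer (U : Set G))) : CPin p L := by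
  intro x hx hxc hq
  have hxM : x ∈ L ⊓ Subgroup.centralizer (U : Set G) :=
    ⟨hx, Subgroup.mem_centralizer_iff.mpr (fun u hu => (hq u (hU hu)).symm)⟩
  apply hC x hxM hxc
  apply coprime_centralizes_step x hxc (Cfsg.pCoreOf p (L ⊓ Subgroup.centralizer (U : Set G)))
    (Cfsg.pCoreOf p L) (isPGroup_pCoreOf p L) hq
  intro r hr
  have hDM : L ⊓ Subgroup.centralizer ((Cfsg.pCoreOf p L : Subgroup G) : Set G) ≤
      L ⊓ Subgroup.centralizer (U : Set G) := inf_le_inf_left _ (Subgroup.centralizer_le hU)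
  have hLD : L ≤ Subgroup.normalizer
      ((L ⊓ Subgroup.centralizer ((Cfsg.pCoreOf p L : Subgroup G) : Set G) : Subgroup G) : Set G) := by
    intro l hl
    apply mem_normalizer_inf
    · exact Subgroup.le_normalizer hl
    · exact normalizer_le_normalizer_centralizer _ (pCoreOf_normalizer L hl)
  have h1 : Cfsg.pCoreOf p (L ⊓ Subgroup.centralizer ((Cfsg.pCoreOf p L : Subgroup G) : Set G)) ≤
      Cfsg.pCoreOf p L :=
    pCoreOf_le_pCoreOf_of_normal _ L inf_le_left
      ((Subgroup.normal_subgroupOf_iff_le_normalizer inf_le_left).mpr hLD)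
  have h2 : Cfsg.pCoreOf p (L ⊓ Subgroup.centralizer (U : Set G)) ⊓
      (L ⊓ Subgroup.centralizer ((Cfsg.pCoreOf p L : Subgroup G) : Set G)) ≤
      Cfsg.pCoreOf p (L ⊓ Subgroup.centralizer ((Cfsg.pCoreOf p L : Subgroup G) : Set G)) := by
    apply le_pCoreOf _ _ inf_le_right
    · intro n hn
      apply mem_normalizer_inf
      · exact pCoreOf_normalizer _ (hDM hn)
      · exact Subgroup.le_normalizer hn
    · exact (isPGroup_pCoreOf p _).to_le inf_le_left
  apply h1
  apply h2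
  have hxD : x ∈ L ⊓ Subgroup.centralizer ((Cfsg.pCoreOf p L : Subgroup G) : Set G) :=
    ⟨hx, Subgroup.mem_centralizer_iff.mpr (fun q hq' => (hq q hq').symm)⟩
  constructor
  · apply Subgroup.mul_mem _ (Subgroup.inv_mem _ hr)
    exact (Subgroup.mem_normalizer_iff.mp (pCoreOf_normalizer _ hxM) r).mp hr
  · have hrL : r ∈ L := (pCoreOf_le p _ hr).1
    have h3 : r⁻¹ * x * r⁻¹⁻¹ ∈ L ⊓ Subgroup.centralizer ((Cfsg.pCoreOf p L : Subgroup G) : Set G) :=
      (Subgroup.mem_normalizer_iff.mp (hLD (L.inv_mem hrL)) x).mp hxD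
    have h4 : r⁻¹ * (x * r * x⁻¹) = (r⁻¹ * x * r⁻¹⁻¹) * x⁻¹ := by group
    rw [h4]
    exact Subgroup.mul_mem _ h3 (Subgroup.inv_mem _ hxD)

end Cfsg.Agent.Lib.Helper5
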