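import Mathlib
import Cfsg.Agent.Lib.Helper5.CPin
import Cfsg.Agent.Lib.Helper5.MaxP
import Cfsg.Agent.Lib.Helper3.CharP

set_option autoImplicit false

namespace Cfsg.Agent.Lib.Helper5

variable {G : Type*} [Group G] {p : ℕ}

theorem cpin_map_conj [Fact p.Prime] [Finite G] (L : Subgroup G) (g : G) (h : CPin p L) :
    CPin p (L.map (MulAut.conj g).toMonoidHom) := by
  apply cpin_of_charp
  exact charp_of_equiv ((MulAut.conj g).subgroupMap L) (charp_of_cpin L h)

theorem cpin_normalizer_of_conj [Fact p.Prime] [Finite G] (R : Subgroup G) (g : G)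
    (h : CPin p (Subgroup.normalizer ((R.map (MulAut.conj g).toMonoidHom : Subgroup G) : Set G))) :
    CPin p (Subgroup.normalizer (R : Set G)) := by
  have h1 := cpin_map_conj _ g⁻¹ h
  rwa [normalizer_map_conj, map_conj_inv_conj] at h1

theorem cpin_iff_genFitting [Fact p.Prime] [Finite G] (L : Subgroup G) :
    CPin p L ↔ Cfsg.generalizedFittingSubgroup ↥L = Cfsg.pCore p ↥L := by
  constructor
  · intro h
    exact Cfsg.Agent.Lib.Helper3.genFitting_eq_pCore_of_centralizer_le p (charp_of_cpin L h)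
  · intro h
    exact cpin_of_charp L (Cfsg.Agent.Lib.Helper3.centralizer_pCore_le_of_genFitting_eq p h)

theorem centralizer_singleton_eq_zpowers (z : G) :
    Subgroup.centralizer ({z} : Set G) = Subgroup.centralizer (Subgroup.zpowers z : Set G) := by
  ext x
  rw [Subgroup.mem_centralizer_iff, Subgroup.mem_centralizer_iff]
  constructor
  · intro h
    rintro _ ⟨n, rfl⟩
    have h1 : Commute z x := h z rfl
    exact (Commute.zpow_left h1 n).eq
  · intro h y hy
    rw [Set.mem_singleton_iff] at hy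
    rw [hy]
    exact h z (Subgroup.mem_zpowers z)

/-- an element of order `p` of `Q` centralized by the `p`-group `R ≥ Q` normalizing `Q`. -/
theorem exists_central_orderOf_eq [Fact p.Prime] (Q R : Subgroup G) [Finite R]
    (hR : IsPGroup p R) (hQR : Q ≤ R) (hRN : R ≤ Subgroup.normalizer (Q : Set G)) (hQ : Q ≠ ⊥) :
    ∃ u ∈ Q, orderOf u = p ∧ ∀ r ∈ R, r * u = u * r := by
  obtain ⟨z, hzQ, hz1, hzc⟩ := exists_central_of_normalizedBy Q R hR hQR hRN hQ
  obtain ⟨m, hm⟩ := (IsPGroup.iff_orderOf.mp hR) ⟨z, hQR hzQ⟩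
  rw [Subgroup.orderOf_mk] at hm
  have hm0 : m ≠ 0 := by
    rintro rfl
    rw [pow_zero, orderOf_eq_one_iff] at hm
    exact hz1 hm
  have hpdvd : p ∣ orderOf z := by rw [hm]; exact dvd_pow_self p hm0
  have huo : orderOf (z ^ (orderOf z / p)) = p :=
    orderOf_pow_orderOf_div (by rw [hm]; exact (pow_pos (Fact.out : p.Prime).pos m).ne') hpdvd
  refine ⟨z ^ (orderOf z / p), Subgroup.pow_mem _ hzQ _, huo, ?_⟩
  intro r hr
  exact (Commute.pow_right (show Commute r z from hzc r hr) _).eq

/-- if `u ∈ O_p(N(R))` commutes with `R` and `C(u)` has characteristic `p`, so has `N(R)`. -/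
theorem cpin_normalizer_of_central_elt [Fact p.Prime] [Finite G] (R : Subgroup G)
    (hR : IsPGroup p R) (u : G)
    (hu : u ∈ Cfsg.pCoreOf p (Subgroup.normalizer (R : Set G)))
    (hcomm : ∀ r ∈ R, r * u = u * r)
    (hC : CPin p (Subgroup.centralizer ({u} : Set G))) :
    CPin p (Subgroup.normalizer (R : Set G)) := by
  rw [centralizer_singleton_eq_zpowers] at hC
  have hRC : R ≤ Subgroup.centralizer (Subgroup.zpowers u : Set G) := by
    rw [← centralizer_singleton_eq_zpowers]
    intro r hr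
    rw [Subgroup.mem_centralizer_iff]
    intro y hy
    rw [Set.mem_singleton_iff] at hy
    rw [hy]
    exact (hcomm r hr).symm
  have h1 := cpin_normalizer _ R hC hRC hR
  rw [inf_comm] at h1
  apply cpin_of_centralizer _ (Subgroup.zpowers u) _ h1
  rw [Subgroup.zpowers_le]
  exact hu

/-- `z ∈ Z(X)`, `X` a `p`-group, `C(z)` of characteristic `p` ⇒ `N(X)` of characteristic `p`. -/
theorem cpin_normalizer_of_center [Fact p.Prime] [Finite G] (X : Subgroup G)
    (hX : IsPGroup p X) (z : G) (hz : z ∈ X) (hcomm : ∀ x ∈ X, x * z = z * x)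
    (hC : CPin p (Subgroup.centralizer ({z} : Set G))) :
    CPin p (Subgroup.normalizer (X : Set G)) :=
  cpin_normalizer_of_central_elt X hX z
    (le_pCoreOf _ X Subgroup.le_normalizer le_rfl hX hz) hcomm hC

end Cfsg.Agent.Lib.Helper5
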