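import Cfsg.Agent.Lib.Helper5.YL2
import Cfsg.Agent.S0026
import Cfsg.Agent.S0027

set_option autoImplicit false
open scoped commutatorElement

namespace Cfsg.Agent.Lib.Helper5

variable {G : Type*} [Group G]

/-- in a nilpotent group `R`, a subgroup `Q ≤ R` with `Q ≤ [Q,R]` is trivial -/
theorem eq_bot_of_le_commutator_nilpotent (Q R : Subgroup G) [hR : Group.IsNilpotent ↥R]
    (hQR : Q ≤ R) (h : Q ≤ ⁅Q, R⁆) : Q = ⊥ := by
  obtain ⟨n, hn⟩ := (Subgroup.isNilpotent_iff_lowerCentralSeries R).mp hR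
  have key : ∀ k, Q ≤ R.lowerCentralSeries k := by
    intro k
    induction k with
    | zero => exact hQR
    | succ k ih =>
      rw [Subgroup.lowerCentralSeries_succ]
      exact h.trans (Subgroup.commutator_mono ih le_rfl)
  rw [eq_bot_iff, ← hn]
  exact key n

theorem map_conj_eq_of_le_centralizer (B : Subgroup G) (a : G)
    (ha : a ∈ Subgroup.centralizer (B : Set G)) : B.map (MulAut.conj a).toMonoidHom = B := by
  ext x
  rw [mem_map_conj_iff]
  rw [Subgroup.mem_centralizer_iff] at ha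
  constructor
  · intro h
    have h1 := ha _ h
    have : x = a * (a⁻¹ * x * a) * a⁻¹ := by group
    rw [this, ← h1]
    simpa using h
  · intro h
    have h1 := ha x h
    have : a⁻¹ * x * a = a⁻¹ * (x * a) := by group
    rw [this, h1]
    simpa using h

/-- `P` a `p`-group acted on by `A × B`, `A` a `p`-group, `B` a `p'`-group:
`[P,B] ≤ [P,A]` forces `[P,B] = 1`. -/
theorem commutator_eq_bot_of_le_commutator [Finite G] {p : ℕ} [Fact p.Prime] (P A B : Subgroup G)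
    (hP : IsPGroup p ↥P) (hA : IsPGroup p ↥A) (hB : ¬ p ∣ Nat.card ↥B)
    (hnA : A ≤ Subgroup.normalizer (P : Set G)) (hnB : B ≤ Subgroup.normalizer (P : Set G))
    (hAB : ⁅A, B⁆ = ⊥) (hcomm : ⁅P, B⁆ ≤ ⁅P, A⁆) : ⁅P, B⁆ = ⊥ := by
  have hp : p.Prime := Fact.out
  have hAcB : A ≤ Subgroup.centralizer (B : Set G) :=
    Subgroup.commutator_eq_bot_iff_le_centralizer.mp hAB
  have hBcA : B ≤ Subgroup.centralizer (A : Set G) := by
    rw [Subgroup.commutator_comm] at hAB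
    exact Subgroup.commutator_eq_bot_iff_le_centralizer.mp hAB
  set Q : Subgroup G := ⁅P, B⁆ with hQ
  have hQP : Q ≤ P := Subgroup.le_normalizer_iff_commutator_le_left.mp hnB
  have hPQ : P ≤ Subgroup.normalizer (Q : Set G) := Subgroup.normalizer_commutator_ge_left P B
  have hBQ : B ≤ Subgroup.normalizer (Q : Set G) := Subgroup.normalizer_commutator_ge_right P B
  have hAQ : A ≤ Subgroup.normalizer (Q : Set G) := by
    intro a ha
    rw [mem_normalizer_iff_map_conj, hQ, Subgroup.map_commutator,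
      (mem_normalizer_iff_map_conj P a).mp (hnA ha), map_conj_eq_of_le_centralizer B a (hAcB ha)]
  set R : Subgroup G := P ⊔ A with hR
  have hRp : IsPGroup p ↥R := hP.to_sup_of_normal_left' hA hnA
  haveI : Group.IsNilpotent ↥R := hRp.isNilpotent
  have hRQ : R ≤ Subgroup.normalizer (Q : Set G) := sup_le hPQ hAQ
  set Q₂ : Subgroup G := ⁅Q, R⁆ with hQ₂
  have hQ₂Q : Q₂ ≤ Q := Subgroup.le_normalizer_iff_commutator_le_left.mp hRQ
  have hRQ₂ : R ≤ Subgroup.normalizer (Q₂ : Set G) := Subgroup.normalizer_commutator_ge_right Q R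
  have hPQ₂ : P ≤ Subgroup.normalizer (Q₂ : Set G) := le_sup_left.trans hRQ₂
  have hBQ₂ : B ≤ Subgroup.normalizer (Q₂ : Set G) := by
    intro b hb
    have hbR : R.map (MulAut.conj b).toMonoidHom = R := by
      rw [hR, Subgroup.map_sup, (mem_normalizer_iff_map_conj P b).mp (hnB hb),
        map_conj_eq_of_le_centralizer A b (hBcA hb)]
    rw [mem_normalizer_iff_map_conj, hQ₂, Subgroup.map_commutator,
      (mem_normalizer_iff_map_conj Q b).mp (hBQ hb), hbR]
  set C : Subgroup G := P ⊓ Subgroup.centralizer (B : Set G) with hC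
  have hcop : (Nat.card B).Coprime (Nat.card P) := by
    obtain ⟨k, hk⟩ := IsPGroup.iff_card.mp hP
    rw [hk]
    exact ((Nat.Prime.coprime_iff_not_dvd hp).mpr hB).symm.pow_right k
  haveI : Group.IsNilpotent ↥P := hP.isNilpotent
  have hsolvP : Group.IsSolvable ↥P := inferInstance
  have hPeq : Q ⊔ C = P := Cfsg.Agent.S0026.result B P hnB hcop (Or.inr hsolvP)
  have hCP : C ≤ P := inf_le_left
  -- A normalizes C
  have hAC : ∀ a ∈ A, ∀ c ∈ C, a * c * a⁻¹ ∈ C := by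
    intro a ha c hc
    refine ⟨(Subgroup.mem_normalizer_iff.mp (hnA ha) c).mp hc.1, ?_⟩
    exact conj_mem_centralizer_of_mem_normalizer B a c
      (Subgroup.centralizer_le_normalizer _ (hAcB ha)) hc.2
  have hCQ₂ : C ≤ Subgroup.normalizer (Q₂ : Set G) := hCP.trans hPQ₂
  -- [P,A] ≤ C ⊔ Q₂
  have h7 : ⁅P, A⁆ ≤ C ⊔ Q₂ := by
    rw [Subgroup.commutator_le]
    intro x hx a ha
    rw [← hPeq, sup_comm] at hx
    obtain ⟨c, hc, q, hq, rfl⟩ := (mem_sup_of_le_normalizer C Q (hCP.trans hPQ) x).mp hx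
    rw [commutatorElement_mul_left_eq_conj_mul]
    have h1 : ⁅q, a⁆ ∈ Q₂ := Subgroup.commutator_mem_commutator hq (Subgroup.mem_sup_right ha)
    have h2 : c * ⁅q, a⁆ * c⁻¹ ∈ Q₂ := (Subgroup.mem_normalizer_iff.mp (hCQ₂ hc) _).mp h1
    have h3 : ⁅c, a⁆ ∈ C := by
      rw [commutatorElement_def]
      have : c * a * c⁻¹ * a⁻¹ = c * (a * c⁻¹ * a⁻¹) := by group
      rw [this]
      exact C.mul_mem hc (hAC a ha _ (C.inv_mem hc))
    -- Q₂ * C ⊆ C ⊔ Q₂
    exact Subgroup.mul_mem _ (Subgroup.mem_sup_right h2) (Subgroup.mem_sup_left h3)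
  -- [Q,B] ≤ Q₂
  have h9 : ⁅Q, B⁆ ≤ Q₂ := by
    rw [Subgroup.commutator_le]
    intro x hx b hb
    have hx' : x ∈ C ⊔ Q₂ := h7 (hcomm hx)
    obtain ⟨c, hc, q₂, hq₂, rfl⟩ := (mem_sup_of_le_normalizer C Q₂ hCQ₂ x).mp hx'
    rw [commutatorElement_mul_left_eq_conj_mul]
    have h1 : ⁅q₂, b⁆ ∈ Q₂ := by
      rw [commutatorElement_def]
      have : q₂ * b * q₂⁻¹ * b⁻¹ = q₂ * (b * q₂⁻¹ * b⁻¹) := by group
      rw [this]
      exact Q₂.mul_mem hq₂ ((Subgroup.mem_normalizer_iff.mp (hBQ₂ hb) _).mp (Q₂.inv_mem hq₂))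
    have h2 : c * ⁅q₂, b⁆ * c⁻¹ ∈ Q₂ := (Subgroup.mem_normalizer_iff.mp (hCQ₂ hc) _).mp h1
    have h3 : ⁅c, b⁆ = 1 := by
      rw [commutatorElement_eq_one_iff_mul_comm]
      exact ((Subgroup.mem_centralizer_iff.mp hc.2) b hb).symm
    rw [h3, mul_one]
    exact h2
  have h10 : ⁅Q, B⁆ = Q := Cfsg.Agent.S0027.result B P hnB hcop (Or.inr hsolvP)
  rw [h10] at h9
  exact eq_bot_of_le_commutator_nilpotent Q R (hQP.trans le_sup_left) h9

end Cfsg.Agent.Lib.Helper5
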