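import Cfsg.Agent.Lib.Helper5.YL
import Cfsg.Agent.Lib.Helper5.CopGen3
import Cfsg.Agent.Lib.Helper5.PB
import Cfsg.Agent.S0027
import Cfsg.Agent.S0028
import Cfsg.Prelude.Def_CaseTheorems

set_option autoImplicit false
open scoped commutatorElement

namespace Cfsg.Agent.Lib.Helper5

variable {G : Type*} [Group G]

/-- a subgroup all of whose `p'`-elements are trivial is a `p`-group -/
theorem isPGroup_of_forall_coprime_eq_one [Finite G] {p : ℕ} [Fact p.Prime] (Y : Subgroup G)
    (h : ∀ y ∈ Y, (orderOf y).Coprime p → y = 1) : IsPGroup p ↥Y := by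
  have hp : p.Prime := Fact.out
  intro y
  have hpos : 0 < orderOf (y : G) := orderOf_pos (y : G)
  obtain ⟨k, m, hm, hkm⟩ := Nat.exists_eq_pow_mul_and_not_dvd hpos.ne' p hp.ne_one
  refine ⟨k, ?_⟩
  apply Subtype.ext
  rw [Subgroup.coe_pow, Subgroup.coe_one]
  apply h _ (Subgroup.pow_mem _ y.2 _)
  have ho : orderOf ((y : G) ^ p ^ k) = m := by
    rw [orderOf_pow' _ (pow_ne_zero _ hp.ne_zero), hkm, Nat.gcd_eq_right (Dvd.intro _ rfl)]
    exact Nat.mul_div_cancel_left _ (pow_pos hp.pos _)
  rw [ho]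
  exact ((Nat.Prime.coprime_iff_not_dvd hp).mpr hm).symm

/-- an element of a `p`-group of order prime to `p` is trivial -/
theorem eq_one_of_mem_pgroup_of_coprime {p : ℕ} [Fact p.Prime] (R : Subgroup G) (hR : IsPGroup p ↥R)
    (y : G) (hy : y ∈ R) (hcop : (orderOf y).Coprime p) : y = 1 := by
  obtain ⟨k, hk⟩ := hR ⟨y, hy⟩
  have hk' : y ^ p ^ k = 1 := by
    have := congrArg Subtype.val hk
    simpa using this
  have h1 : orderOf y ∣ p ^ k := orderOf_dvd_of_pow_eq_one hk'
  have h2 : (orderOf y).Coprime (p ^ k) := hcop.pow_right k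
  have h3 : orderOf y = 1 := Nat.eq_one_of_dvd_coprimes h2 (dvd_refl _) h1
  exact orderOf_eq_one_iff.mp h3

/-- **overgroups of a centric normal subgroup of a Sylow subgroup** in a group of characteristic
`p` have characteristic `p`. -/
theorem charP_of_le_of_centric [Finite G] {p : ℕ} [Fact p.Prime]
    (hG : Subgroup.centralizer (Cfsg.pCore p G : Set G) ≤ Cfsg.pCore p G) (T : Sylow p G)
    (Q : Subgroup G) (hQT : Q ≤ (T : Subgroup G))
    (hQn : (T : Subgroup G) ≤ Subgroup.normalizer (Q : Set G))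
    (hC : (T : Subgroup G) ⊓ Subgroup.centralizer (Q : Set G) ≤ Q) (L : Subgroup G) (hQL : Q ≤ L) :
    L ⊓ Subgroup.centralizer ((Cfsg.pCoreOf p L : Subgroup G) : Set G) ≤ Cfsg.pCoreOf p L := by
  have hp : p.Prime := Fact.out
  set R : Subgroup G := Cfsg.pCore p G with hR
  haveI hRn : R.Normal := Cfsg.pCore_normal p G
  have hRp : IsPGroup p ↥R := isPGroup_pCore p G
  have hRT : R ≤ (T : Subgroup G) := pCore_le_sylow T
  have hQp : IsPGroup p ↥Q := T.isPGroup'.to_le hQT
  set D : Subgroup G := Cfsg.pCoreOf p L with hD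
  have hDL : D ≤ L := pCoreOf_le p L
  have hDp : IsPGroup p ↥D := isPGroup_pCoreOf p L
  have hLD : L ≤ Subgroup.normalizer (D : Set G) := pCoreOf_normalizer L
  set D₀ : Subgroup G := R ⊓ L with hD₀
  have hLD₀ : L ≤ Subgroup.normalizer (D₀ : Set G) := by
    intro l hl
    apply mem_normalizer_inf
    · rw [Subgroup.normalizer_eq_top R]; exact Subgroup.mem_top l
    · exact Subgroup.le_normalizer hl
  have hD₀D : D₀ ≤ D := le_pCoreOf L D₀ inf_le_right hLD₀ (hRp.to_le inf_le_left)
  set Y : Subgroup G := L ⊓ Subgroup.centralizer (D : Set G) with hY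
  have hLY : L ≤ Subgroup.normalizer (Y : Set G) := by
    intro l hl
    apply mem_normalizer_inf
    · exact Subgroup.le_normalizer hl
    · exact normalizer_le_normalizer_centralizer D (hLD hl)
  -- the subgroup N'
  let N' : Subgroup G :=
    { carrier := {n | n ∈ L ∧ ∀ r ∈ R, ⁅r, n⁆ ∈ D₀}
      one_mem' := ⟨L.one_mem, fun r _ => by rw [commutatorElement_one_right]; exact D₀.one_mem⟩
      mul_mem' := by
        rintro a b ⟨haL, ha⟩ ⟨hbL, hb⟩
        refine ⟨L.mul_mem haL hbL, fun r hr => ?_⟩
        rw [commutatorElement_mul_right_eq_mul_conj, mul_assoc, mul_assoc]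
        refine D₀.mul_mem (ha r hr) ?_
        rw [← mul_assoc]
        exact (Subgroup.mem_normalizer_iff.mp (hLD₀ haL) _).mp (hb r hr)
      inv_mem' := by
        rintro a ⟨haL, ha⟩
        refine ⟨L.inv_mem haL, fun r hr => ?_⟩
        rw [commutatorElement_inv_right]
        have h1 : ⁅a, r⁆ ∈ D₀ := by
          rw [← commutatorElement_inv]; exact D₀.inv_mem (ha r hr)
        have := (Subgroup.mem_normalizer_iff.mp (hLD₀ (L.inv_mem haL)) _).mp h1
        simpa using this }
  have hN'L : N' ≤ L := fun n hn => hn.1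
  have hQN' : Q ≤ N' := by
    intro q hq
    refine ⟨hQL hq, fun r hr => ?_⟩
    rw [commutatorElement_def]
    refine ⟨?_, ?_⟩
    · have : r * q * r⁻¹ * q⁻¹ = r * (q * r⁻¹ * q⁻¹) := by group
      rw [this]
      exact R.mul_mem hr (hRn.conj_mem _ (R.inv_mem hr) q)
    · have h1 : r * q * r⁻¹ ∈ Q := (Subgroup.mem_normalizer_iff.mp (hQn (hRT hr)) q).mp hq
      exact hQL (Q.mul_mem h1 (Q.inv_mem hq))
  have hLN' : L ≤ Subgroup.normalizer (N' : Set G) := by
    have key : ∀ l ∈ L, ∀ n ∈ N', l * n * l⁻¹ ∈ N' := by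
      intro l hl n hn
      refine ⟨L.mul_mem (L.mul_mem hl hn.1) (L.inv_mem hl), fun r hr => ?_⟩
      have h1 : ⁅l⁻¹ * r * l, n⁆ ∈ D₀ := by
        apply hn.2
        have := hRn.conj_mem r hr l⁻¹
        simpa using this
      have h2 := (Subgroup.mem_normalizer_iff.mp (hLD₀ hl) _).mp h1
      have e : l * ⁅l⁻¹ * r * l, n⁆ * l⁻¹ = ⁅r, l * n * l⁻¹⁆ := by
        rw [conjugate_commutatorElement]
        congr 1
        group
      rw [e] at h2
      exact h2
    intro l hl
    rw [Subgroup.mem_normalizer_iff]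
    intro n
    constructor
    · exact key l hl n
    · intro h
      have := key l⁻¹ (L.inv_mem hl) _ h
      have e : l⁻¹ * (l * n * l⁻¹) * l⁻¹⁻¹ = n := by group
      rwa [e] at this
  -- Y_N = [N', Y] is a p-group inside D
  set YN : Subgroup G := ⁅N', Y⁆ with hYN
  have hYNN' : YN ≤ N' :=
    Subgroup.le_normalizer_iff_commutator_le_left.mp ((inf_le_left : Y ≤ L).trans hLN')
  have hYNY : YN ≤ Y :=
    Subgroup.le_normalizer_iff_commutator_le_right.mp (hN'L.trans hLY)
  have hLYN : L ≤ Subgroup.normalizer (YN : Set G) := by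
    intro l hl
    rw [mem_normalizer_iff_map_conj, hYN, Subgroup.map_commutator,
      (mem_normalizer_iff_map_conj N' l).mp (hLN' hl), (mem_normalizer_iff_map_conj Y l).mp (hLY hl)]
  have hRcard : ∀ w : G, (orderOf w).Coprime p →
      (Nat.card (Subgroup.zpowers w)).Coprime (Nat.card R) := by
    intro w hw
    obtain ⟨k, hk⟩ := IsPGroup.iff_card.mp hRp
    rw [Nat.card_zpowers, hk]
    exact hw.pow_right k
  have hYNp : IsPGroup p ↥YN := by
    apply isPGroup_of_forall_coprime_eq_one
    intro w hw hcop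
    set W := Subgroup.zpowers w with hW
    have hWN' : W ≤ N' := Subgroup.zpowers_le.mpr (hYNN' hw)
    have hWY : W ≤ Y := Subgroup.zpowers_le.mpr (hYNY hw)
    have h1 : ⁅R, W⁆ ≤ D₀ := by
      rw [Subgroup.commutator_le]
      intro r hr x hx
      exact (hWN' hx).2 r hr
    have h2 : ⁅D₀, W⁆ = ⊥ := by
      rw [Subgroup.commutator_eq_bot_iff_le_centralizer]
      rw [Subgroup.le_centralizer_iff]
      exact (hWY.trans inf_le_right).trans (Subgroup.centralizer_le hD₀D)
    have hWR : W ≤ Subgroup.normalizer (R : Set G) := by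
      rw [Subgroup.normalizer_eq_top R]; exact le_top
    have hsolv : Group.IsSolvable ↥W := inferInstance
    have h3 := Cfsg.Agent.S0027.result W R hWR (hRcard w hcop) (Or.inl hsolv)
    have h4 : ⁅R, W⁆ = ⊥ := by
      rw [← h3, eq_bot_iff, ← h2]
      exact Subgroup.commutator_mono h1 le_rfl
    have h5 : W ≤ Subgroup.centralizer (R : Set G) := by
      rw [Subgroup.le_centralizer_iff]
      exact Subgroup.commutator_eq_bot_iff_le_centralizer.mp h4
    have h6 : w ∈ R := hG (h5 (Subgroup.mem_zpowers w))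
    exact eq_one_of_mem_pgroup_of_coprime R hRp w h6 hcop
  have hYND : YN ≤ D := le_pCoreOf L YN (hYNN'.trans hN'L) hLYN hYNp
  -- Y is a p-group
  have hYp : IsPGroup p ↥Y := by
    apply isPGroup_of_forall_coprime_eq_one
    intro y hy hcop
    have hyD : y ∈ Subgroup.centralizer (D : Set G) := hy.2
    -- y commutes with N'
    have hyN' : ∀ n ∈ N', n * y = y * n := by
      intro n hn
      set z := ⁅n, y⁆ with hz
      have hzD : z ∈ D := hYND (Subgroup.commutator_mem_commutator hn hy)
      have hzy : Commute z y := ((Subgroup.mem_centralizer_iff.mp hyD) z hzD)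
      have h1 : n * y * n⁻¹ = z * y := by rw [hz, commutatorElement_def]; group
      have h2 : (z * y) ^ orderOf y = 1 := by
        rw [← h1, conj_pow, pow_orderOf_eq_one]; group
      rw [hzy.mul_pow, pow_orderOf_eq_one, mul_one] at h2
      have h3 : orderOf z ∣ orderOf y := orderOf_dvd_of_pow_eq_one h2
      have h4 : (orderOf z).Coprime p := Nat.Coprime.coprime_dvd_left h3 hcop
      have h5 : z = 1 := eq_one_of_mem_pgroup_of_coprime D hDp z hzD h4
      rw [h5, one_mul] at h1
      have : n * y = (n * y * n⁻¹) * n := by group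
      rw [this, h1]
    set W := Subgroup.zpowers y with hW
    have hQW : Q ≤ Subgroup.centralizer (W : Set G) := by
      intro q hq
      rw [hW, Subgroup.zpowers_eq_closure, Subgroup.centralizer_closure, Subgroup.mem_centralizer_iff]
      intro x hx
      rw [Set.mem_singleton_iff] at hx
      rw [hx]
      exact (hyN' q (hQN' hq)).symm
    have hWcop : (Nat.card ↥W).Coprime p := by
      rw [Nat.card_zpowers]; exact hcop
    have hRtop : Subgroup.normalizer (R : Set G) = ⊤ := Subgroup.normalizer_eq_top R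
    have hCW : R ⊓ Subgroup.centralizer (Q : Set G) ≤ Subgroup.centralizer (W : Set G) := by
      have h1 : R ⊓ Subgroup.centralizer (Q : Set G) ≤ D :=
        (le_inf inf_le_left ((inf_le_inf_right _ hRT).trans (hC.trans hQL))).trans hD₀D
      refine h1.trans ?_
      rw [Subgroup.le_centralizer_iff, hW, Subgroup.zpowers_le]
      exact hyD
    have h7 := Cfsg.Agent.S0028.result p Q W R hQp hWcop hRp hQW (by rw [hRtop]; exact le_top)
      (by rw [hRtop]; exact le_top) hCW
    have h8 : y ∈ R := hG (h7 (Subgroup.mem_zpowers y))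
    exact eq_one_of_mem_pgroup_of_coprime R hRp y h8 hcop
  exact le_pCoreOf L Y inf_le_left hLY hYp

end Cfsg.Agent.Lib.Helper5
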