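import Mathlib

set_option autoImplicit false

namespace Cfsg.Agent.Lib.Helper5

/-- The sign character of `ZMod 2`. -/
def chi2 (a : ZMod 2) : ℤ := if a = 0 then 1 else -1

theorem chi2_add (a b : ZMod 2) : chi2 (a + b) = chi2 a * chi2 b := by
  revert a b; decide

theorem chi2_add_one (a : ZMod 2) : chi2 (a + 1) = - chi2 a := by
  revert a; decide

theorem chi2_zero : chi2 0 = 1 := rfl

theorem chi2_one : chi2 1 = -1 := rfl

section
variable {V : Type*} [AddCommGroup V] [Fintype V]

/-- The character sum of a `ZMod 2`-valued function. -/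
def charSum (q : V → ZMod 2) : ℤ := ∑ v, chi2 (q v)

theorem charSum_comp_equiv (q : V → ZMod 2) (g : V ≃ V) :
    charSum (fun v => q (g v)) = charSum q :=
  Equiv.sum_comp g (fun v => chi2 (q v))

theorem charSum_sq (f : V → V → ZMod 2)
    (hadd : ∀ u u' v, f (u + u') v = f u v + f u' v)
    (hadd' : ∀ u v v', f u (v + v') = f u v + f u v')
    (hself : ∀ u, f u u = 0) (hnd : ∀ v, v ≠ 0 → ∃ u, f u v = 1)
    (q : V → ZMod 2) (hq : ∀ u v, q (u + v) = q u + q v + f u v) :
    charSum q ^ 2 = Fintype.card V := by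
  classical
  have hq0 : q 0 = 0 := by
    have := hq 0 0
    rw [add_zero, hself, add_zero, CharTwo.add_self_eq_zero] at this
    exact this
  have hf0 : ∀ u, f u 0 = 0 := by
    intro u
    have := hadd' u 0 0
    rw [add_zero, CharTwo.add_self_eq_zero] at this
    exact this
  have hT : ∀ v, v ≠ 0 → ∑ u, chi2 (f u v) = 0 := by
    intro v hv
    obtain ⟨u₀, hu₀⟩ := hnd v hv
    have h1 : ∑ u, chi2 (f u v) = ∑ u, chi2 (f (u + u₀) v) :=
      (Equiv.sum_comp (Equiv.addRight u₀) (fun u => chi2 (f u v))).symm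
    have h2 : ∑ u, chi2 (f (u + u₀) v) = - ∑ u, chi2 (f u v) := by
      rw [← Finset.sum_neg_distrib]
      apply Finset.sum_congr rfl
      intro u _
      rw [hadd, hu₀, chi2_add_one]
    rw [h2] at h1
    omega
  have hstep : ∀ u, ∑ v, chi2 (q u) * chi2 (q v) = ∑ v, chi2 (q v) * chi2 (f u v) := by
    intro u
    rw [← Equiv.sum_comp (Equiv.addLeft u) (fun v => chi2 (q u) * chi2 (q v))]
    apply Finset.sum_congr rfl
    intro v _
    rw [Equiv.coe_addLeft, ← chi2_add, ← chi2_add]
    congr 1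
    rw [hq]
    linear_combination CharTwo.add_self_eq_zero (q u)
  unfold charSum
  rw [sq, Finset.sum_mul_sum]
  simp only [hstep]
  rw [Finset.sum_comm]
  simp only [← Finset.mul_sum]
  rw [Finset.sum_eq_single 0]
  · rw [hq0, chi2_zero, one_mul]
    simp only [hf0, chi2_zero, Finset.sum_const, Finset.card_univ, nsmul_eq_mul, mul_one]
  · intro v _ hv
    rw [hT v hv, mul_zero]
  · intro h; exact absurd (Finset.mem_univ _) h

theorem charSum_ne_zero (f : V → V → ZMod 2)
    (hadd : ∀ u u' v, f (u + u') v = f u v + f u' v)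
    (hadd' : ∀ u v v', f u (v + v') = f u v + f u v')
    (hself : ∀ u, f u u = 0) (hnd : ∀ v, v ≠ 0 → ∃ u, f u v = 1)
    (q : V → ZMod 2) (hq : ∀ u v, q (u + v) = q u + q v + f u v) :
    charSum q ≠ 0 := by
  intro h
  have := charSum_sq f hadd hadd' hself hnd q hq
  rw [h] at this
  have hpos : 0 < Fintype.card V := Fintype.card_pos_iff.mpr ⟨0⟩
  have : (Fintype.card V : ℤ) = 0 := by rw [← this]; norm_num
  omega

theorem charSum_shift (f : V → V → ZMod 2) (q : V → ZMod 2)
    (hq : ∀ u v, q (u + v) = q u + q v + f u v) (w : V) (hw : q w = 1) :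
    charSum (fun v => q v + f v w) = - charSum q := by
  unfold charSum
  rw [← Equiv.sum_comp (Equiv.addRight w) (fun v => chi2 (q v)), ← Finset.sum_neg_distrib]
  apply Finset.sum_congr rfl
  intro v _
  rw [Equiv.coe_addRight, ← chi2_add_one]
  congr 1
  rw [hq, hw]
  linear_combination (-1 : ZMod 2) * CharTwo.add_self_eq_zero (1 : ZMod 2)

end

end Cfsg.Agent.Lib.Helper5
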