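import Mathlib

namespace Cfsg.Agent.Lib.Helper5

open Polynomial

universe u v

theorem exists_functional_quot {F : Type*} {R : Type*} [Field F] [CommRing R] [IsDomain R]
    [IsPrincipalIdealRing R] [Algebra F R] (p : R) (hp : Irreducible p) (e : ℕ)
    (I : Ideal R) (hI : I = Ideal.span {p ^ e}) :
    ∃ l : (R ⧸ I) →ₗ[F] F, ∀ a : R ⧸ I, a ≠ 0 → ∃ b, l (a * b) ≠ 0 := by
  subst hI
  rcases Nat.eq_zero_or_pos e with rfl | he
  · refine ⟨0, fun a ha => absurd ?_ ha⟩
    obtain ⟨r, rfl⟩ := Ideal.Quotient.mk_surjective a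
    rw [Ideal.Quotient.eq_zero_iff_mem, pow_zero]
    exact Ideal.mem_span_singleton.mpr (one_dvd r)
  · obtain ⟨e', rfl⟩ : ∃ e', e = e' + 1 := ⟨e - 1, by omega⟩
    have hs : (Ideal.Quotient.mk (Ideal.span {p ^ (e' + 1)}) (p ^ e')) ≠ 0 := by
      rw [Ne, Ideal.Quotient.eq_zero_iff_mem, Ideal.mem_span_singleton]
      rintro ⟨c, hc⟩
      have hpe : p ^ e' ≠ 0 := pow_ne_zero _ hp.ne_zero
      have h1 : p * c = 1 := by
        apply mul_left_cancel₀ hpe
        rw [mul_one]
        calc p ^ e' * (p * c) = p ^ (e' + 1) * c := by rw [pow_succ]; ring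
          _ = p ^ e' := hc.symm
      exact hp.not_isUnit (IsUnit.of_mul_eq_one c h1)
    obtain ⟨l, hl⟩ : ∃ l : Module.Dual F (R ⧸ Ideal.span {p ^ (e' + 1)}),
        l (Ideal.Quotient.mk (Ideal.span {p ^ (e' + 1)}) (p ^ e')) ≠ 0 := by
      by_contra hcon
      apply hs
      rw [← Module.forall_dual_apply_eq_zero_iff F]
      intro φ
      by_contra hφ
      exact hcon ⟨φ, hφ⟩
    refine ⟨l, ?_⟩
    intro a ha
    obtain ⟨r, rfl⟩ := Ideal.Quotient.mk_surjective a
    have hr0 : r ≠ 0 := by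
      rintro rfl
      exact ha (map_zero _)
    obtain ⟨j, w, hw, hr⟩ := WfDvdMonoid.max_power_factor hr0 hp
    have hj : j ≤ e' := by
      by_contra hlt
      apply ha
      rw [Ideal.Quotient.eq_zero_iff_mem, Ideal.mem_span_singleton, hr]
      exact Dvd.dvd.mul_right (pow_dvd_pow p (by omega)) w
    obtain ⟨x, y, hxy⟩ := hp.coprime_pow_of_not_dvd (e' + 1) hw
    refine ⟨Ideal.Quotient.mk _ (x * p ^ (e' - j)), ?_⟩
    have hpow : p ^ e' = p ^ j * p ^ (e' - j) := by
      rw [← pow_add]; congr 1; omega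
    have : Ideal.Quotient.mk (Ideal.span {p ^ (e' + 1)}) r *
        Ideal.Quotient.mk (Ideal.span {p ^ (e' + 1)}) (x * p ^ (e' - j)) =
        Ideal.Quotient.mk (Ideal.span {p ^ (e' + 1)}) (p ^ e') := by
      rw [← map_mul, Ideal.Quotient.eq, Ideal.mem_span_singleton]
      refine ⟨-(y * p ^ e'), ?_⟩
      rw [hr]
      linear_combination (-(w * x)) * hpow + p ^ e' * hxy
    rw [this]
    exact hl

theorem exists_selfadjoint_form {F : Type u} [Field F] {N : Type v} [AddCommGroup N] [Module F N]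
    [Module F[X] N] [IsScalarTower F F[X] N] [Module.Finite F[X] N]
    (hN : Module.IsTorsion F[X] N) :
    ∃ β : N →ₗ[F] N →ₗ[F] F, (∀ x y, β ((X : F[X]) • x) y = β x ((X : F[X]) • y)) ∧
      (∀ x, (∀ y, β x y = 0) → x = 0) := by
  classical
  obtain ⟨ι, _, p, hp, e, ⟨Φ⟩⟩ := Module.equiv_directSum_of_isTorsion hN
  have hl : ∀ i, ∃ l : (F[X] ⧸ (Submodule.span F[X] {p i ^ e i})) →ₗ[F] F,
      ∀ a : F[X] ⧸ (Submodule.span F[X] {p i ^ e i}), a ≠ 0 → ∃ b, l (a * b) ≠ 0 :=
    fun i => exists_functional_quot (p i) (hp i) (e i) _ rfl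
  choose l hl using hl
  have hsmul : ∀ (c : F) (x : N) (i : ι), (Φ (c • x)) i = c • (Φ x) i := by
    intro c x i
    rw [← algebraMap_smul F[X] c x, map_smul, DirectSum.smul_apply, algebraMap_smul]
  have hX : ∀ (x : N) (i : ι), (Φ ((X : F[X]) • x)) i = (X : F[X]) • (Φ x) i := by
    intro x i
    rw [map_smul, DirectSum.smul_apply]
  let β : N →ₗ[F] N →ₗ[F] F := LinearMap.mk₂ F (fun x y => ∑ i, l i ((Φ x) i * (Φ y) i))
    (by intro x x' y; simp only [map_add, DirectSum.add_apply, add_mul, Finset.sum_add_distrib])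
    (by intro c x y; simp only [hsmul, smul_mul_assoc, map_smul, Finset.smul_sum])
    (by intro x y y'; simp only [map_add, DirectSum.add_apply, mul_add, Finset.sum_add_distrib])
    (by intro c x y; simp only [hsmul, mul_smul_comm, map_smul, Finset.smul_sum])
  refine ⟨β, ?_, ?_⟩
  · intro x y
    show ∑ i, l i ((Φ ((X : F[X]) • x)) i * (Φ y) i) = ∑ i, l i ((Φ x) i * (Φ ((X : F[X]) • y)) i)
    simp only [hX, smul_mul_assoc, mul_smul_comm]
  · intro x hx
    apply Φ.injective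
    rw [map_zero]
    refine DFinsupp.ext fun i => ?_
    by_contra hne
    obtain ⟨b, hb⟩ := hl i _ hne
    apply hb
    have := hx (Φ.symm (DirectSum.of _ i b))
    change ∑ j, l j ((Φ x) j * (Φ (Φ.symm (DirectSum.of _ i b))) j) = 0 at this
    rw [LinearEquiv.apply_symm_apply, Finset.sum_eq_single i] at this
    · rwa [DirectSum.of_eq_same] at this
    · intro j _ hji
      rw [DirectSum.of_eq_of_ne _ _ _ hji, mul_zero, map_zero]
    · intro h; exact absurd (Finset.mem_univ i) h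

theorem isConj_transpose {F : Type*} [Field F] {ι : Type*} [Fintype ι] [DecidableEq ι] (A : Matrix ι ι F) :
    IsConj A A.transpose := by
  obtain ⟨φ, hφ⟩ : ∃ φ : (ι → F) →ₗ[F] (ι → F), φ = Matrix.toLin' A := ⟨_, rfl⟩
  have hN : Module.IsTorsion F[X] (Module.AEval' φ) :=
    Module.AEval.isTorsion_of_finiteDimensional F (ι → F) φ
  obtain ⟨β, hβ1, hβ2⟩ := exists_selfadjoint_form hN
  let B : (ι → F) →ₗ[F] (ι → F) →ₗ[F] F :=
    β.compl₁₂ (Module.AEval'.of φ).toLinearMap (Module.AEval'.of φ).toLinearMap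
  have hB1 : B.comp φ = B.compl₂ φ := by
    apply LinearMap.ext₂
    intro x y
    simp only [LinearMap.comp_apply, LinearMap.compl₂_apply, B, LinearMap.compl₁₂_apply,
      LinearEquiv.coe_coe]
    rw [← Module.AEval'.X_smul_of, ← Module.AEval'.X_smul_of, hβ1]
  have hM := congrArg (LinearMap.toMatrix₂' F) hB1
  rw [LinearMap.toMatrix₂'_comp, LinearMap.toMatrix₂'_compl₂, hφ, LinearMap.toMatrix'_toLin'] at hM
  have hdet : (LinearMap.toMatrix₂' F B).det ≠ 0 := by
    intro h0
    obtain ⟨v, hv0, hv⟩ := Matrix.exists_vecMul_eq_zero_iff.mpr h0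
    apply hv0
    have hx : Module.AEval'.of φ v = 0 := by
      apply hβ2
      intro y
      obtain ⟨w, rfl⟩ := (Module.AEval'.of φ).surjective y
      have : B v w = 0 := by
        rw [← Matrix.toLinearMap₂'_toMatrix' (R := F) B]
        rw [Matrix.toLinearMap₂'_apply', Matrix.dotProduct_mulVec, hv, zero_dotProduct]
      exact this
    exact (Module.AEval'.of φ).injective (by rw [map_zero]; exact hx)
  refine ⟨Matrix.nonsingInvUnit _ (isUnit_iff_ne_zero.mpr hdet), ?_⟩
  show _ * A = A.transpose * _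
  exact hM.symm

end Cfsg.Agent.Lib.Helper5
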