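import Cfsg.Agent.Lib.Helper4.CoprimeAct
import Cfsg.Agent.S0023
import Cfsg.Agent.Lib.Helper5.MaxP
import Cfsg.Agent.Lib.Helper5.SPE
import Cfsg.Agent.Lib.Helper5.Basic

set_option autoImplicit false
open scoped commutatorElement

namespace Cfsg.Agent.Lib.Helper5

variable {H : Type*} [Group H]

theorem coprime_of_pgroup_of_not_dvd {p : ℕ} [Fact p.Prime] (B M : Subgroup H) [Finite B] (hBp : IsPGroup p B)
    (hM : ¬ p ∣ Nat.card M) : (Nat.card B).Coprime (Nat.card M) := by
  obtain ⟨k, hk⟩ := IsPGroup.iff_card.mp hBp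
  rw [hk]
  exact Nat.Coprime.pow_left _ ((Nat.Prime.coprime_iff_not_dvd Fact.out).mpr hM)

/-- **Lifting fixed points**: if `y ∈ Q` is fixed by the `p`-group `B` modulo the `B`-invariant subgroup
`M ≤ Q` (`Q` a `p'`-group) and `C_Q(B) ≤ M`, then `y ∈ M`. -/
theorem mem_of_commutator_mem [Finite H] {p : ℕ} [Fact p.Prime] (Q M B : Subgroup H) (hMQ : M ≤ Q)
    (hBp : IsPGroup p B) (hBQ : B ≤ Subgroup.normalizer (Q : Set H))
    (hBM : B ≤ Subgroup.normalizer (M : Set H)) (hQ : ¬ p ∣ Nat.card Q)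
    (hC : Q ⊓ Subgroup.centralizer (B : Set H) ≤ M) (y : H) (hy : y ∈ Q)
    (hyB : ∀ b ∈ B, ⁅b, y⁆ ∈ M) : y ∈ M := by
  have hM : ¬ p ∣ Nat.card M := fun h => hQ (h.trans (Subgroup.card_dvd_of_le hMQ))
  have hcopM := coprime_of_pgroup_of_not_dvd B M hBp hM
  have hcopQ := coprime_of_pgroup_of_not_dvd B Q hBp hQ
  haveI : Group.IsNilpotent ↥B := hBp.isNilpotent
  have hsolv : Group.IsSolvable ↥B := inferInstance
  have hB' : Cfsg.Agent.Lib.Helper4.cj y B ≤ M ⊔ B := by
    rintro _ ⟨b, hb, rfl⟩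
    have e : (MulAut.conj y).toMonoidHom b = ⁅b, y⁆⁻¹ * b := by
      simp [commutatorElement_def, mul_assoc]
    rw [e]
    exact Subgroup.mul_mem _ (Subgroup.mem_sup_left (Subgroup.inv_mem _ (hyB b hb)))
      (Subgroup.mem_sup_right hb)
  obtain ⟨k, hk, hkB⟩ := Cfsg.Agent.Lib.Helper4.sz_act_conj B M hBM hcopM (Or.inl hsolv) _ hB'
    (Cfsg.Agent.Lib.Helper4.card_cj' y B)
  set z := k⁻¹ * y with hz
  have hzB : Cfsg.Agent.Lib.Helper4.cj z B = B := by
    rw [hz, Cfsg.Agent.Lib.Helper4.cj_mul, ← hkB, Cfsg.Agent.Lib.Helper4.cj_inv_cj']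
  have hzQ : z ∈ Q := Subgroup.mul_mem _ (Subgroup.inv_mem _ (hMQ hk)) hy
  have hzC := Cfsg.Agent.Lib.Helper4.act_centralizes B Q hBQ hcopQ hzQ hzB
  have hzM : z ∈ M := hC ⟨hzQ, hzC⟩
  have : y = k * z := by rw [hz]; group
  rw [this]
  exact Subgroup.mul_mem _ hk hzM

open Classical in
/-- partition identity for an elementary abelian group of order `p²` -/
theorem prod_order_p_subgroups [Fintype H] {p : ℕ} [Fact p.Prime] (E : Subgroup H)
    (hexp : ∀ e ∈ E, e ^ p = 1) (hcard : Nat.card E = p ^ 2)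
    {A : Type*} [CommGroup A] (g : H → A) :
    ∏ C ∈ (Finset.univ.filter (fun e : H => e ∈ E ∧ e ≠ 1)).image (fun e => Subgroup.zpowers e),
        (∏ c ∈ Finset.univ.filter (fun c : H => c ∈ C), g c) =
      g 1 ^ p * ∏ e ∈ Finset.univ.filter (fun e : H => e ∈ E), g e := by
  have hp : p.Prime := Fact.out
  set S := Finset.univ.filter (fun e : H => e ∈ E ∧ e ≠ 1) with hS
  set φ : H → Subgroup H := fun e => Subgroup.zpowers e with hφ
  set 𝒞 := S.image φ with h𝒞
  have hord : ∀ e ∈ S, orderOf e = p := by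
    intro e he
    have he' := (Finset.mem_filter.mp he).2
    exact orderOf_eq_prime (hexp e he'.1) he'.2
  -- description of members
  have hmem : ∀ C ∈ 𝒞, Finset.univ.filter (fun c : H => c ∈ C) = insert 1 (S.filter (fun c => φ c = C)) := by
    intro C hC
    obtain ⟨e₀, he₀, rfl⟩ := Finset.mem_image.mp hC
    have he₀' := (Finset.mem_filter.mp he₀).2
    ext c
    simp only [Finset.mem_filter, Finset.mem_univ, true_and, Finset.mem_insert]
    constructor
    · intro hc
      by_cases hc1 : c = 1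
      · exact Or.inl hc1
      · right
        have hcE : c ∈ E := (Subgroup.zpowers_le.mpr he₀'.1) hc
        refine ⟨Finset.mem_filter.mpr ⟨Finset.mem_univ _, hcE, hc1⟩, ?_⟩
        have hle : Subgroup.zpowers c ≤ Subgroup.zpowers e₀ := Subgroup.zpowers_le.mpr hc
        apply Subgroup.eq_of_le_of_card_ge hle
        rw [Nat.card_zpowers, Nat.card_zpowers, hord e₀ he₀,
          orderOf_eq_prime (hexp c hcE) hc1]
    · rintro (rfl | ⟨_, hc⟩)
      · exact Subgroup.one_mem _
      · rw [← hc]; exact Subgroup.mem_zpowers c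
  have hnot1 : ∀ C : Subgroup H, (1 : H) ∉ S.filter (fun c => φ c = C) := by
    intro C h
    exact ((Finset.mem_filter.mp (Finset.mem_filter.mp h).1).2).2 rfl
  -- card of fibres
  have hfib : ∀ C ∈ 𝒞, (S.filter (fun c => φ c = C)).card = p - 1 := by
    intro C hC
    obtain ⟨e₀, he₀, rfl⟩ := Finset.mem_image.mp hC
    have h1 := hmem _ hC
    have h2 : (Finset.univ.filter (fun c : H => c ∈ Subgroup.zpowers e₀)).card = p := by
      have : (Finset.univ.filter (fun c : H => c ∈ Subgroup.zpowers e₀)).card =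
          Nat.card (Subgroup.zpowers e₀) := by
        rw [Nat.card_eq_fintype_card, Fintype.card_subtype]
      rw [this, Nat.card_zpowers, hord e₀ he₀]
    rw [h1, Finset.card_insert_of_notMem (hnot1 _)] at h2
    omega
  have hScard : S.card = p ^ 2 - 1 := by
    have h1 : (Finset.univ.filter (fun e : H => e ∈ E)).card = p ^ 2 := by
      rw [← hcard, Nat.card_eq_fintype_card, Fintype.card_subtype]
    have h2 : Finset.univ.filter (fun e : H => e ∈ E) = insert 1 S := by
      ext c
      simp only [hS, Finset.mem_filter, Finset.mem_univ, true_and, Finset.mem_insert]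
      constructor
      · intro hc
        by_cases hc1 : c = 1
        · exact Or.inl hc1
        · exact Or.inr ⟨hc, hc1⟩
      · rintro (rfl | ⟨hc, _⟩)
        · exact Subgroup.one_mem _
        · exact hc
    have h3 : (1 : H) ∉ S := fun h => ((Finset.mem_filter.mp h).2).2 rfl
    rw [h2, Finset.card_insert_of_notMem h3] at h1
    omega
  have h𝒞card : 𝒞.card = p + 1 := by
    have h1 := Finset.card_eq_sum_card_fiberwise (f := φ) (s := S) (t := 𝒞)
      (fun x hx => Finset.mem_image_of_mem φ hx)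
    rw [Finset.sum_congr rfl hfib, Finset.sum_const, smul_eq_mul, hScard] at h1
    have hp2 : 2 ≤ p := hp.two_le
    have h2 : p ^ 2 - 1 = (p + 1) * (p - 1) := by
      have : p ^ 2 = (p + 1) * (p - 1) + 1 := by
        obtain ⟨k, rfl⟩ : ∃ k, p = k + 1 := ⟨p - 1, by omega⟩
        simp only [Nat.add_sub_cancel]; ring
      omega
    rw [h2] at h1
    exact (Nat.eq_of_mul_eq_mul_right (by omega) h1).symm
  -- the computation
  have e1 : ∏ C ∈ 𝒞, (∏ c ∈ Finset.univ.filter (fun c : H => c ∈ C), g c) =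
      ∏ C ∈ 𝒞, (g 1 * ∏ c ∈ S.filter (fun c => φ c = C), g c) := by
    apply Finset.prod_congr rfl
    intro C hC
    rw [hmem C hC, Finset.prod_insert (hnot1 C)]
  rw [e1, Finset.prod_mul_distrib, Finset.prod_const, h𝒞card,
    Finset.prod_fiberwise_of_maps_to (fun x hx => Finset.mem_image_of_mem φ hx)]
  have h2 : Finset.univ.filter (fun e : H => e ∈ E) = insert 1 S := by
    ext c
    simp only [hS, Finset.mem_filter, Finset.mem_univ, true_and, Finset.mem_insert]
    constructor
    · intro hc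
      by_cases hc1 : c = 1
      · exact Or.inl hc1
      · exact Or.inr ⟨hc, hc1⟩
    · rintro (rfl | ⟨hc, _⟩)
      · exact Subgroup.one_mem _
      · exact hc
  have h3 : (1 : H) ∉ S := fun h => ((Finset.mem_filter.mp h).2).2 rfl
  rw [h2, Finset.prod_insert h3, pow_succ]
  rw [mul_assoc]


/-- conjugation by a normalizing element, as an endomorphism of the subgroup -/
def conjHomN (Q : Subgroup H) (e : H) (he : e ∈ Subgroup.normalizer (Q : Set H)) : ↥Q →* ↥Q where
  toFun x := ⟨e * x * e⁻¹, (Subgroup.mem_normalizer_iff.mp he x).mp x.2⟩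
  map_one' := by ext; simp
  map_mul' a b := by ext; simp [mul_assoc]

theorem conjHomN_coe (Q : Subgroup H) (e : H) (he : e ∈ Subgroup.normalizer (Q : Set H)) (x : ↥Q) :
    ((conjHomN Q e he x : ↥Q) : H) = e * x * e⁻¹ := rfl

theorem mem_of_of_mem_map (Q M : Subgroup H) (hcomm : ⁅Q, Q⁆ ≤ M) (y : ↥Q)
    (h : Abelianization.of y ∈ (M.subgroupOf Q).map Abelianization.of) : (y : H) ∈ M := by
  obtain ⟨m, hm, hmy⟩ := h
  have h1 : m⁻¹ * y ∈ (Abelianization.of : ↥Q →* Abelianization ↥Q).ker := by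
    rw [MonoidHom.mem_ker, map_mul, map_inv, hmy, inv_mul_cancel]
  rw [Abelianization.ker_of] at h1
  have h2 : ((m⁻¹ * y : ↥Q) : H) ∈ ⁅Q, Q⁆ := by
    rw [← Subgroup.map_subtype_commutator]
    exact ⟨_, h1, rfl⟩
  have h3 := hcomm h2
  have h4 : (m : H) ∈ M := Subgroup.mem_subgroupOf.mp hm
  have e : (y : H) = (m : H) * ((m⁻¹ * y : ↥Q) : H) := by
    simp
  rw [e]
  exact Subgroup.mul_mem _ h4 h3


theorem mem_of_pow_mem_of_coprime (M : Subgroup H) (x : H) (n : ℕ)
    (hcop : n.Coprime (orderOf x)) (h : x ^ n ∈ M) : x ∈ M := by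
  obtain ⟨m, hm⟩ := exists_pow_eq_self_of_coprime hcop
  rw [← hm]
  exact Subgroup.pow_mem _ h m

open Classical in
/-- **Abelian quotient case of the generation theorem.** -/
theorem le_of_abelian_quotient [Finite H] {p : ℕ} [Fact p.Prime] (E Q M : Subgroup H)
    (hexp : ∀ e ∈ E, e ^ p = 1) (hcard : Nat.card E = p ^ 2)
    (hEQ : E ≤ Subgroup.normalizer (Q : Set H)) (hEM : E ≤ Subgroup.normalizer (M : Set H))
    (hMQ : M ≤ Q) (hcomm : ⁅Q, Q⁆ ≤ M) (hQ : ¬ p ∣ Nat.card Q)
    (hC : ∀ e ∈ E, e ≠ 1 → Q ⊓ Subgroup.centralizer ({e} : Set H) ≤ M) : Q ≤ M := by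
  haveI : Fintype H := Fintype.ofFinite H
  have hp : p.Prime := Fact.out
  intro x hxQ
  set x' : ↥Q := ⟨x, hxQ⟩ with hx'
  set g : H → Abelianization ↥Q := fun e =>
    if h : e ∈ Subgroup.normalizer (Q : Set H) then Abelianization.of (conjHomN Q e h x') else 1 with hg
  set Mbar : Subgroup (Abelianization ↥Q) := (M.subgroupOf Q).map Abelianization.of with hMbar
  have hgE : ∀ e (he : e ∈ E), g e = Abelianization.of (conjHomN Q e (hEQ he) x') := by
    intro e he
    simp only [hg, dif_pos (hEQ he)]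
  -- Claim 1
  have claim1 : ∀ C : Subgroup H, C ≤ E → (∃ e ∈ C, e ≠ 1) →
      ∏ c ∈ Finset.univ.filter (fun c : H => c ∈ C), g c ∈ Mbar := by
    intro C hCE ⟨e₀, he₀C, he₀1⟩
    set ν := ∏ c ∈ Finset.univ.filter (fun c : H => c ∈ C), g c with hν
    obtain ⟨y, hy⟩ := QuotientGroup.mk'_surjective (commutator ↥Q) ν
    have hy' : Abelianization.of y = ν := hy
    have hCp : IsPGroup p C := by
      intro c
      refine ⟨1, ?_⟩
      apply Subtype.ext
      simp only [pow_one, Subgroup.coe_pow, Subgroup.coe_one]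
      exact hexp _ (hCE c.2)
    have hfix : ∀ c (hc : c ∈ C), Abelianization.map (conjHomN Q c (hEQ (hCE hc))) ν = ν := by
      intro c hc
      rw [hν, map_prod]
      have e1 : ∀ b ∈ Finset.univ.filter (fun c : H => c ∈ C),
          Abelianization.map (conjHomN Q c (hEQ (hCE hc))) (g b) = g (c * b) := by
        intro b hb
        have hbC : b ∈ C := (Finset.mem_filter.mp hb).2
        rw [hgE b (hCE hbC), hgE (c * b) (hCE (C.mul_mem hc hbC)), Abelianization.map_of]
        congr 1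
        apply Subtype.ext
        simp only [conjHomN_coe]
        group
      rw [Finset.prod_congr rfl e1]
      apply Finset.prod_equiv (Equiv.mulLeft c)
      · intro b
        simp only [Finset.mem_filter, Finset.mem_univ, true_and, Equiv.coe_mulLeft]
        constructor
        · intro hb; exact C.mul_mem hc hb
        · intro hb
          have := C.mul_mem (C.inv_mem hc) hb
          simpa using this
      · intro b _
        rfl
    have hyM : (y : H) ∈ M := by
      apply mem_of_commutator_mem Q M C hMQ hCp (hCE.trans hEQ) (hCE.trans hEM) hQ _ (y : H) y.2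
      · intro c hc
        have h1 : Abelianization.of (conjHomN Q c (hEQ (hCE hc)) y) = Abelianization.of y := by
          rw [← Abelianization.map_of, hy', hfix c hc]
        have h2 : conjHomN Q c (hEQ (hCE hc)) y * y⁻¹ ∈
            (Abelianization.of : ↥Q →* Abelianization ↥Q).ker := by
          rw [MonoidHom.mem_ker, map_mul, map_inv, h1, mul_inv_cancel]
        rw [Abelianization.ker_of] at h2
        have h3 : ((conjHomN Q c (hEQ (hCE hc)) y * y⁻¹ : ↥Q) : H) ∈ ⁅Q, Q⁆ := by
          rw [← Subgroup.map_subtype_commutator]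
          exact ⟨_, h2, rfl⟩
        have e : ((conjHomN Q c (hEQ (hCE hc)) y * y⁻¹ : ↥Q) : H) = ⁅c, (y : H)⁆ := by
          simp [conjHomN_coe, commutatorElement_def]
        rw [e] at h3
        exact hcomm h3
      · refine le_trans ?_ (hC e₀ (hCE he₀C) he₀1)
        refine inf_le_inf_left _ (Subgroup.centralizer_le ?_)
        intro z hz
        rw [Set.mem_singleton_iff] at hz
        rw [hz]; exact he₀C
    rw [← hy']
    exact ⟨y, Subgroup.mem_subgroupOf.mpr hyM, rfl⟩
  -- the identity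
  have hid := prod_order_p_subgroups E hexp hcard g
  have hL : ∏ C ∈ (Finset.univ.filter (fun e : H => e ∈ E ∧ e ≠ 1)).image (fun e => Subgroup.zpowers e),
      (∏ c ∈ Finset.univ.filter (fun c : H => c ∈ C), g c) ∈ Mbar := by
    apply Subgroup.prod_mem
    intro C hC
    obtain ⟨e, he, rfl⟩ := Finset.mem_image.mp hC
    have he' := (Finset.mem_filter.mp he).2
    exact claim1 _ (Subgroup.zpowers_le.mpr he'.1) ⟨e, Subgroup.mem_zpowers e, he'.2⟩
  have hEne : ∃ e ∈ E, e ≠ 1 := by
    by_contra hcon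
    have hbot : E = ⊥ := by
      rw [eq_bot_iff]
      intro e he
      by_contra h1
      exact hcon ⟨e, he, fun h => h1 (by rw [h]; exact Subgroup.mem_bot.mpr rfl)⟩
    rw [hbot, Subgroup.card_bot] at hcard
    have : 1 < p ^ 2 := Nat.one_lt_pow (by norm_num) hp.one_lt
    omega
  have hR := claim1 E le_rfl hEne
  rw [hid] at hL
  have hg1 : g 1 ^ p ∈ Mbar := by
    have := Subgroup.mul_mem _ hL (Subgroup.inv_mem _ hR)
    simpa using this
  have hg1' : g 1 = Abelianization.of x' := by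
    rw [hgE 1 (Subgroup.one_mem _)]
    congr 1
    apply Subtype.ext
    simp [conjHomN_coe]
  rw [hg1', ← map_pow] at hg1
  have hxp : x ^ p ∈ M := by
    have := mem_of_of_mem_map Q M hcomm (x' ^ p) hg1
    simpa using this
  apply mem_of_pow_mem_of_coprime M x p _ hxp
  rw [Nat.Prime.coprime_iff_not_dvd hp]
  intro hdvd
  apply hQ
  have h1 : orderOf x ∣ Nat.card Q := by
    have := orderOf_dvd_natCard x'
    rwa [Subgroup.orderOf_mk] at this
  exact hdvd.trans h1

/-- the subgroup generated by the centralizers in `X` of the nonidentity elements of `E` -/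
def genC (E X : Subgroup H) : Subgroup H :=
  ⨆ e ∈ {e : H | e ∈ E ∧ e ≠ 1}, X ⊓ Subgroup.centralizer ({e} : Set H)

theorem genC_le (E X : Subgroup H) : genC E X ≤ X := iSup₂_le fun _ _ => inf_le_left

theorem genC_mono (E : Subgroup H) {X₁ X₂ : Subgroup H} (h : X₁ ≤ X₂) : genC E X₁ ≤ genC E X₂ :=
  iSup₂_mono fun _ _ => inf_le_inf_right _ h

theorem le_genC_of_mem (E X : Subgroup H) (e : H) (he : e ∈ E) (h1 : e ≠ 1) :
    X ⊓ Subgroup.centralizer ({e} : Set H) ≤ genC E X :=
  le_iSup₂ (f := fun e (_ : e ∈ {e : H | e ∈ E ∧ e ≠ 1}) => X ⊓ Subgroup.centralizer ({e} : Set H))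
    e ⟨he, h1⟩

theorem genC_map_conj_le (E X : Subgroup H) (hcomm : ∀ a ∈ E, ∀ b ∈ E, a * b = b * a)
    (hEX : E ≤ Subgroup.normalizer (X : Set H)) (a : H) (ha : a ∈ E) :
    (genC E X).map (MulAut.conj a).toMonoidHom ≤ genC E X := by
  unfold genC
  rw [Subgroup.map_iSup]
  apply iSup_le
  intro e
  rw [Subgroup.map_iSup]
  apply iSup_le
  intro he
  refine le_trans ?_ (le_genC_of_mem E X e he.1 he.2)
  rintro _ ⟨x, hx, rfl⟩
  obtain ⟨hxX, hxC⟩ := Subgroup.mem_inf.mp hx
  refine Subgroup.mem_inf.mpr ⟨(Subgroup.mem_normalizer_iff.mp (hEX ha) x).mp hxX, ?_⟩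
  rw [Subgroup.mem_centralizer_iff] at hxC ⊢
  intro z hz
  rw [Set.mem_singleton_iff] at hz
  subst hz
  have h1 := hxC z (Set.mem_singleton z)
  have h2 := hcomm a ha z he.1
  simp only [MulEquiv.coe_toMonoidHom, MulAut.conj_apply]
  have h3 : z * a⁻¹ = a⁻¹ * z := by
    rw [eq_inv_mul_iff_mul_eq, ← mul_assoc, h2, mul_assoc, mul_inv_cancel, mul_one]
  calc z * (a * x * a⁻¹) = (z * a) * x * a⁻¹ := by simp only [mul_assoc]
    _ = a * (z * x) * a⁻¹ := by rw [← h2]; simp only [mul_assoc]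
    _ = a * x * (z * a⁻¹) := by rw [h1]; simp only [mul_assoc]
    _ = a * x * a⁻¹ * z := by rw [h3]; simp only [mul_assoc]

theorem genC_normalizer (E X : Subgroup H) (hcomm : ∀ a ∈ E, ∀ b ∈ E, a * b = b * a)
    (hEX : E ≤ Subgroup.normalizer (X : Set H)) :
    E ≤ Subgroup.normalizer ((genC E X : Subgroup H) : Set H) := by
  intro a ha
  exact mem_normalizer_of_map_conj_le _ _ (genC_map_conj_le E X hcomm hEX a ha)
    (genC_map_conj_le E X hcomm hEX a⁻¹ (E.inv_mem ha))

theorem normalizer_le_normalizer_commutator (X : Subgroup H) :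
    Subgroup.normalizer (X : Set H) ≤ Subgroup.normalizer ((⁅X, X⁆ : Subgroup H) : Set H) := by
  intro a ha
  rw [mem_normalizer_iff_map_conj] at ha ⊢
  rw [Subgroup.map_commutator, ha]

theorem comm_of_exp_card_sq {p : ℕ} [Fact p.Prime] (E : Subgroup H)
    (hcard : Nat.card E = p ^ 2) : ∀ a ∈ E, ∀ b ∈ E, a * b = b * a := by
  intro a ha b hb
  haveI := IsPGroup.isMulCommutative_of_card_eq_prime_sq hcard
  have := mul_comm' (⟨a, ha⟩ : ↥E) ⟨b, hb⟩
  exact congrArg Subtype.val this

theorem isPGroup_of_exp {p : ℕ} (E : Subgroup H) (hexp : ∀ e ∈ E, e ^ p = 1) : IsPGroup p E := by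
  intro c
  refine ⟨1, ?_⟩
  apply Subtype.ext
  simp only [pow_one, Subgroup.coe_pow, Subgroup.coe_one]
  exact hexp _ c.2

/-- generation theorem, solvable case -/
theorem le_genC_of_solvable [Finite H] {p : ℕ} [Fact p.Prime] (E : Subgroup H)
    (hexp : ∀ e ∈ E, e ^ p = 1) (hcard : Nat.card E = p ^ 2) :
    ∀ n : ℕ, ∀ X : Subgroup H, Nat.card X = n → Group.IsSolvable ↥X →
      E ≤ Subgroup.normalizer (X : Set H) → ¬ p ∣ Nat.card X → X ≤ genC E X := by
  have hcomm := comm_of_exp_card_sq E hcard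
  intro n
  induction n using Nat.strong_induction_on with
  | _ n ih =>
  intro X hn hsolv hEX hX
  by_cases hbot : X = ⊥
  · rw [hbot]; exact bot_le
  have hle : ⁅X, X⁆ ≤ X := Subgroup.commutator_le_self X
  have hne : ⁅X, X⁆ ≠ X := by
    intro heq
    haveI : Nontrivial ↥X := (Subgroup.nontrivial_iff_ne_bot X).mpr hbot
    have h1 := Group.IsSolvable.commutator_lt_top_of_nontrivial ↥X
    apply h1.ne
    apply Subgroup.map_injective X.subtype_injective
    rw [Subgroup.map_subtype_commutator, heq, ← MonoidHom.range_eq_map, Subgroup.range_subtype]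
  have hlt : ⁅X, X⁆ < X := lt_of_le_of_ne hle hne
  have hcardlt : Nat.card ↥⁅X, X⁆ < n := by
    rw [← hn]
    exact card_lt_of_lt hlt
  have hsolv' : Group.IsSolvable ↥⁅X, X⁆ :=
    Group.isSolvable_of_isSolvable_injective (f := Subgroup.inclusion hle)
      (Subgroup.inclusion_injective _)
  have hX' : ¬ p ∣ Nat.card ↥⁅X, X⁆ := fun h => hX (h.trans (Subgroup.card_dvd_of_le hle))
  have h1 : ⁅X, X⁆ ≤ genC E ⁅X, X⁆ :=
    ih _ hcardlt ⁅X, X⁆ rfl hsolv' (hEX.trans (normalizer_le_normalizer_commutator X)) hX'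
  exact le_of_abelian_quotient E X (genC E X) hexp hcard hEX (genC_normalizer E X hcomm hEX)
    (genC_le E X) (h1.trans (genC_mono E hle)) hX (fun e he h1 => le_genC_of_mem E X e he h1)

/-- **generation theorem** for a coprime action of an elementary abelian group of order `p²` -/
theorem le_genC [Finite H] {p : ℕ} [Fact p.Prime] (E : Subgroup H)
    (hexp : ∀ e ∈ E, e ^ p = 1) (hcard : Nat.card E = p ^ 2) (X : Subgroup H)
    (hEX : E ≤ Subgroup.normalizer (X : Set H)) (hX : ¬ p ∣ Nat.card X) : X ≤ genC E X := by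
  have hEp := isPGroup_of_exp E hexp
  haveI : Group.IsNilpotent ↥E := hEp.isNilpotent
  have hsolvE : Group.IsSolvable ↥E := inferInstance
  have hcop := coprime_of_pgroup_of_not_dvd E X hEp hX
  have hidx : ((genC E X).subgroupOf X).index = 1 := by
    rw [Nat.eq_one_iff_not_exists_prime_dvd]
    intro q hq hdvd
    haveI : Fact q.Prime := ⟨hq⟩
    obtain ⟨P, hP⟩ := Cfsg.Agent.S0023.result E X hEX hcop (Or.inl hsolvE) q
    set P' : Subgroup H := (P : Subgroup ↥X).map X.subtype with hP'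
    have hP'X : P' ≤ X := Subgroup.map_subtype_le _
    have hP'q : IsPGroup q P' := P.isPGroup'.map _
    haveI : Group.IsNilpotent ↥P' := hP'q.isNilpotent
    have hsolvP : Group.IsSolvable ↥P' := inferInstance
    have hP'p : ¬ p ∣ Nat.card ↥P' := fun h => hX (h.trans (Subgroup.card_dvd_of_le hP'X))
    have h1 : P' ≤ genC E P' := le_genC_of_solvable E hexp hcard _ P' rfl hsolvP hP hP'p
    have h2 : P' ≤ genC E X := h1.trans (genC_mono E hP'X)
    have h3 : (P : Subgroup ↥X) ≤ (genC E X).subgroupOf X := by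
      intro x hx
      rw [Subgroup.mem_subgroupOf]
      exact h2 ⟨x, hx, rfl⟩
    have h4 := Subgroup.index_dvd_of_le h3
    exact P.not_dvd_index (hdvd.trans h4)
  rw [Subgroup.index_eq_one, Subgroup.subgroupOf_eq_top] at hidx
  exact hidx

end Cfsg.Agent.Lib.Helper5
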