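import Mathlib

set_option autoImplicit false

namespace Cfsg.Agent.Lib.Helper5

variable {G : Type*} [Group G] {p : ℕ}

/-- For a cyclic Sylow `p`-subgroup `P`, if `N_G(P)` centralizes a nontrivial element of `P`,
then `N_G(P) ≤ C_G(P)`. -/
theorem normalizer_le_centralizer_of_cyclic [Finite G] [Fact p.Prime] (P : Sylow p G)
    (hcyc : IsCyclic ↥(P : Subgroup G)) (x : G) (hxP : x ∈ (P : Subgroup G)) (hx1 : x ≠ 1)
    (hN : Subgroup.normalizer ((P : Subgroup G) : Set G) ≤ Subgroup.centralizer ({x} : Set G)) :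
    Subgroup.normalizer ((P : Subgroup G) : Set G) ≤ Subgroup.centralizer ((P : Subgroup G) : Set G) := by
  have hp : p.Prime := Fact.out
  intro n hn
  -- conjugation by n as an endomorphism of P
  let σ : (P : Subgroup G) →* (P : Subgroup G) :=
    { toFun := fun g => ⟨n * g * n⁻¹, (Subgroup.mem_normalizer_iff.mp hn g).mp g.2⟩
      map_one' := by apply Subtype.ext; simp
      map_mul' := by intro a b; apply Subtype.ext; simp [mul_assoc] }
  obtain ⟨m, hm⟩ := σ.map_cyclic
  have hm' : ∀ g ∈ (P : Subgroup G), n * g * n⁻¹ = g ^ m := by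
    intro g hg
    have := congrArg Subtype.val (hm ⟨g, hg⟩)
    simpa [σ] using this
  have hpow : ∀ k : ℕ, ∀ g ∈ (P : Subgroup G), n ^ k * g * (n ^ k)⁻¹ = g ^ (m ^ k) := by
    intro k
    induction k with
    | zero => intro g _; simp
    | succ k ih =>
      intro g hg
      have h1 : n ^ (k + 1) * g * (n ^ (k + 1))⁻¹ = n * (n ^ k * g * (n ^ k)⁻¹) * n⁻¹ := by
        rw [pow_succ']; group
      rw [h1, ih g hg, hm' _ (Subgroup.zpow_mem _ hg _), ← zpow_mul, pow_succ]
  -- p ∣ m - 1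
  have hxn : n * x * n⁻¹ = x := by
    have := hN hn
    rw [Subgroup.mem_centralizer_singleton_iff] at this
    rw [this]; group
  have hxm : x ^ (m - 1) = 1 := by
    have h1 := hm' x hxP
    rw [hxn] at h1
    rw [zpow_sub, zpow_one, ← h1]; group
  have hdvd : (orderOf x : ℤ) ∣ m - 1 := orderOf_dvd_iff_zpow_eq_one.mpr hxm
  have hpm : (p : ℤ) ∣ m - 1 := by
    obtain ⟨k, hk⟩ := P.isPGroup' ⟨x, hxP⟩
    have hk' : x ^ p ^ k = 1 := by
      have := congrArg Subtype.val hk
      simpa using this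
    have h1 : orderOf x ∣ p ^ k := orderOf_dvd_of_pow_eq_one hk'
    obtain ⟨j, _, hj⟩ := (Nat.dvd_prime_pow hp).mp h1
    have hj0 : j ≠ 0 := by
      intro h0
      rw [h0, pow_zero, orderOf_eq_one_iff] at hj
      exact hx1 hj
    have h2 : p ∣ orderOf x := by rw [hj]; exact dvd_pow_self p hj0
    exact (Int.natCast_dvd_natCast.mpr h2).trans hdvd
  -- card P = p ^ e
  obtain ⟨e, he⟩ := IsPGroup.iff_card.mp P.isPGroup'
  have h3 : ((p : ℤ) ^ e) ∣ m ^ p ^ e - 1 := by
    have := dvd_sub_pow_of_dvd_sub (R := ℤ) (p := p) (a := m) (b := 1) hpm e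
    rw [one_pow] at this
    exact (pow_dvd_pow (p : ℤ) (Nat.le_succ e)).trans this
  have hPcomm : ∀ a ∈ (P : Subgroup G), ∀ b ∈ (P : Subgroup G), a * b = b * a := by
    intro a ha b hb
    have hc : ∀ u v : (P : Subgroup G), u * v = v * u := by
      intro u v
      obtain ⟨c, hc⟩ := hcyc.exists_generator
      obtain ⟨i, rfl⟩ := Subgroup.mem_zpowers_iff.mp (hc u)
      obtain ⟨j, rfl⟩ := Subgroup.mem_zpowers_iff.mp (hc v)
      rw [← zpow_add, ← zpow_add, add_comm]
    exact congrArg Subtype.val (hc ⟨a, ha⟩ ⟨b, hb⟩)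
  have hcardpow : ∀ g ∈ (P : Subgroup G), g ^ p ^ e = 1 := by
    intro g hg
    have := pow_card_eq_one' (G := (P : Subgroup G)) (x := ⟨g, hg⟩)
    rw [he] at this
    have := congrArg Subtype.val this
    simpa using this
  have hc1 : n ^ p ^ e ∈ Subgroup.centralizer ((P : Subgroup G) : Set G) := by
    rw [Subgroup.mem_centralizer_iff]
    intro g hg
    have h4 := hpow (p ^ e) g hg
    obtain ⟨t, ht⟩ := h3
    have h5 : m ^ p ^ e = 1 + (p : ℤ) ^ e * t := by linarith
    have h6 : g ^ (m ^ p ^ e) = g := by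
      rw [h5, zpow_add, zpow_one, zpow_mul]
      have : g ^ ((p : ℤ) ^ e) = 1 := by
        have := hcardpow g hg
        rw [← zpow_natCast] at this
        push_cast at this
        exact this
      rw [this, one_zpow, mul_one]
    rw [h6] at h4
    calc g * n ^ p ^ e = (n ^ p ^ e * g * (n ^ p ^ e)⁻¹) * n ^ p ^ e := by rw [h4]
      _ = n ^ p ^ e * g := by group
  -- the p'-part
  set c := Nat.card G with hc
  have hcpos : c ≠ 0 := Nat.card_pos.ne'
  set t := c / p ^ c.factorization p with ht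
  have htc : p ^ c.factorization p * t = c := Nat.ordProj_mul_ordCompl_eq_self c p
  have htcop : Nat.Coprime p t := Nat.coprime_ordCompl hp hcpos
  have hntp : IsPGroup p (Subgroup.zpowers (n ^ t)) := by
    rintro ⟨y, hy⟩
    obtain ⟨i, rfl⟩ := Subgroup.mem_zpowers_iff.mp hy
    refine ⟨c.factorization p, ?_⟩
    apply Subtype.ext
    simp only [Subgroup.coe_pow, Subgroup.coe_one]
    rw [← zpow_natCast, ← zpow_mul, mul_comm, zpow_mul, zpow_natCast, ← pow_mul, mul_comm, htc,
      hc, pow_card_eq_one', one_zpow]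
  have hzn : Subgroup.zpowers (n ^ t) ≤ Subgroup.normalizer ((P : Subgroup G) : Set G) := by
    rw [Subgroup.zpowers_le]
    exact Subgroup.pow_mem _ hn _
  have hsup := IsPGroup.to_sup_of_normal_right' hntp P.isPGroup' hzn
  have hPeq := P.is_maximal' hsup le_sup_right
  have hntP : n ^ t ∈ (P : Subgroup G) := by
    rw [← hPeq]
    exact Subgroup.mem_sup_left (Subgroup.mem_zpowers _)
  have hc2 : n ^ t ∈ Subgroup.centralizer ((P : Subgroup G) : Set G) := by
    rw [Subgroup.mem_centralizer_iff]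
    intro g hg
    exact hPcomm g hg _ hntP
  -- Bezout
  have hcop : Nat.Coprime (p ^ e) t := Nat.Coprime.pow_left e htcop
  have hbez := Nat.gcd_eq_gcd_ab (p ^ e) t
  rw [hcop] at hbez
  have hn_eq : n = (n ^ p ^ e) ^ (Nat.gcdA (p ^ e) t) * (n ^ t) ^ (Nat.gcdB (p ^ e) t) := by
    rw [← zpow_natCast n (p ^ e), ← zpow_natCast n t, ← zpow_mul, ← zpow_mul, ← zpow_add]
    have : ((p ^ e : ℕ) : ℤ) * Nat.gcdA (p ^ e) t + (t : ℤ) * Nat.gcdB (p ^ e) t = 1 := by
      rw [← hbez]; simp
    rw [this, zpow_one]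
  rw [hn_eq]
  exact Subgroup.mul_mem _ (Subgroup.zpow_mem _ hc1 _) (Subgroup.zpow_mem _ hc2 _)

end Cfsg.Agent.Lib.Helper5
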