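import Cfsg.Prelude.Def_DStar
import Mathlib.GroupTheory.PGroup

set_option autoImplicit false
open Cfsg
open scoped commutatorElement

namespace Cfsg.Agent.Lib.Helper5

variable {S : Type*} [Group S]

/-- conj by an element of `T` fixes elements of `C(T)` -/
theorem conj_eq_of_mem_centralizer (T : Subgroup S) (u z : S) (hu : u ∈ T)
    (hz : z ∈ Subgroup.centralizer (T : Set S)) : u * z * u⁻¹ = z := by
  have := hz u hu
  rw [this]; group

theorem conj_eq_of_mem_centralizer' (T : Subgroup S) (u z : S) (hu : u ∈ T)
    (hz : z ∈ Subgroup.centralizer (T : Set S)) : u⁻¹ * z * u = z := by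
  have := hz u hu
  rw [mul_assoc, ← this]; group

/-- if `A ≤ T` is abelian and `x ∈ T` is central modulo the centre of `T`, then `⟨A, x⟩` has class at most two -/
theorem class_two_of_central_commutators (T A : Subgroup S) (x : S) (hAT : A ≤ T) (hxT : x ∈ T)
    (hA : ∀ a ∈ A, ∀ b ∈ A, a * b = b * a)
    (hx : ∀ t ∈ T, ⁅x, t⁆ ∈ Subgroup.centralizer (T : Set S)) :
    ⁅⁅A ⊔ Subgroup.zpowers x, A ⊔ Subgroup.zpowers x⁆, A ⊔ Subgroup.zpowers x⁆ = ⊥ := by
  set K := A ⊔ Subgroup.zpowers x with hK
  have hKcl : K = Subgroup.closure ((A : Set S) ∪ {x}) := by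
    rw [hK, Subgroup.closure_union, Subgroup.closure_eq, Subgroup.zpowers_eq_closure]
  have hKT : K ≤ T := sup_le hAT (by rw [Subgroup.zpowers_le]; exact hxT)
  have hkT : Subgroup.closure ((A : Set S) ∪ {x}) ≤ T := hKcl ▸ hKT
  have key : ∀ u v : S, u ∈ Subgroup.closure ((A : Set S) ∪ {x}) →
      v ∈ Subgroup.closure ((A : Set S) ∪ {x}) → ⁅u, v⁆ ∈ Subgroup.centralizer (T : Set S) := by
    intro u v hu hv
    induction hu, hv using Subgroup.closure_induction₂ with
    | mem u v hu hv =>
      rcases hu with hu | hu <;> rcases hv with hv | hv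
      · have : ⁅u, v⁆ = 1 := by
          rw [commutatorElement_eq_one_iff_mul_comm]; exact hA u hu v hv
        rw [this]; exact Subgroup.one_mem _
      · rw [Set.mem_singleton_iff] at hv
        subst hv
        rw [← commutatorElement_inv]
        exact Subgroup.inv_mem _ (hx u (hAT hu))
      · rw [Set.mem_singleton_iff] at hu
        subst hu
        exact hx v (hAT hv)
      · rw [Set.mem_singleton_iff] at hu hv
        subst hu; subst hv
        rw [commutatorElement_self]; exact Subgroup.one_mem _
    | one_left v hv => rw [commutatorElement_one_left]; exact Subgroup.one_mem _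
    | one_right u hu => rw [commutatorElement_one_right]; exact Subgroup.one_mem _
    | mul_left u₁ u₂ v hu₁ hu₂ hv h₁ h₂ =>
      rw [commutatorElement_mul_left_eq_conj_mul, conj_eq_of_mem_centralizer T u₁ _ (hkT hu₁) h₂]
      exact Subgroup.mul_mem _ h₂ h₁
    | mul_right v₁ v₂ u hv₁ hv₂ hu h₁ h₂ =>
      rw [commutatorElement_mul_right_eq_mul_conj, mul_assoc, mul_assoc, ← mul_assoc v₁,
        conj_eq_of_mem_centralizer T v₁ _ (hkT hv₁) h₂]
      exact Subgroup.mul_mem _ h₁ h₂
    | inv_left u v hu hv h =>
      rw [commutatorElement_inv_left, ← commutatorElement_inv u v,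
        conj_eq_of_mem_centralizer' T u _ (hkT hu) (Subgroup.inv_mem _ h)]
      exact Subgroup.inv_mem _ h
    | inv_right u v hu hv h =>
      rw [commutatorElement_inv_right, ← commutatorElement_inv u v,
        conj_eq_of_mem_centralizer' T v _ (hkT hv) (Subgroup.inv_mem _ h)]
      exact Subgroup.inv_mem _ h
  have h1 : ⁅K, K⁆ ≤ Subgroup.centralizer (T : Set S) := by
    rw [Subgroup.commutator_le]
    intro u hu v hv
    rw [hKcl] at hu hv
    exact key u v hu hv
  rw [eq_bot_iff]
  calc ⁅⁅K, K⁆, K⁆ ≤ ⁅Subgroup.centralizer (T : Set S), T⁆ := Subgroup.commutator_mono h1 hKT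
    _ = ⊥ := by rw [Subgroup.commutator_eq_bot_iff_le_centralizer]

/-- a nilpotent group generated by elements centralizing its second centre is commutative -/
theorem comm_of_generators_centralize_second_center (T : Type*) [Group T] [Group.IsNilpotent T]
    (X : Set T) (hX : Subgroup.closure X = ⊤)
    (h : ∀ x ∈ X, ∀ z ∈ Subgroup.upperCentralSeries T 2, x * z = z * x) : ∀ a b : T, a * b = b * a := by
  have h1 : Subgroup.upperCentralSeries T 2 ≤ Subgroup.upperCentralSeries T 1 := by
    rw [Subgroup.upperCentralSeries_one]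
    intro z hz
    rw [Subgroup.mem_center_iff]
    intro g
    have hg : g ∈ Subgroup.closure X := by rw [hX]; exact Subgroup.mem_top g
    have : g ∈ Subgroup.centralizer ({z} : Set T) := by
      have hle : Subgroup.closure X ≤ Subgroup.centralizer ({z} : Set T) := by
        rw [Subgroup.closure_le]
        intro x hx
        rw [SetLike.mem_coe, Subgroup.mem_centralizer_iff]
        intro y hy
        rw [Set.mem_singleton_iff] at hy
        subst hy
        exact (h x hx y hz).symm
      exact hle hg
    rw [Subgroup.mem_centralizer_iff] at this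
    exact (this z rfl).symm
  have h2 : Subgroup.upperCentralSeries T 1 = Subgroup.upperCentralSeries T 2 :=
    le_antisymm (Subgroup.upperCentralSeries_mono T (by norm_num)) h1
  have h3 := Subgroup.upperCentralSeries.eq_top (by norm_num : (1 : ℕ) ≠ 2) h2
  rw [Subgroup.upperCentralSeries_one] at h3
  intro a b
  have : b ∈ Subgroup.center T := by rw [h3]; exact Subgroup.mem_top b
  exact Subgroup.mem_center_iff.mp this a

end Cfsg.Agent.Lib.Helper5

namespace Cfsg.Agent.Lib.Helper5

variable {S : Type*} [Group S]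

/-- any two members of the `D*` family of a finite `p`-group commute -/
theorem dStarFamily_commute [Finite S] {p : ℕ} [Fact p.Prime] (hS : IsPGroup p S) (A B : Subgroup S)
    (hA : A ∈ Cfsg.dStarFamily S) (hB : B ∈ Cfsg.dStarFamily S) :
    ∀ a ∈ A, ∀ b ∈ B, a * b = b * a := by
  set k : Set S := (A : Set S) ∪ (B : Set S) with hk
  set T : Subgroup S := Subgroup.closure k with hT
  have hAT : A ≤ T := fun a ha => Subgroup.subset_closure (Or.inl ha)
  have hBT : B ≤ T := fun b hb => Subgroup.subset_closure (Or.inr hb)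
  haveI : Group.IsNilpotent ↥T := (hS.to_subgroup T).isNilpotent
  have hAab : ∀ a ∈ A, ∀ b ∈ A, a * b = b * a := by
    intro a ha b hb
    have := hA.1
    rw [isMulCommutative_iff] at this
    exact congrArg Subtype.val (this ⟨a, ha⟩ ⟨b, hb⟩)
  have hBab : ∀ a ∈ B, ∀ b ∈ B, a * b = b * a := by
    intro a ha b hb
    have := hB.1
    rw [isMulCommutative_iff] at this
    exact congrArg Subtype.val (this ⟨a, ha⟩ ⟨b, hb⟩)
  -- elements of the second centre of T
  have hz2 : ∀ z : ↥T, z ∈ Subgroup.upperCentralSeries ↥T 2 →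
      ∀ t ∈ T, ⁅(z : S), t⁆ ∈ Subgroup.centralizer (T : Set S) := by
    intro z hz t ht
    have h1 : ∀ y : ↥T, ⁅z, y⁆ ∈ Subgroup.upperCentralSeries ↥T 1 := hz
    have h2 := h1 ⟨t, ht⟩
    rw [Subgroup.upperCentralSeries_one, Subgroup.mem_center_iff] at h2
    rw [Subgroup.mem_centralizer_iff]
    intro g hg
    have := h2 ⟨g, hg⟩
    exact congrArg Subtype.val this
  have hcomm := comm_of_generators_centralize_second_center ↥T (((↑) : ↥T → S) ⁻¹' k)
    Subgroup.closure_closure_coe_preimage (by
      intro x hx z hz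
      apply Subtype.ext
      rcases hx with hx | hx
      · have hc := class_two_of_central_commutators T A (z : S) hAT z.2 hAab (hz2 z hz)
        exact hA.2 (z : S) hc x hx
      · have hc := class_two_of_central_commutators T B (z : S) hBT z.2 hBab (hz2 z hz)
        exact hB.2 (z : S) hc x hx)
  intro a ha b hb
  exact congrArg Subtype.val (hcomm ⟨a, hAT ha⟩ ⟨b, hBT hb⟩)

theorem dStar_mem_dStarFamily [Finite S] {p : ℕ} [Fact p.Prime] (hS : IsPGroup p S) :
    Cfsg.dStar S ∈ Cfsg.dStarFamily S := by
  constructor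
  · rw [← Subgroup.le_centralizer_iff_isMulCommutative]
    unfold Cfsg.dStar
    apply sSup_le
    intro A hA
    rw [Subgroup.le_centralizer_iff]
    apply sSup_le
    intro B hB
    intro b hb a ha
    exact dStarFamily_commute hS A B hA hB a ha b hb
  · intro x hx
    have hle : Cfsg.dStar S ≤ Subgroup.centralizer ({x} : Set S) := by
      unfold Cfsg.dStar
      apply sSup_le
      intro A hA a ha
      rw [Subgroup.mem_centralizer_iff]
      intro y hy
      rw [Set.mem_singleton_iff] at hy
      subst hy
      have hAle : A ≤ Cfsg.dStar S := le_sSup hA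
      have hmono : A ⊔ Subgroup.zpowers y ≤ Cfsg.dStar S ⊔ Subgroup.zpowers y := sup_le_sup_right hAle _
      have hc : ⁅⁅A ⊔ Subgroup.zpowers y, A ⊔ Subgroup.zpowers y⁆, A ⊔ Subgroup.zpowers y⁆ = ⊥ := by
        rw [eq_bot_iff, ← hx]
        exact Subgroup.commutator_mono (Subgroup.commutator_mono hmono hmono) hmono
      exact (hA.2 y hc a ha).symm
    intro a ha
    have := hle ha
    rw [Subgroup.mem_centralizer_iff] at this
    exact (this x rfl).symm

end Cfsg.Agent.Lib.Helper5
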