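import Cfsg.Agent.Lib.Helper5.CL2
import Cfsg.Agent.Lib.Helper5.Basic
import Cfsg.Agent.Lib.Helper5.CD2
import Mathlib.GroupTheory.Nilpotent

set_option autoImplicit false
open Cfsg
open scoped Pointwise commutatorElement

namespace Cfsg.Agent.Lib.Helper5

variable {S : Type*} [Group S]

/-- In a nilpotent group, if a normal subgroup `B` is not inside `N`, some `b ∈ B ∖ N` has `[b, A] ≤ N`. -/
theorem exists_mem_not_mem_commutator_mem [Group.IsNilpotent S] (B A N : Subgroup S) [hB : B.Normal]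
    (hBN : ¬ B ≤ N) : ∃ b ∈ B, b ∉ N ∧ ∀ a ∈ A, ⁅b, a⁆ ∈ N := by
  classical
  obtain ⟨n, hn⟩ := Subgroup.nilpotent_iff_lowerCentralSeries.mp (inferInstance : Group.IsNilpotent S)
  let f : ℕ → Subgroup S := fun n => Nat.rec B (fun _ X => ⁅X, A⁆) n
  have hf0 : f 0 = B := rfl
  have hfs : ∀ k, f (k + 1) = ⁅f k, A⁆ := fun k => rfl
  have hfB : ∀ k, f k ≤ B := by
    intro k
    induction k with
    | zero => exact le_rfl
    | succ k ih =>
      rw [hfs]
      exact (Subgroup.commutator_mono ih le_top).trans (Subgroup.commutator_le_left B ⊤)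
  have hfl : ∀ k, f k ≤ (⊤ : Subgroup S).lowerCentralSeries k := by
    intro k
    induction k with
    | zero => exact le_top
    | succ k ih =>
      rw [hfs, Subgroup.lowerCentralSeries_succ]
      exact Subgroup.commutator_mono ih le_top
  have hex : ∃ m, f m ≤ N := ⟨n, (hfl n).trans (hn ▸ bot_le)⟩
  let pd : DecidablePred (fun m => f m ≤ N) := fun _ => Classical.dec _
  have hm : f (@Nat.find (fun m => f m ≤ N) pd hex) ≤ N := @Nat.find_spec (fun m => f m ≤ N) pd hex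
  have hmin : ∀ k, k < @Nat.find (fun m => f m ≤ N) pd hex → ¬ f k ≤ N :=
    fun k hk => @Nat.find_min (fun m => f m ≤ N) pd hex k hk
  set m := @Nat.find (fun m => f m ≤ N) pd hex with hmdef
  have hm0 : m ≠ 0 := by
    intro h0
    rw [h0] at hm
    exact hBN hm
  obtain ⟨k, hk⟩ := Nat.exists_eq_succ_of_ne_zero hm0
  have hk1 : ¬ f k ≤ N := hmin k (by omega)
  obtain ⟨b, hb1, hb2⟩ := SetLike.not_le_iff_exists.mp hk1
  refine ⟨b, hfB k hb1, hb2, fun a ha => ?_⟩
  apply hm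
  rw [hk, Nat.succ_eq_add_one, hfs]
  exact Subgroup.commutator_mem_commutator hb1 ha

/-- fibre counting: if `θ` maps `A` into `Y ⊇ D` and is injective modulo `D`, then `|A| ≤ |Y|` -/
theorem card_le_of_injective_mod [Finite S] (A Y D : Subgroup S) (hDY : D ≤ Y) (θ : S → S)
    (hθ : ∀ a ∈ A, θ a ∈ Y)
    (hinj : ∀ a₁ ∈ A, ∀ a₂ ∈ A, (θ a₁)⁻¹ * θ a₂ ∈ D → a₁⁻¹ * a₂ ∈ D) :
    Nat.card ↥A ≤ Nat.card ↥Y := by
  classical
  haveI : Fintype ↥A := Fintype.ofFinite _
  haveI : Fintype ↥Y := Fintype.ofFinite _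
  haveI : Fintype ↥D := Fintype.ofFinite _
  let f : ↥A × ↥D → ↥Y := fun x => ⟨θ x.1 * x.2, Subgroup.mul_mem _ (hθ _ x.1.2) (hDY x.2.2)⟩
  have h1 := Finset.card_le_mul_card_image (f := f) (Finset.univ : Finset (↥A × ↥D)) (Fintype.card ↥D) (by
    intro y hy
    obtain ⟨⟨a₀, d₀⟩, _, h0⟩ := Finset.mem_image.mp hy
    have hmem : ∀ x ∈ Finset.univ.filter (fun x : ↥A × ↥D => f x = y), (a₀ : S)⁻¹ * (x.1 : S) ∈ D := by
      intro x hx
      have hx' := (Finset.mem_filter.mp hx).2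
      apply hinj _ a₀.2 _ x.1.2
      have e1 : θ a₀ * d₀ = θ x.1 * x.2 := by
        have := h0.trans hx'.symm
        exact congrArg Subtype.val this
      have : (θ a₀)⁻¹ * θ x.1 = (d₀ : S) * (x.2 : S)⁻¹ := by
        have h2 : θ x.1 = θ a₀ * d₀ * (x.2 : S)⁻¹ := by rw [e1]; group
        rw [h2]; group
      rw [this]
      exact Subgroup.mul_mem _ d₀.2 (Subgroup.inv_mem _ x.2.2)
    let g : (↥A × ↥D) → ↥D := fun x =>
      if h : (a₀ : S)⁻¹ * (x.1 : S) ∈ D then ⟨(a₀ : S)⁻¹ * (x.1 : S), h⟩ else 1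
    have hcard := Finset.card_le_card_of_injOn g (s := Finset.univ.filter (fun x : ↥A × ↥D => f x = y))
      (t := Finset.univ) (fun _ _ => Finset.mem_univ _) (by
        intro x hx x' hx' hg
        have hx1 := hmem x hx
        have hx1' := hmem x' hx'
        have hxy := (Finset.mem_filter.mp hx).2
        have hxy' := (Finset.mem_filter.mp hx').2
        simp only [g, dif_pos hx1, dif_pos hx1'] at hg
        have e1 : (a₀ : S)⁻¹ * (x.1 : S) = (a₀ : S)⁻¹ * (x'.1 : S) := congrArg Subtype.val hg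
        have e2 : (x.1 : S) = (x'.1 : S) := mul_left_cancel e1
        have e3 : x.1 = x'.1 := Subtype.ext e2
        have e4 : θ x.1 * x.2 = θ x'.1 * x'.2 := congrArg Subtype.val (hxy.trans hxy'.symm)
        rw [e3] at e4
        have e5 : (x.2 : S) = (x'.2 : S) := mul_left_cancel e4
        exact Prod.ext e3 (Subtype.ext e5))
    simpa using hcard)
  have h2 : (Finset.univ.image f).card ≤ Fintype.card ↥Y := Finset.card_le_univ _
  have h3 : Fintype.card ↥A * Fintype.card ↥D ≤ Fintype.card ↥D * Fintype.card ↥Y := by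
    calc Fintype.card ↥A * Fintype.card ↥D = (Finset.univ : Finset (↥A × ↥D)).card := by
          rw [Finset.card_univ, Fintype.card_prod]
      _ ≤ Fintype.card ↥D * (Finset.univ.image f).card := h1
      _ ≤ _ := Nat.mul_le_mul_left _ h2
  have hDpos : 0 < Fintype.card ↥D := Fintype.card_pos
  rw [Nat.card_eq_fintype_card, Nat.card_eq_fintype_card]
  have h4 : Fintype.card ↥D * Fintype.card ↥A ≤ Fintype.card ↥D * Fintype.card ↥Y := by
    rw [mul_comm]; exact h3
  exact Nat.le_of_mul_le_mul_left h4 hDpos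

/-- **Thompson's replacement theorem** (for a normal abelian `B`). -/
theorem thompson_replacement [Finite S] {p : ℕ} [Fact p.Prime] (hS : IsPGroup p S) (A B : Subgroup S)
    (hA : A ∈ Cfsg.maxAbelianSubgroups S) [hBn : B.Normal]
    (hBab : B ≤ Subgroup.centralizer (B : Set S))
    (hBA : ¬ B ≤ Subgroup.normalizer (A : Set S)) :
    ∃ A' ∈ Cfsg.maxAbelianSubgroups S, A ⊓ B < A' ⊓ B ∧ A' ≤ Subgroup.normalizer (A : Set S) := by
  haveI : Group.IsNilpotent S := hS.isNilpotent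
  have hAab : A ≤ Subgroup.centralizer (A : Set S) := (isMulCommutative_iff_le_centralizer A).mp hA.1
  obtain ⟨b, hbB, hbN, hb⟩ := exists_mem_not_mem_commutator_mem B A (Subgroup.normalizer (A : Set S)) hBA
  -- commutators lie in B
  have hcB : ∀ a : S, ⁅b, a⁆ ∈ B := by
    intro a
    rw [commutatorElement_def]
    have h1 : a * b⁻¹ * a⁻¹ ∈ B := hBn.conj_mem _ (Subgroup.inv_mem _ hbB) a
    have h2 := Subgroup.mul_mem _ hbB h1
    have e : b * a * b⁻¹ * a⁻¹ = b * (a * b⁻¹ * a⁻¹) := by group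
    rw [e]; exact h2
  set Ab := A.map (MulAut.conj b).toMonoidHom with hAb
  have hAbab : Ab ≤ Subgroup.centralizer (Ab : Set S) := by
    rw [hAb, centralizer_map_conj]
    exact Subgroup.map_mono hAab
  -- Ab ≤ N(A)
  have hAbN : Ab ≤ Subgroup.normalizer (A : Set S) := by
    rintro _ ⟨a, ha, rfl⟩
    have h1 := hb a ha
    have e : (MulAut.conj b).toMonoidHom a = ⁅b, a⁆ * a := by
      simp [commutatorElement_def]
    rw [e]
    exact Subgroup.mul_mem _ h1 (Subgroup.le_normalizer ha)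
  -- A ≤ N(Ab)
  have hAN : A ≤ Subgroup.normalizer (Ab : Set S) := by
    intro a ha
    rw [hAb, normalizer_map_conj, mem_map_conj_iff]
    have h1 := hb a ha
    have h2 : ⁅b, a⁆ * b = b * ⁅b, a⁆ := (hBab hbB _ (hcB a))
    have e : b⁻¹ * a * b = ⁅b, a⁆⁻¹ * a := by
      have h3 : b⁻¹ * ⁅b, a⁆⁻¹ * b = ⁅b, a⁆⁻¹ := by
        have : ⁅b, a⁆⁻¹ * b = b * ⁅b, a⁆⁻¹ := by
          calc ⁅b, a⁆⁻¹ * b = ⁅b, a⁆⁻¹ * (b * ⁅b, a⁆) * ⁅b, a⁆⁻¹ := by group
            _ = ⁅b, a⁆⁻¹ * (⁅b, a⁆ * b) * ⁅b, a⁆⁻¹ := by rw [h2]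
            _ = b * ⁅b, a⁆⁻¹ := by group
        rw [mul_assoc, this]; group
      rw [← h3, commutatorElement_def]; group
    rw [e]
    exact Subgroup.mul_mem _ (Subgroup.inv_mem _ h1) (Subgroup.le_normalizer ha)
  set D := A ⊓ Ab with hD
  set M := Subgroup.closure {x | ∃ a ∈ A, ⁅b, a⁆ = x} with hM
  have hMB : M ≤ B := by
    rw [hM, Subgroup.closure_le]
    rintro _ ⟨a, _, rfl⟩
    exact hcB a
  have hMN : M ≤ Subgroup.normalizer (A : Set S) := by
    rw [hM, Subgroup.closure_le]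
    rintro _ ⟨a, ha, rfl⟩
    exact hb a ha
  have hMab : M ≤ Subgroup.centralizer (M : Set S) :=
    hMB.trans (hBab.trans (Subgroup.centralizer_le hMB))
  have hMD : M ≤ Subgroup.centralizer (D : Set S) := by
    rw [hM, Subgroup.closure_le]
    rintro _ ⟨a, ha, rfl⟩
    rw [SetLike.mem_coe, Subgroup.mem_centralizer_iff]
    intro d hd
    have hd1 : d * a⁻¹ = a⁻¹ * d := (hAab (Subgroup.inv_mem _ ha) d hd.1)
    have hba : b * a * b⁻¹ ∈ Ab := ⟨a, ha, by simp⟩
    have hd2 : d * (b * a * b⁻¹) = (b * a * b⁻¹) * d := (hAbab hba d hd.2)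
    rw [commutatorElement_def]
    calc d * (b * a * b⁻¹ * a⁻¹) = (d * (b * a * b⁻¹)) * a⁻¹ := by group
      _ = (b * a * b⁻¹) * (d * a⁻¹) := by rw [hd2]; group
      _ = b * a * b⁻¹ * a⁻¹ * d := by rw [hd1]; group
  have hMA : ¬ M ≤ A := by
    intro hle
    apply hbN
    rw [mem_normalizer_iff_map_conj]
    have h1 : A.map (MulAut.conj b).toMonoidHom ≤ A := by
      rintro _ ⟨a, ha, rfl⟩
      have e : (MulAut.conj b).toMonoidHom a = ⁅b, a⁆ * a := by
        simp [commutatorElement_def]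
      rw [e]
      exact Subgroup.mul_mem _ (hle (Subgroup.subset_closure ⟨a, ha, rfl⟩)) ha
    apply Subgroup.eq_of_le_of_card_ge h1
    rw [Subgroup.card_map_of_injective (MulAut.conj b).injective]
  set A' := M ⊔ D with hA'
  have hDab : D ≤ Subgroup.centralizer (D : Set S) :=
    inf_le_left.trans (hAab.trans (Subgroup.centralizer_le inf_le_left))
  have hA'ab : IsMulCommutative ↥A' := by
    rw [isMulCommutative_iff_le_centralizer]
    exact abelian_sup M D hMab hDab hMD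
  have hcard : Nat.card ↥A ≤ Nat.card ↥A' := by
    apply card_le_of_injective_mod A A' D le_sup_right (fun a => ⁅b, a⁆)
    · intro a ha
      exact Subgroup.mem_sup_left (Subgroup.subset_closure ⟨a, ha, rfl⟩)
    · intro a₁ ha₁ a₂ ha₂ he
      set c := a₁⁻¹ * a₂ with hc
      have hcA : c ∈ A := Subgroup.mul_mem _ (Subgroup.inv_mem _ ha₁) ha₂
      have e1 : ⁅b, a₁⁆⁻¹ * ⁅b, a₂⁆ = a₁ * (b * c * b⁻¹) * a₂⁻¹ := by
        rw [commutatorElement_def, commutatorElement_def, hc]; group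
      rw [e1] at he
      have hbc : b * c * b⁻¹ ∈ Ab := ⟨c, hcA, by simp⟩
      have h2 : a₁ * (b * c * b⁻¹) * a₁⁻¹ ∈ Ab := by
        have := (Subgroup.mem_normalizer_iff.mp (hAN ha₁) (b * c * b⁻¹)).mp hbc
        exact this
      have h3 : a₁ * a₂⁻¹ ∈ Ab := by
        have := Subgroup.mul_mem _ (Subgroup.inv_mem _ h2) he.2
        have e2 : (a₁ * (b * c * b⁻¹) * a₁⁻¹)⁻¹ * (a₁ * (b * c * b⁻¹) * a₂⁻¹) = a₁ * a₂⁻¹ := by group
        rwa [e2] at this
      have h4 : a₁ * a₂⁻¹ ∈ D := ⟨Subgroup.mul_mem _ ha₁ (Subgroup.inv_mem _ ha₂), h3⟩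
      have e3 : a₁⁻¹ * a₂ = (a₁ * a₂⁻¹)⁻¹ := by
        have := hAab ha₂ a₁⁻¹ (Subgroup.inv_mem _ ha₁)
        rw [this]; group
      show a₁⁻¹ * a₂ ∈ D
      rw [e3]
      exact Subgroup.inv_mem _ h4
  refine ⟨A', mem_maxAbelian_of_card_ge A A' hA hA'ab hcard, ?_, ?_⟩
  · have hle : A ⊓ B ≤ A' ⊓ B := by
      refine le_inf ?_ inf_le_right
      refine le_trans ?_ (le_sup_right : D ≤ A')
      refine le_inf inf_le_left ?_
      intro x hx
      refine ⟨x, hx.1, ?_⟩
      have := hBab hx.2 b hbB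
      simp only [MulEquiv.coe_toMonoidHom, MulAut.conj_apply]
      rw [this]; group
    apply lt_of_le_not_ge hle
    intro hge
    apply hMA
    exact (le_inf (le_sup_left : M ≤ A') hMB).trans (hge.trans inf_le_left)
  · exact sup_le hMN (inf_le_left.trans Subgroup.le_normalizer)

end Cfsg.Agent.Lib.Helper5
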