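import Cfsg.Agent.Lib.Helper5.DStar
import Cfsg.Agent.Lib.Helper5.TR
import Cfsg.Agent.Lib.Helper5.YL2

set_option autoImplicit false
open Cfsg
open scoped Pointwise commutatorElement

namespace Cfsg.Agent.Lib.Helper5

variable {S : Type*} [Group S]

theorem dStarFamily_map_conj (A : Subgroup S) (g : S) (hA : A ∈ Cfsg.dStarFamily S) :
    A.map (MulAut.conj g).toMonoidHom ∈ Cfsg.dStarFamily S := by
  haveI := hA.1
  refine ⟨inferInstance, ?_⟩
  intro x hx a ha
  obtain ⟨a₀, ha₀, rfl⟩ := ha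
  set x₀ := g⁻¹ * x * g with hx₀
  have hmap : (A ⊔ Subgroup.zpowers x₀).map (MulAut.conj g).toMonoidHom =
      A.map (MulAut.conj g).toMonoidHom ⊔ Subgroup.zpowers x := by
    rw [Subgroup.map_sup, MonoidHom.map_zpowers]
    congr 2
    simp [hx₀, mul_assoc]
  have hc : ⁅⁅A ⊔ Subgroup.zpowers x₀, A ⊔ Subgroup.zpowers x₀⁆, A ⊔ Subgroup.zpowers x₀⁆ = ⊥ := by
    have hinj : Function.Injective (MulAut.conj g).toMonoidHom := (MulAut.conj g).injective
    rw [← Subgroup.map_eq_bot_iff_of_injective _ hinj, Subgroup.map_commutator,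
      Subgroup.map_commutator, hmap]
    exact hx
  have h1 := hA.2 x₀ hc a₀ ha₀
  simp only [MulEquiv.coe_toMonoidHom, MulAut.conj_apply]
  calc g * a₀ * g⁻¹ * x = g * (a₀ * x₀) * g⁻¹ := by rw [hx₀]; group
    _ = g * (x₀ * a₀) * g⁻¹ := by rw [h1]
    _ = x * (g * a₀ * g⁻¹) := by rw [hx₀]; group

theorem dStar_normal [Finite S] {p : ℕ} [Fact p.Prime] (hS : IsPGroup p S) : (Cfsg.dStar S).Normal := by
  have key : ∀ g : S, (Cfsg.dStar S).map (MulAut.conj g).toMonoidHom ≤ Cfsg.dStar S := by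
    intro g
    exact le_sSup (dStarFamily_map_conj _ g (dStar_mem_dStarFamily hS))
  constructor
  intro n hn g
  apply key g
  exact ⟨n, hn, by simp⟩

theorem center_mem_dStarFamily : Subgroup.center S ∈ Cfsg.dStarFamily S := by
  refine ⟨inferInstance, ?_⟩
  intro x _ a ha
  exact (Subgroup.mem_center_iff.mp ha x).symm

/-- `D*(S)` centralizes every abelian subgroup it normalizes. -/
theorem dStar_le_centralizer_of_le_normalizer [Finite S] {p : ℕ} [Fact p.Prime] (hS : IsPGroup p S)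
    (B : Subgroup S) (hBab : B ≤ Subgroup.centralizer (B : Set S))
    (hDB : Cfsg.dStar S ≤ Subgroup.normalizer (B : Set S)) :
    Cfsg.dStar S ≤ Subgroup.centralizer (B : Set S) := by
  have hD := dStar_mem_dStarFamily hS
  haveI hDn := dStar_normal hS
  set D := Cfsg.dStar S with hDdef
  have hDab : ∀ a ∈ D, ∀ b ∈ D, a * b = b * a := by
    intro a ha b hb
    have := hD.1
    rw [isMulCommutative_iff] at this
    exact congrArg Subtype.val (this ⟨a, ha⟩ ⟨b, hb⟩)
  intro a ha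
  rw [Subgroup.mem_centralizer_iff]
  intro x hxB
  have hzB : Subgroup.zpowers x ≤ B := by rw [Subgroup.zpowers_le]; exact hxB
  set T := D ⊔ Subgroup.zpowers x with hT
  have hcl : ⁅⁅D ⊔ Subgroup.zpowers x, D ⊔ Subgroup.zpowers x⁆, D ⊔ Subgroup.zpowers x⁆ = ⊥ := by
    apply class_two_of_central_commutators T D x le_sup_left
      (Subgroup.mem_sup_right (Subgroup.mem_zpowers x)) hDab
    intro t ht
    have hzN : Subgroup.zpowers x ≤ Subgroup.normalizer (D : Set S) := by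
      rw [Subgroup.normalizer_eq_top]; exact le_top
    rw [hT, sup_comm, mem_sup_of_le_normalizer (Subgroup.zpowers x) D hzN] at ht
    obtain ⟨y, hy, d, hd, rfl⟩ := ht
    have hxy : ⁅x, y⁆ = 1 := by
      rw [commutatorElement_eq_one_iff_mul_comm]
      obtain ⟨k, rfl⟩ := Subgroup.mem_zpowers_iff.mp hy
      exact (Commute.zpow_right (Commute.refl x) k).eq
    have hcD : ⁅x, d⁆ ∈ D := by
      rw [commutatorElement_def]
      exact Subgroup.mul_mem _ (hDn.conj_mem d hd x) (Subgroup.inv_mem _ hd)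
    have hcB : ⁅x, d⁆ ∈ B := by
      rw [commutatorElement_def]
      have h1 : d * x⁻¹ * d⁻¹ ∈ B :=
        (Subgroup.mem_normalizer_iff.mp (hDB hd) x⁻¹).mp (Subgroup.inv_mem _ hxB)
      have e : x * d * x⁻¹ * d⁻¹ = x * (d * x⁻¹ * d⁻¹) := by group
      rw [e]
      exact Subgroup.mul_mem _ hxB h1
    have hyc : y * ⁅x, d⁆ * y⁻¹ = ⁅x, d⁆ := by
      have := hBab (hzB hy) _ hcB
      rw [← this]; group
    have e2 : ⁅x, y * d⁆ = ⁅x, d⁆ := by
      rw [commutatorElement_mul_right_eq_mul_conj, hxy, one_mul, hyc]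
    rw [e2, hT, centralizer_sup_eq]
    refine ⟨?_, ?_⟩
    · apply Subgroup.mem_centralizer_iff.mpr
      intro d' hd'
      exact hDab d' hd' _ hcD
    · exact Subgroup.centralizer_le hzB (hBab hcB)
  exact (hD.2 x hcl a ha).symm

/-- `D*(S)` lies in every abelian subgroup of largest order. -/
theorem dStar_le_of_mem_maxAbelian [Finite S] {p : ℕ} [Fact p.Prime] (hS : IsPGroup p S)
    (A : Subgroup S) (hA : A ∈ Cfsg.maxAbelianSubgroups S) : Cfsg.dStar S ≤ A := by
  classical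
  have hD := dStar_mem_dStarFamily hS
  haveI hDn := dStar_normal hS
  set D := Cfsg.dStar S with hDdef
  have hDab : D ≤ Subgroup.centralizer (D : Set S) := (isMulCommutative_iff_le_centralizer D).mp hD.1
  by_contra hcon
  haveI : Nonempty {A : Subgroup S // A ∈ Cfsg.maxAbelianSubgroups S ∧ ¬ D ≤ A} := ⟨⟨A, hA, hcon⟩⟩
  obtain ⟨⟨A₀, hA₀, hA₀D⟩, hmax⟩ := Finite.exists_max
    (fun X : {A : Subgroup S // A ∈ Cfsg.maxAbelianSubgroups S ∧ ¬ D ≤ A} => Nat.card ↥(X.1 ⊓ D))
  have hA₀ab : A₀ ≤ Subgroup.centralizer (A₀ : Set S) := (isMulCommutative_iff_le_centralizer A₀).mp hA₀.1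
  by_cases hN : D ≤ Subgroup.normalizer (A₀ : Set S)
  · apply hA₀D
    have := dStar_le_centralizer_of_le_normalizer hS A₀ hA₀ab hN
    rwa [centralizer_eq_of_mem_maxAbelian A₀ hA₀] at this
  · obtain ⟨A', hA', hlt, hA'N⟩ := thompson_replacement hS A₀ D hA₀ hDab hN
    by_cases hDA' : D ≤ A'
    · exact hN (hDA'.trans hA'N)
    · have h1 := hmax ⟨A', hA', hDA'⟩
      simp only at h1
      have h2 := Subgroup.eq_of_le_of_card_ge hlt.le h1
      exact (ne_of_lt hlt) h2

end Cfsg.Agent.Lib.Helper5
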