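import Mathlib

set_option autoImplicit false

namespace Cfsg.Agent.Lib.Helper5

section Disc

variable {F : Type*} [Field F]

theorem isSquare_sq_mul_iff {t d : F} (ht : t ≠ 0) : IsSquare (t ^ 2 * d) ↔ IsSquare d := by
  constructor
  · rintro ⟨r, hr⟩
    refine ⟨r / t, ?_⟩
    field_simp
    linear_combination hr
  · rintro ⟨r, hr⟩
    refine ⟨t * r, ?_⟩
    rw [hr]; ring

/-- The Gram determinant of a symmetric matrix form in an arbitrary basis. -/
theorem det_gram_basis {κ ι : Type*} [Fintype κ] [DecidableEq κ] [Fintype ι] [DecidableEq ι]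
    (S : Matrix κ κ F) (b : Module.Basis ι F (κ → F)) :
    ∃ t : F, t ≠ 0 ∧
      (Matrix.of (fun i j : ι => b i ⬝ᵥ S.mulVec (b j))).det = t ^ 2 * S.det := by
  have hcard : Fintype.card ι = Fintype.card κ := by
    rw [← Module.finrank_eq_card_basis b, Module.finrank_fintype_fun_eq_card]
  let e : ι ≃ κ := Fintype.equivOfCardEq hcard
  let T : Matrix κ κ F := fun a k => b (e.symm k) a
  have hT : T = (Pi.basisFun F κ).toMatrix (b.reindex e) := by
    ext a k
    rw [Module.Basis.toMatrix_apply, Module.Basis.reindex_apply]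
    simp [T]
  have hTdet : T.det ≠ 0 := by
    have h1 := Module.Basis.toMatrix_mul_toMatrix_flip (Pi.basisFun F κ) (b.reindex e)
    rw [← hT] at h1
    intro h0
    have := congrArg Matrix.det h1
    rw [Matrix.det_mul, h0, zero_mul, Matrix.det_one] at this
    exact zero_ne_one this
  have hG : T.transpose * S * T
      = (Matrix.of (fun i j : ι => b i ⬝ᵥ S.mulVec (b j))).submatrix e.symm e.symm := by
    ext k l
    rw [Matrix.submatrix_apply, Matrix.of_apply, Matrix.dotProduct_mulVec, Matrix.mul_apply]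
    apply Finset.sum_congr rfl
    intro c _
    rw [Matrix.mul_apply]
    rfl
  refine ⟨T.det, hTdet, ?_⟩
  rw [← Matrix.det_submatrix_equiv_self e.symm, ← hG, Matrix.det_mul, Matrix.det_mul,
    Matrix.det_transpose]
  ring

theorem det_hyp (m : ℕ) :
    (Matrix.fromBlocks (0 : Matrix (Fin m) (Fin m) F) (1 : Matrix (Fin m) (Fin m) F)
      (1 : Matrix (Fin m) (Fin m) F) (0 : Matrix (Fin m) (Fin m) F)).det = (-1) ^ m := by
  have h : Matrix.fromBlocks (0 : Matrix (Fin m) (Fin m) F) (1 : Matrix (Fin m) (Fin m) F)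
      (1 : Matrix (Fin m) (Fin m) F) (0 : Matrix (Fin m) (Fin m) F)
      = Matrix.fromBlocks (1 : Matrix (Fin m) (Fin m) F) (-1 : Matrix (Fin m) (Fin m) F)
          (0 : Matrix (Fin m) (Fin m) F) (1 : Matrix (Fin m) (Fin m) F)
        * (Matrix.fromBlocks (1 : Matrix (Fin m) (Fin m) F) (0 : Matrix (Fin m) (Fin m) F)
            (1 : Matrix (Fin m) (Fin m) F) (1 : Matrix (Fin m) (Fin m) F)
          * Matrix.fromBlocks (1 : Matrix (Fin m) (Fin m) F) (1 : Matrix (Fin m) (Fin m) F)
            (0 : Matrix (Fin m) (Fin m) F) (-1 : Matrix (Fin m) (Fin m) F)) := by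
    rw [Matrix.fromBlocks_multiply, Matrix.fromBlocks_multiply]
    simp
  rw [h, Matrix.det_mul, Matrix.det_mul, Matrix.det_fromBlocks_zero₂₁,
    Matrix.det_fromBlocks_zero₁₂, Matrix.det_fromBlocks_zero₂₁, Matrix.det_neg]
  simp

theorem isSquare_neg_one_pow_iff [Fintype F] {q : ℕ} (hF : Fintype.card F = q) (hq : Odd q)
    (m : ℕ) : IsSquare ((-1 : F) ^ m) ↔ Even (m * (q - 1) / 2) := by
  obtain ⟨t, ht⟩ := hq
  have h1 : m * (q - 1) / 2 = m * t := by
    rw [ht, Nat.add_sub_cancel, ← mul_assoc, mul_comm m 2, mul_assoc, Nat.mul_div_cancel_left _ two_pos]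
  rw [h1, Nat.even_mul]
  rcases Nat.even_or_odd m with hm | hm
  · rw [hm.neg_one_pow]
    exact ⟨fun _ => Or.inl hm, fun _ => ⟨1, by simp⟩⟩
  · rw [hm.neg_one_pow, FiniteField.isSquare_neg_one_iff, hF]
    have hnm : ¬ Even m := Nat.not_even_iff_odd.2 hm
    constructor
    · intro h
      right
      rcases Nat.even_or_odd t with he | ho
      · exact he
      · exfalso
        obtain ⟨s, hs⟩ := ho
        omega
    · rintro (h | h)
      · exact absurd h hnm
      · obtain ⟨s, hs⟩ := h
        omega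

end Disc

end Cfsg.Agent.Lib.Helper5
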