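import Mathlib
import Cfsg.Agent.Lib.Helper5.Basic

set_option autoImplicit false

namespace Cfsg.Agent.Lib.Helper5

open MulAction Subgroup Function

section FlavellSec
variable {G : Type*} [Group G]

/-- Transfer evaluation: if the only contribution comes from the trivial coset, the transfer
restricted to `M` is `ϕ`. -/
theorem transfer_eq_self_of_tame [Finite G] {A : Type*} [CommGroup A]
    (M : Subgroup G) (ϕ : M →* A)
    (htame : ∀ t : G, t ∉ M → ∀ y : G, y ∈ M → ∀ h : t⁻¹ * y * t ∈ M, ϕ ⟨t⁻¹ * y * t, h⟩ = 1)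
    (g : G) (hg : g ∈ M) : MonoidHom.transfer ϕ g = ϕ ⟨g, hg⟩ := by
  classical
  haveI : Fintype (orbitRel.Quotient (zpowers g) (G ⧸ M)) := Fintype.ofFinite _
  rw [MonoidHom.transfer_eq_prod_quotient_orbitRel_zpowers_quot ϕ g]
  have key : ∀ (k : ℕ) (t : G) (h : t⁻¹ * g ^ k * t ∈ M), k = 1 → t ∈ M →
      ϕ ⟨t⁻¹ * g ^ k * t, h⟩ = ϕ ⟨g, hg⟩ := by
    intro k t h hk ht
    subst hk
    have h3 : (⟨t⁻¹ * g ^ 1 * t, h⟩ : M) = (⟨t, ht⟩ : M)⁻¹ * ⟨g, hg⟩ * ⟨t, ht⟩ := by
      ext; simp
    rw [h3, map_mul, map_mul, map_inv, mul_comm, mul_inv_cancel_left]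
  have hfix : ∀ z : zpowers g, z • (((1 : G) : G ⧸ M)) = ((1 : G) : G ⧸ M) := by
    intro z
    have hz : (z : G) ∈ M := (zpowers_le.mpr hg) z.2
    have h0 : z • (((1 : G) : G ⧸ M)) = (((z : G) * 1 : G) : G ⧸ M) := rfl
    rw [h0, QuotientGroup.eq]
    simpa using hz
  set q₀ : orbitRel.Quotient (zpowers g) (G ⧸ M) := Quotient.mk'' ((1 : G) : G ⧸ M) with hq₀
  have hq₀out : q₀.out = ((1 : G) : G ⧸ M) := by
    have h1 : (Quotient.mk'' q₀.out : orbitRel.Quotient (zpowers g) (G ⧸ M)) =
        Quotient.mk'' ((1 : G) : G ⧸ M) := Quotient.out_eq' q₀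
    have h2 := Quotient.exact' h1
    change q₀.out ∈ orbit (zpowers g) ((1 : G) : G ⧸ M) at h2
    obtain ⟨z, hz⟩ := h2
    rw [← hz]
    exact hfix z
  rw [Fintype.prod_eq_single q₀]
  · apply key
    · rw [hq₀out]
      apply minimalPeriod_eq_one_iff_isFixedPt.mpr
      have := hfix ⟨g, mem_zpowers g⟩
      exact this
    · have h1 : ((q₀.out.out : G) : G ⧸ M) = ((1 : G) : G ⧸ M) := by
        rw [QuotientGroup.out_eq', hq₀out]
      rw [QuotientGroup.eq] at h1
      have := M.inv_mem h1
      simpa using this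
  · intro q hq
    apply htame
    · intro hmem
      apply hq
      have h1 : q.out = ((1 : G) : G ⧸ M) := by
        rw [← QuotientGroup.out_eq' q.out, QuotientGroup.eq]
        simpa using M.inv_mem hmem
      rw [hq₀, ← h1]
      exact (Quotient.out_eq' q).symm
    · exact M.pow_mem hg _

/-- From tameness and a commutative quotient `M/H`, a normal subgroup `N` of `G` with
`N ⊓ M = H` containing all commutators. -/
theorem exists_normal_inf_eq_of_tame [Finite G] (H M : Subgroup G) (hHM : H ≤ M)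
    [hn : (H.subgroupOf M).Normal]
    (hcomm : ∀ x y : M ⧸ H.subgroupOf M, x * y = y * x)
    (htame : ∀ t : G, t ∉ M → ∀ y : G, y ∈ M → t⁻¹ * y * t ∈ M → t⁻¹ * y * t ∈ H) :
    ∃ N : Subgroup G, N.Normal ∧ N ⊓ M = H ∧ (∀ a b : G, a * b * a⁻¹ * b⁻¹ ∈ N) := by
  classical
  letI : CommGroup (M ⧸ H.subgroupOf M) :=
    { (inferInstance : Group (M ⧸ H.subgroupOf M)) with mul_comm := hcomm }
  let ϕ : M →* M ⧸ H.subgroupOf M := QuotientGroup.mk' (H.subgroupOf M)
  have hker : ∀ (y : G) (hy : y ∈ M), ϕ ⟨y, hy⟩ = 1 ↔ y ∈ H := by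
    intro y hy
    show (QuotientGroup.mk (⟨y, hy⟩ : M) : M ⧸ H.subgroupOf M) = 1 ↔ _
    rw [QuotientGroup.eq_one_iff, Subgroup.mem_subgroupOf]
  have hV : ∀ (g : G) (hg : g ∈ M), MonoidHom.transfer ϕ g = ϕ ⟨g, hg⟩ := by
    intro g hg
    apply transfer_eq_self_of_tame
    intro t ht y hy h
    rw [hker]
    exact htame t ht y hy h
  refine ⟨(MonoidHom.transfer ϕ).ker, inferInstance, ?_, ?_⟩
  · ext g
    rw [Subgroup.mem_inf, MonoidHom.mem_ker]
    constructor
    · rintro ⟨h1, h2⟩
      rw [hV g h2, hker] at h1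
      exact h1
    · intro h
      refine ⟨?_, hHM h⟩
      rw [hV g (hHM h), hker]; exact h
  · intro a b
    rw [MonoidHom.mem_ker]
    simp only [map_mul, map_inv]
    rw [mul_comm (MonoidHom.transfer ϕ a) (MonoidHom.transfer ϕ b), mul_inv_cancel_right,
      mul_inv_cancel]

theorem mem_normalizer_sup' (A B : Subgroup G) (x : G) (hA : x ∈ Subgroup.normalizer (A : Set G))
    (hB : x ∈ Subgroup.normalizer (B : Set G)) :
    x ∈ Subgroup.normalizer ((A ⊔ B : Subgroup G) : Set G) := by
  rw [mem_normalizer_iff_map_conj] at hA hB ⊢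
  rw [Subgroup.map_sup, hA, hB]

theorem coatom_subgroupOf_cases {H M : Subgroup G} (hmaxH : IsCoatom (H.subgroupOf M))
    (K : Subgroup G) (hHK : H ≤ K) (hKM : K ≤ M) : K = H ∨ K = M := by
  have hle : H.subgroupOf M ≤ K.subgroupOf M := by
    intro x hx
    rw [Subgroup.mem_subgroupOf] at hx ⊢
    exact hHK hx
  rcases hmaxH.le_iff.mp hle with h | h
  · right
    rw [Subgroup.subgroupOf_eq_top] at h
    exact le_antisymm hKM h
  · left
    rw [Subgroup.subgroupOf_inj] at h
    have hHM : H ≤ M := hHK.trans hKM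
    rw [inf_eq_left.mpr hKM, inf_eq_left.mpr hHM] at h
    exact h

theorem map_conj_eq_of_le [Finite G] (H : Subgroup G) (t : G)
    (h : H.map (MulAut.conj t).toMonoidHom ≤ H) : H.map (MulAut.conj t).toMonoidHom = H := by
  apply Subgroup.eq_of_le_of_card_ge h
  rw [Subgroup.card_map_of_injective (MulAut.conj t).injective]

theorem map_conj_eq_of_ge [Finite G] (H : Subgroup G) (t : G)
    (h : H ≤ H.map (MulAut.conj t).toMonoidHom) : H.map (MulAut.conj t).toMonoidHom = H := by
  symm
  apply Subgroup.eq_of_le_of_card_ge h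
  rw [Subgroup.card_map_of_injective (MulAut.conj t).injective]

/-- The key dichotomy: if `D = M ⊓ M^t` is not inside `H` then `H ⊔ H^t` is normalized by a
subgroup containing `M`. -/
theorem le_normalizer_sup_conj {H M : Subgroup G} (hHM : H ≤ M)
    (hMN : M ≤ Subgroup.normalizer (H : Set G))
    (hmaxH : IsCoatom (H.subgroupOf M)) (t : G)
    (hD : ¬ (M ⊓ M.map (MulAut.conj t).toMonoidHom ≤ H)) :
    M ≤ Subgroup.normalizer ((H ⊔ H.map (MulAut.conj t).toMonoidHom : Subgroup G) : Set G) := by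
  have hDn : M ⊓ M.map (MulAut.conj t).toMonoidHom ≤
      Subgroup.normalizer ((H ⊔ H.map (MulAut.conj t).toMonoidHom : Subgroup G) : Set G) := by
    intro d hd
    apply mem_normalizer_sup'
    · exact hMN hd.1
    · rw [normalizer_map_conj]
      exact Subgroup.map_mono hMN hd.2
  have hHD : H ⊔ (M ⊓ M.map (MulAut.conj t).toMonoidHom) = M := by
    rcases coatom_subgroupOf_cases hmaxH (H ⊔ (M ⊓ M.map (MulAut.conj t).toMonoidHom))
      le_sup_left (sup_le hHM inf_le_left) with h | h
    · exfalso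
      apply hD
      rw [← h]
      exact le_sup_right
    · exact h
  rw [← hHD]
  apply sup_le
  · exact le_sup_left.trans Subgroup.le_normalizer
  · exact hDn

theorem flavell_normal [Finite G] (H M : Subgroup G) (hHM : H ≤ M)
    (hcl : ∀ g : G, (H ⊔ H.map (MulAut.conj g).toMonoidHom) ⊓ M = H)
    (hmaxH : IsCoatom (H.subgroupOf M)) (hmaxM : IsCoatom M) :
    ∃ N : Subgroup G, N.Normal ∧ H ≤ N ∧ N ⊓ M = H := by
  classical
  have hstep : ∀ m ∈ M, H.map (MulAut.conj m).toMonoidHom ≤ H := by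
    intro m hm
    have h1 : H.map (MulAut.conj m).toMonoidHom ≤ M := by
      rintro _ ⟨x, hx, rfl⟩
      simp only [MulEquiv.coe_toMonoidHom, MulAut.conj_apply]
      exact M.mul_mem (M.mul_mem hm (hHM hx)) (M.inv_mem hm)
    have h2 := hcl m
    rw [inf_eq_left.mpr (sup_le hHM h1)] at h2
    exact le_sup_right.trans h2.le
  have hMN : M ≤ Subgroup.normalizer (H : Set G) := by
    intro m hm
    apply mem_normalizer_of_map_conj_le
    · exact hstep m hm
    · exact hstep m⁻¹ (M.inv_mem hm)
  by_cases hHn : H.Normal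
  · exact ⟨H, hHn, le_refl _, inf_eq_left.mpr hHM⟩
  have hNM : Subgroup.normalizer (H : Set G) = M := by
    rcases eq_or_lt_of_le hMN with h | h
    · exact h.symm
    · exfalso; apply hHn; exact Subgroup.normalizer_eq_top_iff.mp (hmaxM.2 _ h)
  by_cases hX : ∃ t : G, t ∉ M ∧ ¬ (M ⊓ M.map (MulAut.conj t).toMonoidHom ≤ H)
  · obtain ⟨t, htM, hD⟩ := hX
    have h1 := le_normalizer_sup_conj hHM hMN hmaxH t hD
    have h2 : ¬ (H.map (MulAut.conj t).toMonoidHom ≤ M) := by
      intro h3
      have h4 := hcl t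
      rw [inf_eq_left.mpr (sup_le hHM h3)] at h4
      have h5 : H.map (MulAut.conj t).toMonoidHom ≤ H := le_sup_right.trans h4.le
      have h6 := map_conj_eq_of_le H t h5
      apply htM
      rw [← hNM, mem_normalizer_iff_map_conj]
      exact h6
    have h3 : Subgroup.normalizer
        ((H ⊔ H.map (MulAut.conj t).toMonoidHom : Subgroup G) : Set G) = ⊤ := by
      rcases eq_or_lt_of_le h1 with h | h
      · exfalso
        apply h2
        rw [h]
        exact le_sup_right.trans Subgroup.le_normalizer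
      · exact hmaxM.2 _ h
    exact ⟨H ⊔ H.map (MulAut.conj t).toMonoidHom, Subgroup.normalizer_eq_top_iff.mp h3,
      le_sup_left, hcl t⟩
  · have hX' : ∀ t : G, t ∉ M → M ⊓ M.map (MulAut.conj t).toMonoidHom ≤ H := by
      intro t ht
      by_contra h
      exact hX ⟨t, ht, h⟩
    haveI hn : (H.subgroupOf M).Normal := (Subgroup.normal_subgroupOf_iff_le_normalizer hHM).mpr hMN
    -- the quotient is cyclic
    have hcomm : ∀ x y : M ⧸ H.subgroupOf M, x * y = y * x := by
      obtain ⟨c, hc⟩ : ∃ c : M, c ∉ H.subgroupOf M := by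
        by_contra h
        apply hmaxH.1
        rw [eq_top_iff]
        intro x _
        by_contra hx
        exact h ⟨x, hx⟩
      have hall : ∀ x : M ⧸ H.subgroupOf M,
          x ∈ Subgroup.zpowers (QuotientGroup.mk c : M ⧸ H.subgroupOf M) := by
        have h1 : H.subgroupOf M ≤
            (Subgroup.zpowers (QuotientGroup.mk c : M ⧸ H.subgroupOf M)).comap
              (QuotientGroup.mk' (H.subgroupOf M)) := by
          intro x hx
          rw [Subgroup.mem_comap]
          have : (QuotientGroup.mk' (H.subgroupOf M)) x = 1 := by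
            rw [QuotientGroup.mk'_apply, QuotientGroup.eq_one_iff]; exact hx
          rw [this]
          exact Subgroup.one_mem _
        have h2 : (Subgroup.zpowers (QuotientGroup.mk c : M ⧸ H.subgroupOf M)).comap
              (QuotientGroup.mk' (H.subgroupOf M)) = ⊤ := by
          rcases hmaxH.le_iff.mp h1 with h | h
          · exact h
          · exfalso
            apply hc
            rw [← h, Subgroup.mem_comap]
            exact Subgroup.mem_zpowers _
        intro x
        obtain ⟨m, rfl⟩ := QuotientGroup.mk'_surjective (H.subgroupOf M) x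
        have : m ∈ (Subgroup.zpowers (QuotientGroup.mk c : M ⧸ H.subgroupOf M)).comap
              (QuotientGroup.mk' (H.subgroupOf M)) := by rw [h2]; trivial
        exact this
      intro x y
      obtain ⟨i, rfl⟩ := Subgroup.mem_zpowers_iff.mp (hall x)
      obtain ⟨j, rfl⟩ := Subgroup.mem_zpowers_iff.mp (hall y)
      rw [← zpow_add, ← zpow_add, add_comm]
    obtain ⟨N, hN, hNM', -⟩ := exists_normal_inf_eq_of_tame H M hHM hcomm (by
      intro t ht y hy hy'
      apply hX' t⁻¹ (fun h => ht (by simpa using M.inv_mem h))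
      refine Subgroup.mem_inf.mpr ⟨hy', ?_⟩
      rw [mem_map_conj_iff]
      simpa [mul_assoc] using hy)
    refine ⟨N, hN, ?_, hNM'⟩
    rw [← hNM']
    exact inf_le_left

end FlavellSec

end Cfsg.Agent.Lib.Helper5
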