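import Mathlib
import Cfsg.Agent.S0752

set_option autoImplicit false

namespace Cfsg.Agent.Lib.Helper5

/-- A finite field of order `q²` is a quadratic extension of a finite field of order `q`. -/
theorem exists_algebra_of_card_sq {F K : Type*} [Field F] [Fintype F] [Field K] [Fintype K]
    (h : Fintype.card K = Fintype.card F ^ 2) :
    ∃ (_ : Algebra F K), Module.finrank F K = 2 := by
  obtain ⟨p, hpF, n, hp, hcF⟩ := FiniteField.card' (K := F)
  obtain ⟨p', hpK, n', hp', hcK⟩ := FiniteField.card' (K := K)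
  have hpp : p' = p := by
    have h1 : p' ∣ p ^ ((n : ℕ) * 2) := by
      rw [pow_mul, ← hcF, ← h, hcK]
      exact dvd_pow_self p' n'.ne_zero
    exact (Nat.prime_dvd_prime_iff_eq hp' hp).mp (hp'.dvd_of_dvd_pow h1)
  subst hpp
  haveI : Fact p'.Prime := ⟨hp⟩
  haveI := hpF
  haveI := hpK
  letI : Algebra (ZMod p') F := ZMod.algebra F p'
  letI : Algebra (ZMod p') K := ZMod.algebra K p'
  have hfF := FiniteField.pow_finrank_eq_card p' F
  have hfK := FiniteField.pow_finrank_eq_card p' K
  have hdvd : Module.finrank (ZMod p') F ∣ Module.finrank (ZMod p') K := by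
    refine ⟨2, ?_⟩
    apply Nat.pow_right_injective hp.two_le
    show p' ^ _ = p' ^ _
    rw [hfK, h, ← hfF, ← pow_mul]
  obtain ⟨φ⟩ := FiniteField.nonempty_algHom_of_finrank_dvd (F := ZMod p') (K := F) (L := K) hdvd
  letI : Algebra F K := φ.toRingHom.toAlgebra
  refine ⟨inferInstance, ?_⟩
  have h2 := Module.card_eq_pow_finrank (K := F) (V := K)
  rw [h] at h2
  have h1F : 2 ≤ Fintype.card F := Fintype.one_lt_card
  exact (Nat.pow_right_injective h1F h2).symm

section
variable {F W G : Type*} [Field F] [AddCommGroup W] [Module F W] [FiniteDimensional F W] [Group G]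

/-- A group acting faithfully by isometries of a non-degenerate alternating form of dimension `2N`
embeds in `Sp_{2N}(F)`. -/
theorem exists_embedding_symplectic (B : LinearMap.BilinForm F W) (hB : B.Nondegenerate)
    (hA : B.IsAlt) {N : ℕ} (hdim : Module.finrank F W = 2 * N)
    (ρ : G →* (W ≃ₗ[F] W)) (hρ : Function.Injective ρ)
    (hpres : ∀ g u v, B (ρ g u) (ρ g v) = B u v) :
    ∃ φ : G →* Matrix.symplecticGroup (Fin N) F, Function.Injective φ := by
  classical
  obtain ⟨m, k, b, h1, h2, h3, h4⟩ := Cfsg.Agent.S0752.result B hA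
  have hk : k = 0 := by
    by_contra hk
    have hpos : 0 < k := Nat.pos_of_ne_zero hk
    have := b.ne_zero (Sum.inr ⟨0, hpos⟩)
    exact this (hB.1 _ (h4 _))
  subst hk
  have hm : m = N := by
    have := Module.finrank_eq_card_basis b
    rw [hdim, Fintype.card_sum, Fintype.card_sum, Fintype.card_fin, Fintype.card_fin] at this
    omega
  subst hm
  let b' : Module.Basis (Fin m ⊕ Fin m) F W := b.reindex (Equiv.sumEmpty (Fin m ⊕ Fin m) (Fin 0))
  have hb' : ∀ s, b' s = b (Sum.inl s) := by
    intro s
    simp [b']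
  have hG : LinearMap.BilinForm.toMatrix b' B = -Matrix.J (Fin m) F := by
    ext s t
    rw [LinearMap.BilinForm.toMatrix_apply, hb', hb']
    rcases s with i | i <;> rcases t with j | j
    · rw [h2]; simp [Matrix.J]
    · rw [h1]; simp [Matrix.J, Matrix.one_apply]
    · rw [← hA.neg_eq, h1]; simp [Matrix.J, Matrix.one_apply, eq_comm]
    · rw [h3]; simp [Matrix.J]
  have hmem : ∀ g : G, LinearMap.toMatrix b' b' (ρ g : W →ₗ[F] W) ∈ Matrix.symplecticGroup (Fin m) F := by
    intro g
    rw [SymplecticGroup.mem_iff']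
    have hcomp : B.comp (ρ g : W →ₗ[F] W) (ρ g : W →ₗ[F] W) = B := by
      ext u v
      exact hpres g u v
    have := LinearMap.BilinForm.toMatrix_comp b' b' B (ρ g : W →ₗ[F] W) (ρ g : W →ₗ[F] W)
    rw [hcomp, hG] at this
    have h5 : -((LinearMap.toMatrix b' b' (ρ g : W →ₗ[F] W)).transpose * Matrix.J (Fin m) F *
        LinearMap.toMatrix b' b' (ρ g : W →ₗ[F] W)) = -Matrix.J (Fin m) F := by
      rw [this, Matrix.mul_neg, Matrix.neg_mul]
    exact (neg_injective h5)
  refine ⟨{ toFun := fun g => ⟨LinearMap.toMatrix b' b' (ρ g : W →ₗ[F] W), hmem g⟩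
            map_one' := ?_
            map_mul' := ?_ }, ?_⟩
  · apply Subtype.ext
    simp
  · intro g g'
    apply Subtype.ext
    simp only [map_mul, Submonoid.coe_mul]
    rw [← LinearMap.toMatrix_mul]
    rfl
  · intro g g' hgg
    apply hρ
    have h6 := congrArg Subtype.val hgg
    simp only [MonoidHom.coe_mk, OneHom.coe_mk] at h6
    have h7 := (LinearMap.toMatrix b' b').injective h6
    exact LinearEquiv.toLinearMap_injective h7

end

end Cfsg.Agent.Lib.Helper5
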