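import Mathlib
import Cfsg.Prelude.Def_Classical
import Cfsg.Prelude.Def_LieClassical
import Cfsg.Agent.Lib.Helper5.SpEmbed

set_option autoImplicit false

namespace Cfsg.Agent.Lib.Helper5

section
variable {F W G : Type*} [Field F] [AddCommGroup W] [Module F W] [Group G]

/-- A group acting faithfully by isometries of `Q`, where `(W, Q)` is isometric to the standard
space `(ι → F, Qstd)`, embeds in the isometry group of `Qstd`. -/
theorem exists_embedding_isometryGroup {ι : Type} [Fintype ι] [DecidableEq ι]
    (Q : W → F) (Qstd : (ι → F) → F)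
    (e : W ≃ₗ[F] (ι → F)) (he : ∀ v, Q v = Qstd (e v))
    (ρ : G →* (W ≃ₗ[F] W)) (hρ : Function.Injective ρ) (hpres : ∀ g v, Q (ρ g v) = Q v) :
    ∃ φ : G →* Cfsg.isometryGroup F Qstd, Function.Injective φ := by
  let T : G → ((ι → F) →ₗ[F] (ι → F)) := fun g =>
    e.toLinearMap ∘ₗ (ρ g).toLinearMap ∘ₗ e.symm.toLinearMap
  have hT_apply : ∀ g x, T g x = e (ρ g (e.symm x)) := fun g x => rfl
  have hT_mul : ∀ g g', T (g * g') = T g ∘ₗ T g' := by
    intro g g'
    apply LinearMap.ext
    intro x
    show e (ρ (g * g') (e.symm x)) = e (ρ g (e.symm (e (ρ g' (e.symm x)))))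
    rw [map_mul, LinearEquiv.symm_apply_apply]
    rfl
  have hT_one : T 1 = LinearMap.id := by
    apply LinearMap.ext
    intro x
    show e (ρ 1 (e.symm x)) = x
    rw [map_one]
    exact e.apply_symm_apply x
  have hinv : ∀ g g', g * g' = 1 → LinearMap.toMatrix' (T g) * LinearMap.toMatrix' (T g') = 1 := by
    intro g g' h
    rw [← LinearMap.toMatrix'_comp, ← hT_mul, h, hT_one, LinearMap.toMatrix'_id]
  let A : G → Matrix.GeneralLinearGroup ι F := fun g =>
    ⟨LinearMap.toMatrix' (T g), LinearMap.toMatrix' (T g⁻¹), hinv g g⁻¹ (mul_inv_cancel g),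
      hinv g⁻¹ g (inv_mul_cancel g)⟩
  have hA_val : ∀ g, ((A g : Matrix.GeneralLinearGroup ι F) : Matrix ι ι F) =
      LinearMap.toMatrix' (T g) := fun g => rfl
  have hmem : ∀ g, A g ∈ Cfsg.isometryGroup F Qstd := by
    intro g
    show ∀ u v : ι → F, Qstd (((A g : Matrix.GeneralLinearGroup ι F) : Matrix ι ι F).mulVec u) = Qstd u
    intro u _
    rw [hA_val, LinearMap.toMatrix'_mulVec, hT_apply, ← he, hpres, he, LinearEquiv.apply_symm_apply]
  refine ⟨MonoidHom.mk' (fun g => ⟨A g, hmem g⟩) ?_, ?_⟩
  · intro g g'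
    apply Subtype.ext
    apply Units.ext
    show LinearMap.toMatrix' (T (g * g')) = LinearMap.toMatrix' (T g) * LinearMap.toMatrix' (T g')
    rw [hT_mul, LinearMap.toMatrix'_comp]
  · intro g g' h
    apply hρ
    have h1 : LinearMap.toMatrix' (T g) = LinearMap.toMatrix' (T g') := by
      have := congrArg (fun x : Cfsg.isometryGroup F Qstd =>
        ((x : Matrix.GeneralLinearGroup ι F) : Matrix ι ι F)) h
      exact this
    have h2 : T g = T g' := LinearMap.toMatrix'.injective h1
    apply LinearEquiv.ext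
    intro w
    have h3 := congrArg (fun L : (ι → F) →ₗ[F] (ι → F) => L (e w)) h2
    simp only [hT_apply, LinearEquiv.symm_apply_apply] at h3
    exact e.injective h3

end

/-- The quadratic space over `F` attached to the standard hermitian form on `K^m`,
together with the action of the unitary group. -/
theorem gu_quadratic_setup {K F : Type*} [Field K] [Fintype K] [Field F] [Fintype F]
    (hK : Fintype.card K = Fintype.card F ^ 2) (m : ℕ) :
    ∃ (_ : Algebra F K) (σ : K ≃ₐ[F] K) (Q : QuadraticForm F (Fin m → K))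
      (ρ : ↥(Cfsg.GU m K (Fintype.card F)) →* ((Fin m → K) ≃ₗ[F] (Fin m → K))),
      Module.finrank F K = 2 ∧ (∀ x, σ x = x ^ Fintype.card F) ∧ (∀ x, σ (σ x) = x) ∧
      (QuadraticMap.polarBilin Q).Nondegenerate ∧ Function.Injective ρ ∧
      (∀ g v, Q (ρ g v) = Q v) ∧
      (∀ u, algebraMap F K (Q u) = ∑ i, u i * σ (u i)) := by
  classical
  obtain ⟨_i, hfr⟩ := exists_algebra_of_card_sq (F := F) (K := K) hK
  have hsep : ∀ x : K, (∀ c : K, Algebra.trace F K (c * x) = 0) → x = 0 := by
    intro x hx
    exact (traceForm_nondegenerate F K).2 x (fun c => hx c)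
  obtain ⟨σ, hσdef⟩ : ∃ σ : K ≃ₐ[F] K, σ = FiniteField.frobeniusAlgEquivOfAlgebraic F K := ⟨_, rfl⟩
  have hσapply : ∀ x : K, σ x = x ^ Fintype.card F := by
    intro x; rw [hσdef]; rfl
  have hσord : orderOf σ = 2 := by
    rw [hσdef, FiniteField.orderOf_frobeniusAlgEquivOfAlgebraic, hfr]
  have hσσ : ∀ x : K, σ (σ x) = x := by
    intro x
    have h2 : σ ^ 2 = 1 := by rw [← hσord]; exact pow_orderOf_eq_one σ
    have := congrArg (fun τ : K ≃ₐ[F] K => τ x) h2
    simpa [pow_two, AlgEquiv.mul_apply] using this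
  have htr : ∀ y : K, algebraMap F K (Algebra.trace F K y) = y + σ y := by
    intro y
    rw [FiniteField.algebraMap_trace_eq_sum_pow, hfr, Finset.sum_range_succ, Finset.sum_range_one,
      pow_zero, pow_one, pow_one, Nat.card_eq_fintype_card, hσapply]
  obtain ⟨θ, hθ⟩ := Algebra.trace_surjective F K (1 : F)
  have hθ' : θ + σ θ = 1 := by rw [← htr, hθ, map_one]
  let C : LinearMap.BilinForm F (Fin m → K) :=
    LinearMap.mk₂ F (fun u v => Algebra.trace F K (θ * ∑ i, u i * σ (v i)))
      (fun u u' v => by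
        simp only [Pi.add_apply, add_mul, Finset.sum_add_distrib, mul_add, map_add])
      (fun c u v => by
        simp only [Pi.smul_apply, smul_mul_assoc, ← Finset.smul_sum, mul_smul_comm, map_smul])
      (fun u v v' => by
        simp only [Pi.add_apply, map_add, mul_add, Finset.sum_add_distrib])
      (fun c u v => by
        simp only [Pi.smul_apply, map_smul, mul_smul_comm, ← Finset.smul_sum])
  have hCdef : ∀ u v, C u v = Algebra.trace F K (θ * ∑ i, u i * σ (v i)) := fun u v => rfl
  have hσh : ∀ u v : Fin m → K, σ (∑ i, u i * σ (v i)) = ∑ i, v i * σ (u i) := by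
    intro u v
    rw [map_sum]
    apply Finset.sum_congr rfl
    intro i _
    rw [map_mul, hσσ, mul_comm]
  have hpolar : ∀ u v, C u v + C v u = Algebra.trace F K (∑ i, u i * σ (v i)) := by
    intro u v
    apply (algebraMap F K).injective
    rw [map_add, hCdef, hCdef, htr, htr, htr, map_mul, map_mul, hσh, hσh]
    linear_combination (∑ i, u i * σ (v i) + ∑ i, v i * σ (u i)) * hθ'
  let Q : QuadraticForm F (Fin m → K) := LinearMap.BilinMap.toQuadraticMap C
  have hQdef : ∀ u, Q u = C u u := fun u => rfl
  have hleft : ∀ u, (∀ v, QuadraticMap.polarBilin Q u v = 0) → u = 0 := by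
    intro u hu
    ext j
    apply hsep
    intro c
    have := hu (Pi.single j (σ.symm c))
    rw [QuadraticMap.polarBilin_apply_apply, LinearMap.BilinMap.polar_toQuadraticMap, hpolar,
      Finset.sum_eq_single j] at this
    · rw [Pi.single_eq_same, AlgEquiv.apply_symm_apply, mul_comm] at this
      exact this
    · intro i _ hij
      rw [Pi.single_eq_of_ne hij, map_zero, mul_zero]
    · intro h; exact absurd (Finset.mem_univ _) h
  have hQnd : (QuadraticMap.polarBilin Q).Nondegenerate := by
    refine ⟨hleft, ?_⟩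
    intro y hy
    apply hleft
    intro u
    have := hy u
    rw [QuadraticMap.polarBilin_apply_apply, QuadraticMap.polar_comm] at this
    exact this
  let ρ : ↥(Cfsg.GU m K (Fintype.card F)) →* ((Fin m → K) ≃ₗ[F] (Fin m → K)) :=
    MonoidHom.mk' (fun g =>
      { toFun := fun v => ((g : GL (Fin m) K) : Matrix (Fin m) (Fin m) K).mulVec v
        invFun := fun v => (((g : GL (Fin m) K)⁻¹ : GL (Fin m) K) : Matrix (Fin m) (Fin m) K).mulVec v
        map_add' := fun v v' => Matrix.mulVec_add _ v v'
        map_smul' := fun c v => Matrix.mulVec_smul _ c v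
        left_inv := fun v => by
          beta_reduce
          rw [Matrix.mulVec_mulVec, ← Units.val_mul, inv_mul_cancel, Units.val_one,
            Matrix.one_mulVec]
        right_inv := fun v => by
          beta_reduce
          rw [Matrix.mulVec_mulVec, ← Units.val_mul, mul_inv_cancel, Units.val_one,
            Matrix.one_mulVec] })
      (fun g g' => by
        apply LinearEquiv.ext
        intro v
        show (((g * g' : ↥(Cfsg.GU m K (Fintype.card F))) : GL (Fin m) K) : Matrix (Fin m) (Fin m) K).mulVec v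
          = ((g : GL (Fin m) K) : Matrix (Fin m) (Fin m) K).mulVec
            (((g' : GL (Fin m) K) : Matrix (Fin m) (Fin m) K).mulVec v)
        rw [Matrix.mulVec_mulVec, Subgroup.coe_mul, Units.val_mul])
  have hρapply : ∀ g v, ρ g v = ((g : GL (Fin m) K) : Matrix (Fin m) (Fin m) K).mulVec v :=
    fun g v => rfl
  have hρ : Function.Injective ρ := by
    intro g g' h
    apply Subtype.ext
    apply Units.ext
    apply Matrix.toLin'.injective
    apply LinearMap.ext
    intro v
    rw [Matrix.toLin'_apply, Matrix.toLin'_apply, ← hρapply, ← hρapply, h]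
  have hpres : ∀ g u v, C (ρ g u) (ρ g v) = C u v := by
    intro g u v
    rw [hCdef, hCdef, hρapply, hρapply]
    have := g.2 u v
    have h2 : ∑ i, ((g : GL (Fin m) K) : Matrix (Fin m) (Fin m) K).mulVec u i *
        σ (((g : GL (Fin m) K) : Matrix (Fin m) (Fin m) K).mulVec v i) = ∑ i, u i * σ (v i) := by
      simp only [hσapply]
      exact this
    rw [h2]
  refine ⟨_i, σ, Q, ρ, hfr, hσapply, hσσ, hQnd, hρ, fun g v => hpres g v v, ?_⟩
  intro u
  rw [hQdef, hCdef, htr, map_mul, hσh]
  linear_combination (∑ i, u i * σ (u i)) * hθ'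

end Cfsg.Agent.Lib.Helper5
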