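import Mathlib

set_option autoImplicit false

namespace Cfsg.Agent.Lib.Helper5

open QuadraticMap

section QF

variable {F V : Type*} [Field F] [AddCommGroup V] [Module F V]

/-- Chevalley–Warning: a quadratic form in at least three variables over a finite field has a
nontrivial zero. -/
theorem exists_singular [Finite F] [FiniteDimensional F V] (Q : QuadraticForm F V)
    (h : 3 ≤ Module.finrank F V) : ∃ v : V, v ≠ 0 ∧ Q v = 0 := by
  classical
  haveI : Fintype F := Fintype.ofFinite F
  obtain ⟨p, hp⟩ := CharP.exists F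
  haveI := hp
  haveI : Fact p.Prime := ⟨CharP.char_is_prime F p⟩
  obtain ⟨B, hB⟩ := LinearMap.BilinMap.toQuadraticMap_surjective Q
  set n := Module.finrank F V with hn
  let b : Module.Basis (Fin n) F V := Module.finBasis F V
  let f : MvPolynomial (Fin n) F :=
    ∑ i : Fin n, ∑ j : Fin n, MvPolynomial.C (B (b i) (b j)) * MvPolynomial.X i * MvPolynomial.X j
  have hdeg : f.totalDegree ≤ 2 := by
    apply MvPolynomial.totalDegree_finsetSum_le
    intro i _
    apply MvPolynomial.totalDegree_finsetSum_le
    intro j _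
    calc (MvPolynomial.C (B (b i) (b j)) * MvPolynomial.X i * MvPolynomial.X j).totalDegree
        ≤ (MvPolynomial.C (B (b i) (b j)) * MvPolynomial.X i).totalDegree
          + (MvPolynomial.X j : MvPolynomial (Fin n) F).totalDegree := MvPolynomial.totalDegree_mul _ _
      _ ≤ ((MvPolynomial.C (B (b i) (b j)) : MvPolynomial (Fin n) F).totalDegree
          + (MvPolynomial.X i : MvPolynomial (Fin n) F).totalDegree)
          + (MvPolynomial.X j : MvPolynomial (Fin n) F).totalDegree :=
          Nat.add_le_add_right (MvPolynomial.totalDegree_mul _ _) _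
      _ = 2 := by
          rw [MvPolynomial.totalDegree_C, MvPolynomial.totalDegree_X, MvPolynomial.totalDegree_X]
  have heval : ∀ x : Fin n → F, MvPolynomial.eval x f = Q (∑ i, x i • b i) := by
    intro x
    rw [← hB, LinearMap.BilinMap.toQuadraticMap_apply]
    simp only [f, map_sum, map_mul, MvPolynomial.eval_C, MvPolynomial.eval_X,
      LinearMap.sum_apply, map_smul, LinearMap.smul_apply, smul_eq_mul]
    simp only [Finset.mul_sum]
    rw [Finset.sum_comm]
    apply Finset.sum_congr rfl
    intro i _
    apply Finset.sum_congr rfl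
    intro j _
    ring
  have hdvd := char_dvd_card_solutions p (f := f) (by rw [Fintype.card_fin]; omega)
  have hzero : MvPolynomial.eval (0 : Fin n → F) f = 0 := by
    rw [heval]; simp
  have hcard : 1 < Fintype.card {x : Fin n → F // MvPolynomial.eval x f = 0} := by
    have hpos : 0 < Fintype.card {x : Fin n → F // MvPolynomial.eval x f = 0} :=
      Fintype.card_pos_iff.2 ⟨⟨0, hzero⟩⟩
    have := Nat.le_of_dvd hpos hdvd
    have := (Fact.out : p.Prime).two_le
    omega
  obtain ⟨⟨x, hx⟩, hne⟩ := Fintype.exists_ne_of_one_lt_card hcard ⟨0, hzero⟩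
  refine ⟨∑ i, x i • b i, ?_, ?_⟩
  · intro h0
    apply hne
    apply Subtype.ext
    have := (Fintype.linearIndependent_iff.1 b.linearIndependent) x h0
    funext i
    exact this i
  · rw [← heval]; exact hx

/-- In a subspace on which the polar form is non-degenerate, a non-zero singular vector has a
singular partner with polar value one. -/
theorem exists_partner (Q : QuadraticForm F V) (W : Submodule F V)
    (hW : ∀ x ∈ W, (∀ y ∈ W, polar Q x y = 0) → x = 0) (v : V) (hvW : v ∈ W) (hv0 : v ≠ 0)
    (hv : Q v = 0) : ∃ w ∈ W, Q w = 0 ∧ polar Q v w = 1 := by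
  have h1 : ∃ w₀ ∈ W, polar Q v w₀ ≠ 0 := by
    by_contra hcon
    apply hv0
    apply hW v hvW
    intro y hy
    by_contra h
    exact hcon ⟨y, hy, h⟩
  obtain ⟨w₀, hw₀W, hw₀⟩ := h1
  obtain ⟨w₁, hw₁W, hp1⟩ : ∃ w₁ ∈ W, polar Q v w₁ = 1 := by
    refine ⟨(polar Q v w₀)⁻¹ • w₀, W.smul_mem _ hw₀W, ?_⟩
    rw [polar_smul_right, smul_eq_mul, inv_mul_cancel₀ hw₀]
  refine ⟨w₁ - Q w₁ • v, W.sub_mem hw₁W (W.smul_mem _ hvW), ?_, ?_⟩
  · have : w₁ - Q w₁ • v = w₁ + (-(Q w₁)) • v := by rw [neg_smul, sub_eq_add_neg]
    rw [this, QuadraticMap.map_add (⇑Q) w₁ _, QuadraticMap.map_smul, hv, polar_smul_right,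
      polar_comm, hp1]
    simp
  · rw [polar_sub_right, hp1, polar_smul_right, polar_self, hv]
    simp

/-- A family of `k` hyperbolic pairs. -/
structure HypFam (Q : QuadraticForm F V) (k : ℕ) (e f : Fin k → V) : Prop where
  e_sing : ∀ i, Q (e i) = 0
  f_sing : ∀ i, Q (f i) = 0
  ef : ∀ i j, polar Q (e i) (f j) = if i = j then 1 else 0
  ee : ∀ i j, polar Q (e i) (e j) = 0
  ff : ∀ i j, polar Q (f i) (f j) = 0

theorem HypFam.fe {Q : QuadraticForm F V} {k : ℕ} {e f : Fin k → V} (H : HypFam Q k e f)
    (i j : Fin k) : polar Q (f i) (e j) = if i = j then 1 else 0 := by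
  rw [polar_comm, H.ef]
  by_cases h : i = j
  · rw [if_pos h, if_pos h.symm]
  · rw [if_neg h, if_neg (Ne.symm h)]

/-- The orthogonal complement of a family of pairs. -/
def perp (Q : QuadraticForm F V) {k : ℕ} (e f : Fin k → V) : Submodule F V where
  carrier := {x | ∀ i, polar Q (e i) x = 0 ∧ polar Q (f i) x = 0}
  add_mem' := by
    intro a b ha hb i
    rw [polar_add_right, polar_add_right, (ha i).1, (ha i).2, (hb i).1, (hb i).2]
    simp
  zero_mem' := by
    intro i
    simp
  smul_mem' := by
    intro c x hx i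
    rw [polar_smul_right, polar_smul_right, (hx i).1, (hx i).2]
    simp

theorem mem_perp {Q : QuadraticForm F V} {k : ℕ} {e f : Fin k → V} {x : V} :
    x ∈ perp Q e f ↔ ∀ i, polar Q (e i) x = 0 ∧ polar Q (f i) x = 0 := Iff.rfl

/-- The projection to the orthogonal complement. -/
def hproj (Q : QuadraticForm F V) {k : ℕ} (e f : Fin k → V) (x : V) : V :=
  x - ∑ i, (polar Q (f i) x • e i + polar Q (e i) x • f i)

theorem polar_sum_right (Q : QuadraticForm F V) {ι : Type*} (s : Finset ι) (x : V) (g : ι → V) :
    polar Q x (∑ i ∈ s, g i) = ∑ i ∈ s, polar Q x (g i) := by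
  classical
  induction s using Finset.induction with
  | empty => simp
  | insert a s ha ih => rw [Finset.sum_insert ha, Finset.sum_insert ha, polar_add_right, ih]

theorem hproj_mem {Q : QuadraticForm F V} {k : ℕ} {e f : Fin k → V} (H : HypFam Q k e f) (x : V) :
    hproj Q e f x ∈ perp Q e f := by
  classical
  intro j
  unfold hproj
  constructor
  · rw [polar_sub_right, polar_sum_right, sub_eq_zero]
    symm
    rw [Finset.sum_eq_single j]
    · rw [polar_add_right, polar_smul_right, polar_smul_right, H.ee, H.ef, if_pos rfl]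
      simp
    · intro i _ hij
      rw [polar_add_right, polar_smul_right, polar_smul_right, H.ee, H.ef, if_neg (Ne.symm hij)]
      simp
    · intro h; exact absurd (Finset.mem_univ _) h
  · rw [polar_sub_right, polar_sum_right, sub_eq_zero]
    symm
    rw [Finset.sum_eq_single j]
    · rw [polar_add_right, polar_smul_right, polar_smul_right, H.ff, H.fe, if_pos rfl]
      simp
    · intro i _ hij
      rw [polar_add_right, polar_smul_right, polar_smul_right, H.ff, H.fe, if_neg (Ne.symm hij)]
      simp
    · intro h; exact absurd (Finset.mem_univ _) h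

theorem eq_hproj_add (Q : QuadraticForm F V) {k : ℕ} (e f : Fin k → V) (x : V) :
    x = hproj Q e f x + ∑ i, (polar Q (f i) x • e i + polar Q (e i) x • f i) := by
  unfold hproj
  abel

/-- Non-degeneracy passes to the orthogonal complement of a hyperbolic family. -/
theorem perp_nondeg {Q : QuadraticForm F V} (hQ : (QuadraticMap.polarBilin Q).Nondegenerate)
    {k : ℕ} {e f : Fin k → V} (H : HypFam Q k e f) :
    ∀ x ∈ perp Q e f, (∀ y ∈ perp Q e f, polar Q x y = 0) → x = 0 := by
  intro x hx hxy
  apply hQ.1 x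
  intro z
  show polar Q x z = 0
  rw [eq_hproj_add Q e f z, polar_add_right, hxy _ (hproj_mem H z), polar_sum_right, zero_add]
  apply Finset.sum_eq_zero
  intro i _
  rw [polar_add_right, polar_smul_right, polar_smul_right, polar_comm Q x (e i),
    polar_comm Q x (f i), (hx i).1, (hx i).2]
  simp

/-- The dimension of the orthogonal complement. -/
theorem finrank_perp [FiniteDimensional F V] {Q : QuadraticForm F V} {k : ℕ} {e f : Fin k → V}
    (H : HypFam Q k e f) : Module.finrank F V = 2 * k + Module.finrank F (perp Q e f) := by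
  classical
  let π : V →ₗ[F] (Fin k → F) × (Fin k → F) :=
    LinearMap.prod (LinearMap.pi (fun i => QuadraticMap.polarBilin Q (e i)))
      (LinearMap.pi (fun i => QuadraticMap.polarBilin Q (f i)))
  have hker : LinearMap.ker π = perp Q e f := by
    ext x
    rw [LinearMap.mem_ker, mem_perp]
    constructor
    · intro h i
      have h1 := congrArg (fun p => p.1 i) h
      have h2 := congrArg (fun p => p.2 i) h
      exact ⟨h1, h2⟩
    · intro h
      apply Prod.ext
      · funext i; exact (h i).1
      · funext i; exact (h i).2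
  have hsurj : LinearMap.range π = ⊤ := by
    rw [LinearMap.range_eq_top]
    rintro ⟨a, b⟩
    refine ⟨∑ i, (a i • f i + b i • e i), ?_⟩
    apply Prod.ext
    · funext j
      show polar Q (e j) (∑ i, (a i • f i + b i • e i)) = a j
      rw [polar_sum_right, Finset.sum_eq_single j]
      · rw [polar_add_right, polar_smul_right, polar_smul_right, H.ee, H.ef, if_pos rfl]
        simp
      · intro i _ hij
        rw [polar_add_right, polar_smul_right, polar_smul_right, H.ee, H.ef, if_neg (Ne.symm hij)]
        simp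
      · intro h; exact absurd (Finset.mem_univ _) h
    · funext j
      show polar Q (f j) (∑ i, (a i • f i + b i • e i)) = b j
      rw [polar_sum_right, Finset.sum_eq_single j]
      · rw [polar_add_right, polar_smul_right, polar_smul_right, H.ff, H.fe, if_pos rfl]
        simp
      · intro i _ hij
        rw [polar_add_right, polar_smul_right, polar_smul_right, H.ff, H.fe, if_neg (Ne.symm hij)]
        simp
      · intro h; exact absurd (Finset.mem_univ _) h
  have h1 := LinearMap.finrank_range_add_finrank_ker π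
  rw [hsurj, hker, finrank_top, Module.finrank_prod, Module.finrank_fin_fun] at h1
  omega

/-- Extending a hyperbolic family by a singular vector of the complement. -/
theorem HypFam.extend {Q : QuadraticForm F V} (hQ : (QuadraticMap.polarBilin Q).Nondegenerate)
    {k : ℕ} {e f : Fin k → V} (H : HypFam Q k e f) (v : V) (hv : v ∈ perp Q e f) (hv0 : v ≠ 0)
    (hQv : Q v = 0) : ∃ (e' f' : Fin (k + 1) → V), HypFam Q (k + 1) e' f' := by
  obtain ⟨w, hwW, hQw, hvw⟩ := exists_partner Q (perp Q e f) (perp_nondeg hQ H) v hv hv0 hQv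
  refine ⟨Fin.cons v e, Fin.cons w f, ?_⟩
  have hpv : polar Q v v = 0 := by rw [polar_self, hQv]; simp
  have hpw : polar Q w w = 0 := by rw [polar_self, hQw]; simp
  constructor
  · intro i
    refine Fin.cases ?_ (fun i' => ?_) i
    · simpa using hQv
    · simpa using H.e_sing i'
  · intro i
    refine Fin.cases ?_ (fun i' => ?_) i
    · simpa using hQw
    · simpa using H.f_sing i'
  · intro i j
    refine Fin.cases ?_ (fun i' => ?_) i <;> refine Fin.cases ?_ (fun j' => ?_) j
    · simpa using hvw
    · simp only [Fin.cons_zero, Fin.cons_succ]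
      rw [polar_comm, (hv j').2, if_neg (Fin.succ_ne_zero j').symm]
    · simp only [Fin.cons_zero, Fin.cons_succ]
      rw [(hwW i').1, if_neg (Fin.succ_ne_zero i')]
    · simp only [Fin.cons_succ]
      rw [H.ef]
      simp [Fin.succ_inj]
  · intro i j
    refine Fin.cases ?_ (fun i' => ?_) i <;> refine Fin.cases ?_ (fun j' => ?_) j
    · simpa using hpv
    · simp only [Fin.cons_zero, Fin.cons_succ]
      rw [polar_comm, (hv j').1]
    · simp only [Fin.cons_zero, Fin.cons_succ]
      rw [(hv i').1]
    · simp only [Fin.cons_succ]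
      rw [H.ee]
  · intro i j
    refine Fin.cases ?_ (fun i' => ?_) i <;> refine Fin.cases ?_ (fun j' => ?_) j
    · simpa using hpw
    · simp only [Fin.cons_zero, Fin.cons_succ]
      rw [polar_comm, (hwW j').2]
    · simp only [Fin.cons_zero, Fin.cons_succ]
      rw [(hwW i').2]
    · simp only [Fin.cons_succ]
      rw [H.ff]

/-- A maximal hyperbolic family: its orthogonal complement is anisotropic. -/
theorem exists_maximal_hypFam [FiniteDimensional F V] {Q : QuadraticForm F V}
    (hQ : (QuadraticMap.polarBilin Q).Nondegenerate) :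
    ∃ (k : ℕ) (e f : Fin k → V), HypFam Q k e f ∧ ∀ x ∈ perp Q e f, Q x = 0 → x = 0 := by
  have key : ∀ d : ℕ, ∀ (k : ℕ) (e f : Fin k → V), HypFam Q k e f →
      Module.finrank F (perp Q e f) = d →
      ∃ (k : ℕ) (e f : Fin k → V), HypFam Q k e f ∧ ∀ x ∈ perp Q e f, Q x = 0 → x = 0 := by
    intro d
    induction d using Nat.strong_induction_on with
    | _ d ih =>
      intro k e f H hd
      by_cases han : ∀ x ∈ perp Q e f, Q x = 0 → x = 0
      · exact ⟨k, e, f, H, han⟩
      · have hex : ∃ x ∈ perp Q e f, Q x = 0 ∧ x ≠ 0 := by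
          by_contra hcon
          apply han
          intro x hx hQx
          by_contra h0
          exact hcon ⟨x, hx, hQx, h0⟩
        obtain ⟨v, hv, hQv, hv0⟩ := hex
        obtain ⟨e', f', H'⟩ := H.extend hQ v hv hv0 hQv
        have h1 := finrank_perp H
        have h2 := finrank_perp H'
        exact ih (Module.finrank F (perp Q e' f')) (by omega) (k + 1) e' f' H' rfl
  refine key _ 0 Fin.elim0 Fin.elim0 ?_ rfl
  exact ⟨fun i => Fin.elim0 i, fun i => Fin.elim0 i, fun i => Fin.elim0 i, fun i => Fin.elim0 i,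
    fun i => Fin.elim0 i⟩

/-- An anisotropic subspace has dimension at most two. -/
theorem finrank_le_two_of_anisotropic [Finite F] [FiniteDimensional F V] (Q : QuadraticForm F V)
    (W : Submodule F V) (hW : ∀ x ∈ W, Q x = 0 → x = 0) : Module.finrank F W ≤ 2 := by
  by_contra h
  obtain ⟨x, hx0, hx⟩ := exists_singular (Q.comp W.subtype) (by omega)
  apply hx0
  have := hW x x.2 hx
  exact Subtype.ext this

/-- An anisotropic subspace of dimension two represents every non-zero scalar. -/
theorem exists_value_of_anisotropic [Finite F] [FiniteDimensional F V] (Q : QuadraticForm F V)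
    (W : Submodule F V) (hW : ∀ x ∈ W, Q x = 0 → x = 0) (h2 : Module.finrank F W = 2)
    (c : F) (hc : c ≠ 0) : ∃ x ∈ W, Q x = c := by
  let Q' : QuadraticForm F (W × F) :=
    (Q.comp W.subtype).prod (-(c • (QuadraticMap.sq : QuadraticForm F F)))
  have hdim : 3 ≤ Module.finrank F (W × F) := by
    rw [Module.finrank_prod, h2, Module.finrank_self]
  obtain ⟨⟨x, z⟩, hne, hzero⟩ := exists_singular Q' hdim
  have hz : Q (x : V) - c * (z * z) = 0 := by
    have : Q' (x, z) = Q (x : V) + -(c * (z * z)) := by
      simp [Q']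
    rw [this] at hzero
    rw [sub_eq_add_neg]; exact hzero
  have hz0 : z ≠ 0 := by
    intro h0
    rw [h0] at hz
    have hx : Q (x : V) = 0 := by simpa using hz
    have := hW x x.2 hx
    apply hne
    rw [h0]
    exact Prod.ext (Subtype.ext this) rfl
  refine ⟨z⁻¹ • (x : V), W.smul_mem _ x.2, ?_⟩
  rw [QuadraticMap.map_smul, smul_eq_mul, sub_eq_zero.1 hz]
  field_simp

/-- The normal form of an anisotropic plane. -/
theorem exists_elliptic_pair [Finite F] [FiniteDimensional F V] (Q : QuadraticForm F V)
    (W : Submodule F V) (hW : ∀ x ∈ W, Q x = 0 → x = 0) (h2 : Module.finrank F W = 2)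
    (hnd : ∀ x ∈ W, (∀ y ∈ W, polar Q x y = 0) → x = 0) :
    ∃ x ∈ W, ∃ y ∈ W, Q x = 1 ∧ polar Q x y = 1 ∧ ∀ t : F, t ^ 2 + t + Q y ≠ 0 := by
  classical
  obtain ⟨x, hxW, hQx⟩ := exists_value_of_anisotropic Q W hW h2 1 one_ne_zero
  have hx0 : x ≠ 0 := by
    rintro rfl
    rw [QuadraticMap.map_zero] at hQx
    exact zero_ne_one hQx
  -- a vector of W outside the line of x
  have hy₀ : ∃ y₀ ∈ W, y₀ ∉ Submodule.span F {x} := by
    by_contra hcon
    have hle : W ≤ Submodule.span F {x} := by
      intro y hy
      by_contra h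
      exact hcon ⟨y, hy, h⟩
    have h1 := Submodule.finrank_mono hle
    rw [h2, finrank_span_singleton hx0] at h1
    omega
  obtain ⟨y₀, hy₀W, hy₀⟩ := hy₀
  -- a vector outside the line with nonzero polar value
  have hy₂ : ∃ y₂ ∈ W, y₂ ∉ Submodule.span F {x} ∧ polar Q x y₂ ≠ 0 := by
    by_cases hc : polar Q x y₀ = 0
    · have hex : ∃ y' ∈ W, polar Q x y' ≠ 0 := by
        by_contra hcon
        apply hx0
        apply hnd x hxW
        intro y hy
        by_contra h
        exact hcon ⟨y, hy, h⟩
      obtain ⟨y', hy'W, hy'⟩ := hex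
      by_cases hin : y' ∈ Submodule.span F {x}
      · obtain ⟨a, rfl⟩ := Submodule.mem_span_singleton.1 hin
        have hxx : polar Q x x ≠ 0 := by
          intro h
          apply hy'
          rw [polar_smul_right, h, smul_zero]
        refine ⟨y₀ + x, W.add_mem hy₀W hxW, ?_, ?_⟩
        · intro h
          apply hy₀
          have := Submodule.sub_mem _ h (Submodule.mem_span_singleton_self x)
          simpa using this
        · rw [polar_add_right, hc, zero_add]
          exact hxx
      · exact ⟨y', hy'W, hin, hy'⟩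
    · exact ⟨y₀, hy₀W, hy₀, hc⟩
  obtain ⟨y₂, hy₂W, hy₂, hc⟩ := hy₂
  refine ⟨x, hxW, (polar Q x y₂)⁻¹ • y₂, W.smul_mem _ hy₂W, hQx, ?_, ?_⟩
  · rw [polar_smul_right, smul_eq_mul, inv_mul_cancel₀ hc]
  · intro t ht
    set y := (polar Q x y₂)⁻¹ • y₂ with hy
    have hpy : polar Q x y = 1 := by
      rw [hy, polar_smul_right, smul_eq_mul, inv_mul_cancel₀ hc]
    have hQ : Q (t • x + y) = t ^ 2 + t + Q y := by
      rw [QuadraticMap.map_add (⇑Q) (t • x) y, QuadraticMap.map_smul, hQx, polar_smul_left, hpy]
      simp only [smul_eq_mul, mul_one]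
      ring
    have h0 := hW (t • x + y) (W.add_mem (W.smul_mem _ hxW) (W.smul_mem _ hy₂W)) (by rw [hQ, ht])
    apply hy₂
    have hy2 : y₂ = (-(polar Q x y₂ * t)) • x := by
      have h1 : y = -(t • x) := eq_neg_of_add_eq_zero_right h0
      have h2' : y₂ = polar Q x y₂ • y := by
        rw [hy, smul_smul, mul_inv_cancel₀ hc, one_smul]
      calc y₂ = polar Q x y₂ • y := h2'
        _ = (-(polar Q x y₂ * t)) • x := by rw [h1, smul_neg, smul_smul, neg_smul]
    rw [hy2]
    exact Submodule.smul_mem _ _ (Submodule.mem_span_singleton_self x)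

/-- A family with a dual family for the polar form gives a basis. -/
theorem exists_basis_of_dual [FiniteDimensional F V] (Q : QuadraticForm F V) {ι : Type*}
    [Fintype ι] [DecidableEq ι] (v u : ι → V)
    (h : ∀ i j, polar Q (u j) (v i) = if i = j then 1 else 0)
    (hcard : Fintype.card ι = Module.finrank F V) :
    ∃ b : Module.Basis ι F V, ∀ i, b i = v i := by
  have hli : LinearIndependent F v := by
    rw [Fintype.linearIndependent_iff]
    intro g hg j
    have h1 : polar Q (u j) (∑ i, g i • v i) = 0 := by rw [hg]; simp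
    rw [polar_sum_right, Finset.sum_eq_single j] at h1
    · rw [polar_smul_right, h, if_pos rfl] at h1
      simpa using h1
    · intro i _ hij
      rw [polar_smul_right, h, if_neg hij, smul_zero]
    · intro hh; exact absurd (Finset.mem_univ _) hh
  have hspan := hli.span_eq_top_of_card_eq_finrank' hcard
  refine ⟨Module.Basis.mk hli (le_of_eq hspan.symm), ?_⟩
  intro i
  rw [Module.Basis.mk_apply]

theorem ite_eq_comm' {ι : Type*} [DecidableEq ι] (a c : ι) :
    (if a = c then (1 : F) else 0) = if c = a then 1 else 0 := by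
  by_cases h : a = c
  · rw [if_pos h, if_pos h.symm]
  · rw [if_neg h, if_neg (Ne.symm h)]

theorem hyp_dual {Q : QuadraticForm F V} {k : ℕ} {e f : Fin k → V} (H : HypFam Q k e f)
    (i j : Fin k ⊕ Fin k) :
    polar Q (Sum.elim f e j) (Sum.elim e f i) = if i = j then 1 else 0 := by
  rcases i with a | a <;> rcases j with c | c
  · simp only [Sum.elim_inl, Sum.inl.injEq]
    rw [H.fe, ite_eq_comm']
  · simp only [Sum.elim_inl, Sum.elim_inr, reduceCtorEq, if_false]
    rw [H.ee]
  · simp only [Sum.elim_inl, Sum.elim_inr, reduceCtorEq, if_false]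
    rw [H.ff]
  · simp only [Sum.elim_inr, Sum.inr.injEq]
    rw [H.ef, ite_eq_comm']

theorem hyp_dual_ext {Q : QuadraticForm F V} {k : ℕ} {e f : Fin k → V} (H : HypFam Q k e f)
    {κ : Type*} [DecidableEq κ] (p q : κ → V) (hp : ∀ i, p i ∈ perp Q e f)
    (hq : ∀ i, q i ∈ perp Q e f)
    (hpq : ∀ i j, polar Q (q j) (p i) = if i = j then 1 else 0)
    (i j : (Fin k ⊕ Fin k) ⊕ κ) :
    polar Q (Sum.elim (Sum.elim f e) q j) (Sum.elim (Sum.elim e f) p i)
      = if i = j then 1 else 0 := by
  rcases i with a | a <;> rcases j with c | c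
  · simp only [Sum.elim_inl, Sum.inl.injEq]
    exact hyp_dual H a c
  · simp only [Sum.elim_inl, Sum.elim_inr, reduceCtorEq, if_false]
    rw [polar_comm]
    rcases a with a | a
    · exact (hq c a).1
    · exact (hq c a).2
  · simp only [Sum.elim_inl, Sum.elim_inr, reduceCtorEq, if_false]
    rcases c with c | c
    · exact (hp a c).2
    · exact (hp a c).1
  · simp only [Sum.elim_inr, Sum.inr.injEq]
    exact hpq a c

end QF

end Cfsg.Agent.Lib.Helper5
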