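import Mathlib
import Cfsg.Agent.Lib.Helper5.QF

set_option autoImplicit false

namespace Cfsg.Agent.Lib.Helper5

open QuadraticMap

section QF2

variable {F V : Type*} [Field F] [AddCommGroup V] [Module F V]

theorem polar_sum_left (Q : QuadraticForm F V) {ι : Type*} (s : Finset ι) (x : V) (g : ι → V) :
    polar Q (∑ i ∈ s, g i) x = ∑ i ∈ s, polar Q (g i) x := by
  rw [polar_comm, polar_sum_right]
  apply Finset.sum_congr rfl
  intro i _
  rw [polar_comm]

/-- The value of the form on a combination of hyperbolic pairs. -/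
theorem Q_hyp_sum {Q : QuadraticForm F V} {k : ℕ} {e f : Fin k → V} (H : HypFam Q k e f)
    (a b : Fin k → F) (s : Finset (Fin k)) :
    Q (∑ i ∈ s, (a i • e i + b i • f i)) = ∑ i ∈ s, a i * b i := by
  classical
  induction s using Finset.induction with
  | empty => simp
  | insert j s hj ih =>
    rw [Finset.sum_insert hj, Finset.sum_insert hj,
      QuadraticMap.map_add (⇑Q) (a j • e j + b j • f j) _, ih]
    have h1 : Q (a j • e j + b j • f j) = a j * b j := by
      rw [QuadraticMap.map_add (⇑Q) (a j • e j) _, QuadraticMap.map_smul, QuadraticMap.map_smul,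
        H.e_sing, H.f_sing, polar_smul_left, polar_smul_right, H.ef, if_pos rfl]
      simp
    have h2 : polar Q (a j • e j + b j • f j) (∑ i ∈ s, (a i • e i + b i • f i)) = 0 := by
      rw [polar_sum_right]
      apply Finset.sum_eq_zero
      intro i hi
      have hij : j ≠ i := fun h => hj (h ▸ hi)
      rw [polar_add_left, polar_add_right, polar_add_right, polar_smul_left, polar_smul_left,
        polar_smul_left, polar_smul_left, polar_smul_right, polar_smul_right, polar_smul_right,
        polar_smul_right, H.ee, H.ff, H.ef, H.fe, if_neg hij]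
      simp
    rw [h1, h2, add_zero]

theorem Q_add_hyp_sum {Q : QuadraticForm F V} {k : ℕ} {e f : Fin k → V} (H : HypFam Q k e f)
    (w : V) (hw : w ∈ perp Q e f) (a b : Fin k → F) :
    Q (w + ∑ i, (a i • e i + b i • f i)) = Q w + ∑ i, a i * b i := by
  rw [QuadraticMap.map_add (⇑Q) w _, Q_hyp_sum H a b Finset.univ]
  have h2 : polar Q w (∑ i, (a i • e i + b i • f i)) = 0 := by
    rw [polar_sum_right]
    apply Finset.sum_eq_zero
    intro i _
    rw [polar_add_right, polar_smul_right, polar_smul_right, polar_comm Q w (e i),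
      polar_comm Q w (f i), (hw i).1, (hw i).2]
    simp
  rw [h2, add_zero]

/-- A similarity of the orthogonal complement of a hyperbolic family extends. -/
theorem exists_similarity_aux {Q : QuadraticForm F V} {k : ℕ} {e f : Fin k → V}
    (H : HypFam Q k e f) (c : F) (T : V →ₗ[F] V)
    (hT : ∀ w ∈ perp Q e f, T w ∈ perp Q e f ∧ Q (T w) = c * Q w) :
    ∃ g : V →ₗ[F] V, ∀ v, Q (g v) = c * Q v := by
  classical
  let S : V →ₗ[F] V := ∑ i, ((QuadraticMap.polarBilin Q (f i)).smulRight (e i)
    + (QuadraticMap.polarBilin Q (e i)).smulRight (f i))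
  let S' : V →ₗ[F] V := ∑ i, ((c • QuadraticMap.polarBilin Q (f i)).smulRight (e i)
    + (QuadraticMap.polarBilin Q (e i)).smulRight (f i))
  have hS : ∀ v, S v = ∑ i, (polar Q (f i) v • e i + polar Q (e i) v • f i) := by
    intro v
    simp only [S, LinearMap.sum_apply, LinearMap.add_apply, LinearMap.smulRight_apply]
    rfl
  have hS' : ∀ v, S' v = ∑ i, ((c * polar Q (f i) v) • e i + polar Q (e i) v • f i) := by
    intro v
    simp only [S', LinearMap.sum_apply, LinearMap.add_apply, LinearMap.smulRight_apply,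
      LinearMap.smul_apply, smul_eq_mul]
    rfl
  refine ⟨T ∘ₗ ((LinearMap.id : V →ₗ[F] V) - S) + S', ?_⟩
  intro v
  have hp : ((LinearMap.id : V →ₗ[F] V) - S) v = hproj Q e f v := by
    rw [LinearMap.sub_apply, LinearMap.id_apply, hS]
    rfl
  have hv : v = hproj Q e f v + ∑ i, (polar Q (f i) v • e i + polar Q (e i) v • f i) :=
    eq_hproj_add Q e f v
  have hpm := hproj_mem H v
  obtain ⟨hT1, hT2⟩ := hT _ hpm
  rw [LinearMap.add_apply, LinearMap.comp_apply, hp, hS',
    Q_add_hyp_sum H _ hT1 (fun i => c * polar Q (f i) v) (fun i => polar Q (e i) v), hT2]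
  conv_rhs => rw [hv, Q_add_hyp_sum H _ hpm (fun i => polar Q (f i) v) (fun i => polar Q (e i) v)]
  rw [mul_add, Finset.mul_sum]
  congr 1
  apply Finset.sum_congr rfl
  intro i _
  ring

/-- A linear similarity with non-zero multiplier of a non-degenerate form is injective. -/
theorem similarity_injective {Q : QuadraticForm F V}
    (hQ : (QuadraticMap.polarBilin Q).Nondegenerate) {c : F} (hc : c ≠ 0) (g : V →ₗ[F] V)
    (hg : ∀ v, Q (g v) = c * Q v) : Function.Injective g := by
  rw [← LinearMap.ker_eq_bot, LinearMap.ker_eq_bot']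
  intro u hu
  apply hQ.1 u
  intro v
  show polar Q u v = 0
  have h1 : polar Q (g u) (g v) = c * polar Q u v := by
    unfold polar
    rw [← map_add, hg, hg, hg]
    ring
  rw [hu] at h1
  have h2 : c * polar Q u v = 0 := by
    rw [← h1]; simp
  exact (mul_eq_zero.1 h2).resolve_left hc

/-- Linear independence from a dual family. -/
theorem linearIndependent_of_dual (Q : QuadraticForm F V) {ι : Type*}
    [Fintype ι] [DecidableEq ι] (v u : ι → V)
    (h : ∀ i j, polar Q (u j) (v i) = if i = j then 1 else 0) : LinearIndependent F v := by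
  rw [Fintype.linearIndependent_iff]
  intro g hg j
  have h1 : polar Q (u j) (∑ i, g i • v i) = 0 := by rw [hg]; simp
  rw [polar_sum_right, Finset.sum_eq_single j] at h1
  · rw [polar_smul_right, h, if_pos rfl] at h1
    simpa using h1
  · intro i _ hij
    rw [polar_smul_right, h, if_neg hij, smul_zero]
  · intro hh; exact absurd (Finset.mem_univ _) hh

/-- The similarity of an anisotropic plane in normal form (the norm form is multiplicative). -/
theorem exists_plane_similarity [Finite F] [FiniteDimensional F V] (Q : QuadraticForm F V)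
    (W : Submodule F V) (hW : ∀ x ∈ W, Q x = 0 → x = 0) (h2 : Module.finrank F W = 2)
    (hnd : ∀ x ∈ W, (∀ y ∈ W, polar Q x y = 0) → x = 0) (c : F) (hc : c ≠ 0) :
    ∃ T : V →ₗ[F] V, ∀ w ∈ W, T w ∈ W ∧ Q (T w) = c * Q w := by
  classical
  obtain ⟨x, hxW, y, hyW, hQx, hxy, hirr⟩ := exists_elliptic_pair Q W hW h2 hnd
  set ζ := Q y with hζ
  have hD : 4 * ζ - 1 ≠ 0 := by
    intro hcon
    have h4 : (4 : F) ≠ 0 := by
      intro h4
      rw [h4] at hcon
      simp at hcon
    have h2' : (2 : F) ≠ 0 := by
      intro h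
      apply h4
      linear_combination 2 * h
    apply hirr (-(2⁻¹))
    have ht2 : 2 * (-(2⁻¹ : F)) + 1 = 0 := by
      field_simp
      ring
    apply mul_left_cancel₀ h4
    linear_combination (2 * (-(2⁻¹ : F)) + 1) * ht2 + hcon
  have hxx : polar Q x x = 2 := by
    rw [polar_self, hQx]; simp
  have hyy : polar Q y y = 2 * ζ := by
    rw [polar_self, ← hζ]; simp [two_mul]
  have hyx : polar Q y x = 1 := by rw [polar_comm]; exact hxy
  set x' : V := (4 * ζ - 1)⁻¹ • ((2 * ζ) • x - y) with hx'
  set y' : V := (4 * ζ - 1)⁻¹ • ((2 : F) • y - x) with hy'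
  have h00 : polar Q x' x = 1 := by
    rw [hx', polar_smul_left, polar_sub_left, polar_smul_left, hxx, hyx, smul_eq_mul, smul_eq_mul]
    field_simp
    ring
  have h01 : polar Q x' y = 0 := by
    rw [hx', polar_smul_left, polar_sub_left, polar_smul_left, hxy, hyy, smul_eq_mul, smul_eq_mul]
    ring
  have h10 : polar Q y' x = 0 := by
    rw [hy', polar_smul_left, polar_sub_left, polar_smul_left, hxx, hyx, smul_eq_mul, smul_eq_mul]
    ring
  have h11 : polar Q y' y = 1 := by
    rw [hy', polar_smul_left, polar_sub_left, polar_smul_left, hxy, hyy, smul_eq_mul, smul_eq_mul]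
    field_simp
    ring
  have hpq : ∀ i j : Fin 2, polar Q ((![x', y'] : Fin 2 → V) j) ((![x, y] : Fin 2 → V) i)
      = if i = j then 1 else 0 := by
    intro i j
    fin_cases i <;> fin_cases j
    · simpa using h00
    · simpa using h10
    · simpa using h01
    · simpa using h11
  have hli := linearIndependent_of_dual Q _ _ hpq
  -- the pair spans W
  have hspan : Submodule.span F (Set.range (![x, y] : Fin 2 → V)) = W := by
    apply Submodule.eq_of_le_of_finrank_eq
    · rw [Submodule.span_le]
      rintro _ ⟨i, rfl⟩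
      fin_cases i
      · simpa using hxW
      · simpa using hyW
    · rw [finrank_span_eq_card hli, h2, Fintype.card_fin]
  have hcoord : ∀ w ∈ W, w = polar Q x' w • x + polar Q y' w • y := by
    intro w hw
    rw [← hspan] at hw
    obtain ⟨r, hr⟩ := (Submodule.mem_span_range_iff_exists_fun F).1 hw
    rw [Fin.sum_univ_two] at hr
    simp only [Matrix.cons_val_zero, Matrix.cons_val_one] at hr
    rw [← hr, polar_add_right, polar_add_right, polar_smul_right, polar_smul_right,
      polar_smul_right, polar_smul_right, h00, h01, h10, h11]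
    simp
  have hQpair : ∀ s t : F, Q (s • x + t • y) = s ^ 2 + s * t + ζ * t ^ 2 := by
    intro s t
    rw [QuadraticMap.map_add (⇑Q) (s • x) _, QuadraticMap.map_smul, QuadraticMap.map_smul, hQx,
      polar_smul_left, polar_smul_right, hxy, ← hζ]
    simp only [smul_eq_mul]
    ring
  obtain ⟨z, hzW, hQz⟩ := exists_value_of_anisotropic Q W hW h2 c hc
  set s₀ := polar Q x' z with hs₀
  set t₀ := polar Q y' z with ht₀
  have hz : z = s₀ • x + t₀ • y := hcoord z hzW
  have hc' : c = s₀ ^ 2 + s₀ * t₀ + ζ * t₀ ^ 2 := by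
    rw [← hQz, hz, hQpair]
  let S : V →ₗ[F] F := QuadraticMap.polarBilin Q x'
  let Tt : V →ₗ[F] F := QuadraticMap.polarBilin Q y'
  refine ⟨(s₀ • S - (ζ * t₀) • Tt).smulRight x + (s₀ • Tt + t₀ • S + t₀ • Tt).smulRight y, ?_⟩
  intro w hw
  have hTw : ((s₀ • S - (ζ * t₀) • Tt).smulRight x + (s₀ • Tt + t₀ • S + t₀ • Tt).smulRight y) w
      = (s₀ * polar Q x' w - ζ * t₀ * polar Q y' w) • x
        + (s₀ * polar Q y' w + t₀ * polar Q x' w + t₀ * polar Q y' w) • y := by
    simp only [LinearMap.add_apply, LinearMap.smulRight_apply, LinearMap.sub_apply,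
      LinearMap.smul_apply, smul_eq_mul]
    rfl
  rw [hTw]
  refine ⟨W.add_mem (W.smul_mem _ hxW) (W.smul_mem _ hyW), ?_⟩
  rw [hQpair]
  conv_rhs => rw [hcoord w hw, hQpair]
  rw [hc']
  ring

/-- In even dimension every non-zero scalar is the multiplier of a similarity. -/
theorem exists_similarity [Finite F] [FiniteDimensional F V] {Q : QuadraticForm F V}
    (hQ : (QuadraticMap.polarBilin Q).Nondegenerate) (heven : Even (Module.finrank F V))
    (c : F) (hc : c ≠ 0) : ∃ g : V ≃ₗ[F] V, ∀ v, Q (g v) = c * Q v := by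
  classical
  obtain ⟨k, e, f, H, han⟩ := exists_maximal_hypFam hQ
  have hdim := finrank_perp H
  have hle := finrank_le_two_of_anisotropic Q (perp Q e f) han
  have hnd := perp_nondeg hQ H
  obtain ⟨r, hr⟩ := heven
  have hT : ∃ T : V →ₗ[F] V, ∀ w ∈ perp Q e f, T w ∈ perp Q e f ∧ Q (T w) = c * Q w := by
    rcases (show Module.finrank F (perp Q e f) = 0 ∨ Module.finrank F (perp Q e f) = 2 by omega)
      with h0 | h2
    · refine ⟨0, ?_⟩
      intro w hw
      have hbot : perp Q e f = ⊥ := Submodule.finrank_eq_zero.1 h0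
      rw [hbot, Submodule.mem_bot] at hw
      subst hw
      simp
    · exact exists_plane_similarity Q _ han h2 hnd c hc
  obtain ⟨T, hT⟩ := hT
  obtain ⟨g, hg⟩ := exists_similarity_aux H c T hT
  have hinj := similarity_injective hQ hc g hg
  refine ⟨LinearEquiv.ofInjectiveEndo g hinj, ?_⟩
  intro v
  rw [LinearEquiv.coe_ofInjectiveEndo]
  exact hg v

end QF2

end Cfsg.Agent.Lib.Helper5
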