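import Mathlib
import Cfsg.Prelude.Def_Classical
import Cfsg.Agent.Lib.Helper5.QF2
import Cfsg.Agent.S2616

set_option autoImplicit false

namespace Cfsg.Agent.Lib.Helper5

open QuadraticMap

section
variable {F V : Type*} [Field F] [AddCommGroup V] [Module F V]

/-- A non-degenerate quadratic form in even dimension over a finite field is isometric to the
standard plus-type form or to a standard minus-type form. -/
theorem exists_iso_plus_or_minus [Finite F] [FiniteDimensional F V] {m : ℕ} (hm : 1 ≤ m)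
    (hV : Module.finrank F V = 2 * m) (Q : QuadraticForm F V)
    (hQ : (QuadraticMap.polarBilin Q).Nondegenerate) :
    (∃ g : V ≃ₗ[F] (Fin m ⊕ Fin m → F), ∀ v, Q v = Cfsg.quadFormPlus m F (g v)) ∨
    (∃ ζ : F, (∀ t : F, t ^ 2 + t + ζ ≠ 0) ∧
      ∃ g : V ≃ₗ[F] ((Fin (m - 1) ⊕ Fin (m - 1)) ⊕ Fin 2 → F),
        ∀ v, Q v = Cfsg.quadFormMinus (m - 1) F 1 ζ (g v)) := by
  classical
  rcases Cfsg.Agent.S2616.result hm hV Q hQ with ⟨b, h1, h2, h3⟩ | ⟨b, ζ, hζ, k1, k2, k3, k4, hx, hxy, hy⟩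
  · left
    have H : HypFam Q m (fun i => b (Sum.inl i)) (fun i => b (Sum.inr i)) :=
      ⟨fun i => (h1 i).1, fun i => (h1 i).2, h2, fun i j => (h3 i j).1, fun i j => (h3 i j).2⟩
    refine ⟨b.equivFun, ?_⟩
    intro v
    have hv : v = ∑ i : Fin m, (b.equivFun v (Sum.inl i) • b (Sum.inl i)
        + b.equivFun v (Sum.inr i) • b (Sum.inr i)) := by
      conv_lhs => rw [← b.sum_equivFun v]
      rw [Fintype.sum_sum_type, Finset.sum_add_distrib]
    conv_lhs => rw [hv]
    rw [Q_hyp_sum H (fun i => b.equivFun v (Sum.inl i)) (fun i => b.equivFun v (Sum.inr i))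
      Finset.univ]
    rfl
  · right
    refine ⟨ζ, hζ, b.equivFun, ?_⟩
    intro v
    have H : HypFam Q (m - 1) (fun i => b (Sum.inl (Sum.inl i))) (fun i => b (Sum.inl (Sum.inr i))) :=
      ⟨fun i => (k1 i).1, fun i => (k1 i).2, k2, fun i j => (k3 i j).1, fun i j => (k3 i j).2⟩
    obtain ⟨c, hc⟩ : ∃ c : (Fin (m - 1) ⊕ Fin (m - 1)) ⊕ Fin 2 → F, c = b.equivFun v := ⟨_, rfl⟩
    obtain ⟨w, hw⟩ : ∃ w : V, w = c (Sum.inr 0) • b (Sum.inr 0) + c (Sum.inr 1) • b (Sum.inr 1) :=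
      ⟨_, rfl⟩
    have hwp : w ∈ perp Q (fun i => b (Sum.inl (Sum.inl i))) (fun i => b (Sum.inl (Sum.inr i))) := by
      rw [mem_perp]
      intro i
      rw [hw, polar_add_right, polar_add_right, polar_smul_right, polar_smul_right,
        polar_smul_right, polar_smul_right, (k4 i 0).1, (k4 i 1).1, (k4 i 0).2, (k4 i 1).2]
      simp
    have hv : v = w + ∑ i : Fin (m - 1), (c (Sum.inl (Sum.inl i)) • b (Sum.inl (Sum.inl i))
        + c (Sum.inl (Sum.inr i)) • b (Sum.inl (Sum.inr i))) := by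
      conv_lhs => rw [← b.sum_equivFun v]
      rw [← hc, Fintype.sum_sum_type, Fintype.sum_sum_type, Finset.sum_add_distrib,
        Fin.sum_univ_two, hw, add_comm]
    have hQw : Q w = c (Sum.inr 0) ^ 2 + 1 * c (Sum.inr 0) * c (Sum.inr 1)
        + ζ * c (Sum.inr 1) ^ 2 := by
      rw [hw, QuadraticMap.map_add (⇑Q) _ _, QuadraticMap.map_smul, QuadraticMap.map_smul,
        polar_smul_left, polar_smul_right, hx, hy, hxy]
      simp only [smul_eq_mul]
      ring
    conv_lhs => rw [hv]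
    rw [Q_add_hyp_sum H w hwp (fun i => c (Sum.inl (Sum.inl i))) (fun i => c (Sum.inl (Sum.inr i))),
      hQw, ← hc]
    unfold Cfsg.quadFormMinus
    ring

end

end Cfsg.Agent.Lib.Helper5
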