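import Mathlib

set_option autoImplicit false

namespace Cfsg.Agent.Lib.Helper5

open Module

section
variable {F : Type*} [Field F]

theorem finrank_map_add_finrank_inf_ker {V W : Type*} [AddCommGroup V] [Module F V]
    [AddCommGroup W] [Module F W] [FiniteDimensional F V]
    (U : Submodule F V) (f : V →ₗ[F] W) :
    finrank F (U.map f) + finrank F (U ⊓ LinearMap.ker f : Submodule F V) = finrank F U := by
  have h := LinearMap.finrank_range_add_finrank_ker (f.domRestrict U)
  rw [LinearMap.range_domRestrict, LinearMap.ker_domRestrict] at h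
  rw [← h, ← Submodule.finrank_map_subtype_eq U ((LinearMap.ker f).comap U.subtype),
    Submodule.map_comap_subtype]

variable {J : Type*}

/-- The quadratic map `Σ x_i y_i + N(z)`. -/
def hypAniso (N : (J → F) → F) (k : ℕ) (v : (Fin k ⊕ Fin k) ⊕ J → F) : F :=
  (∑ i : Fin k, v (.inl (.inl i)) * v (.inl (.inr i))) + N (fun j => v (.inr j))

/-- index map dropping the first hyperbolic pair -/
def dropIdx (k : ℕ) : (Fin k ⊕ Fin k) ⊕ J → (Fin (k + 1) ⊕ Fin (k + 1)) ⊕ J :=
  Sum.map (Sum.map Fin.succ Fin.succ) id

theorem hypAniso_succ (N : (J → F) → F) (k : ℕ) (v : (Fin (k + 1) ⊕ Fin (k + 1)) ⊕ J → F) :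
    hypAniso N (k + 1) v = v (.inl (.inl 0)) * v (.inl (.inr 0)) +
      hypAniso N k (LinearMap.funLeft F F (dropIdx k) v) := by
  unfold hypAniso
  rw [Fin.sum_univ_succ, add_assoc]
  rfl

theorem finrank_le_of_totallySingular [Finite J] (N : (J → F) → F) (hN : ∀ z, N z = 0 → z = 0) :
    ∀ (k : ℕ) (U : Submodule F ((Fin k ⊕ Fin k) ⊕ J → F)),
      (∀ u ∈ U, hypAniso N k u = 0) → finrank F U ≤ k := by
  classical
  intro k
  induction k with
  | zero =>
    intro U hU
    have : U = ⊥ := by
      rw [eq_bot_iff]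
      intro u hu
      have h1 := hU u hu
      unfold hypAniso at h1
      rw [Finset.univ_eq_empty, Finset.sum_empty, zero_add] at h1
      have h2 := hN _ h1
      rw [Submodule.mem_bot]
      ext s
      rcases s with (i | i) | j
      · exact i.elim0
      · exact i.elim0
      · exact congrFun h2 j
    rw [this, finrank_bot]
  | succ k ih =>
    intro U hU
    obtain ⟨π, hπ⟩ : ∃ π : ((Fin (k + 1) ⊕ Fin (k + 1)) ⊕ J → F) →ₗ[F] ((Fin k ⊕ Fin k) ⊕ J → F),
        π = LinearMap.funLeft F F (dropIdx k) := ⟨_, rfl⟩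
    obtain ⟨y₀, hy₀⟩ : ∃ y₀ : ((Fin (k + 1) ⊕ Fin (k + 1)) ⊕ J → F) →ₗ[F] F,
        y₀ = LinearMap.proj (Sum.inl (Sum.inr 0)) := ⟨_, rfl⟩
    have hform : ∀ v, hypAniso N (k + 1) v = v (.inl (.inl 0)) * y₀ v + hypAniso N k (π v) := by
      intro v; rw [hypAniso_succ, hπ, hy₀]; rfl
    obtain ⟨e, he⟩ : ∃ e : (Fin (k + 1) ⊕ Fin (k + 1)) ⊕ J → F,
        e = Pi.single (Sum.inl (Sum.inl 0)) 1 := ⟨_, rfl⟩
    have hπe : π e = 0 := by
      rw [hπ, he]
      ext s
      rw [LinearMap.funLeft_apply]
      rcases s with (i | i) | j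
      · show Pi.single (M := fun _ => F) (Sum.inl (Sum.inl 0)) (1 : F) (Sum.inl (Sum.inl i.succ)) = 0
        rw [Pi.single_apply, if_neg]
        intro h
        exact Fin.succ_ne_zero i (Sum.inl.inj (Sum.inl.inj h))
      · show Pi.single (M := fun _ => F) (Sum.inl (Sum.inl 0)) (1 : F) (Sum.inl (Sum.inr i.succ)) = 0
        rw [Pi.single_apply, if_neg]
        intro h
        exact Sum.inr_ne_inl (Sum.inl.inj h)
      · show Pi.single (M := fun _ => F) (Sum.inl (Sum.inl 0)) (1 : F) (Sum.inr j) = 0
        rw [Pi.single_apply, if_neg]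
        exact Sum.inr_ne_inl
    have hy₀e : y₀ e = 0 := by
      rw [hy₀, he, LinearMap.proj_apply, Pi.single_apply, if_neg]
      intro h
      exact Sum.inr_ne_inl (Sum.inl.inj h)
    have he0 : e (.inl (.inl 0)) = 1 := by rw [he, Pi.single_eq_same]
    -- kernel description
    have hker : ∀ v, π v = 0 → y₀ v = 0 → v = v (.inl (.inl 0)) • e := by
      intro v h1 h2
      ext s
      rw [Pi.smul_apply, smul_eq_mul]
      rcases s with (i | i) | j
      · refine Fin.cases ?_ (fun i' => ?_) i
        · rw [he0, mul_one]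
        · have := congrFun h1 (Sum.inl (Sum.inl i'))
          rw [hπ, LinearMap.funLeft_apply] at this
          have h3 : e (Sum.inl (Sum.inl i'.succ)) = 0 := by
            have := congrFun hπe (Sum.inl (Sum.inl i'))
            rw [hπ, LinearMap.funLeft_apply] at this
            exact this
          rw [h3, mul_zero]
          exact this
      · refine Fin.cases ?_ (fun i' => ?_) i
        · have h3 : e (Sum.inl (Sum.inr 0)) = 0 := by
            have := hy₀e; rw [hy₀, LinearMap.proj_apply] at this; exact this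
          rw [h3, mul_zero]
          rw [hy₀, LinearMap.proj_apply] at h2
          exact h2
        · have := congrFun h1 (Sum.inl (Sum.inr i'))
          rw [hπ, LinearMap.funLeft_apply] at this
          have h3 : e (Sum.inl (Sum.inr i'.succ)) = 0 := by
            have := congrFun hπe (Sum.inl (Sum.inr i'))
            rw [hπ, LinearMap.funLeft_apply] at this
            exact this
          rw [h3, mul_zero]
          exact this
      · have := congrFun h1 (Sum.inr j)
        rw [hπ, LinearMap.funLeft_apply] at this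
        have h3 : e (Sum.inr j) = 0 := by
          have := congrFun hπe (Sum.inr j)
          rw [hπ, LinearMap.funLeft_apply] at this
          exact this
        rw [h3, mul_zero]
        exact this
    -- U₀
    have hU₀ts : ∀ w ∈ (U ⊓ LinearMap.ker y₀).map π, hypAniso N k w = 0 := by
      rintro _ ⟨v, ⟨hvU, hvy⟩, rfl⟩
      have := hU v hvU
      rw [hform, LinearMap.mem_ker.mp hvy, mul_zero, zero_add] at this
      exact this
    have h1 := ih _ hU₀ts
    have h2 := finrank_map_add_finrank_inf_ker (U ⊓ LinearMap.ker y₀) π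
    have h3 := finrank_map_add_finrank_inf_ker U y₀
    have h4 : finrank F (U.map y₀) ≤ 1 := by
      have := Submodule.finrank_le (U.map y₀)
      rwa [finrank_self] at this
    have hle : (U ⊓ LinearMap.ker y₀ ⊓ LinearMap.ker π : Submodule F _) ≤ Submodule.span F {e} := by
      rintro v ⟨⟨-, hvy⟩, hvπ⟩
      rw [hker v (LinearMap.mem_ker.mp hvπ) (LinearMap.mem_ker.mp hvy)]
      exact Submodule.smul_mem _ _ (Submodule.mem_span_singleton_self e)
    have h5 : finrank F (U ⊓ LinearMap.ker y₀ ⊓ LinearMap.ker π : Submodule F _) ≤ 1 := by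
      have := Submodule.finrank_mono hle
      have he_ne : e ≠ 0 := by
        intro h0
        rw [h0] at he0
        exact zero_ne_one he0
      rw [finrank_span_singleton he_ne] at this
      exact this
    by_cases heU : e ∈ U
    · -- then U ≤ ker y₀
      have hUy : U ≤ LinearMap.ker y₀ := by
        intro u hu
        rw [LinearMap.mem_ker]
        have a1 := hU u hu
        have a2 := hU (u + e) (U.add_mem hu heU)
        rw [hform] at a1 a2
        rw [map_add, map_add, hπe, hy₀e, add_zero, add_zero, Pi.add_apply, he0] at a2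
        have : (u (Sum.inl (Sum.inl 0)) + 1) * y₀ u + hypAniso N k (π u) -
            (u (Sum.inl (Sum.inl 0)) * y₀ u + hypAniso N k (π u)) = 0 := by rw [a1, a2, sub_zero]
        have h6 : y₀ u = (u (Sum.inl (Sum.inl 0)) + 1) * y₀ u + hypAniso N k (π u) -
            (u (Sum.inl (Sum.inl 0)) * y₀ u + hypAniso N k (π u)) := by ring
        rw [h6, this]
      have h7 : U ⊓ LinearMap.ker y₀ = U := inf_eq_left.mpr hUy
      rw [h7] at h1 h2 h5
      omega
    · have h8 : (U ⊓ LinearMap.ker y₀ ⊓ LinearMap.ker π : Submodule F _) = ⊥ := by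
        rw [eq_bot_iff]
        rintro v ⟨⟨hvU, hvy⟩, hvπ⟩
        have h9 := hker v (LinearMap.mem_ker.mp hvπ) (LinearMap.mem_ker.mp hvy)
        rw [Submodule.mem_bot]
        by_contra hv0
        have hc : v (Sum.inl (Sum.inl 0)) ≠ 0 := by
          intro hc
          rw [hc, zero_smul] at h9
          exact hv0 h9
        apply heU
        have : e = (v (Sum.inl (Sum.inl 0)))⁻¹ • v := by
          rw [h9, Pi.smul_apply, he0, smul_eq_mul, mul_one, smul_smul, inv_mul_cancel₀ hc, one_smul]
        rw [this]
        exact U.smul_mem _ hvU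
      rw [h8, finrank_bot] at h2
      omega

end

end Cfsg.Agent.Lib.Helper5
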