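import Mathlib
import Cfsg.Prelude.Def_Classical
import Cfsg.Agent.Lib.Helper5.WittIndex

set_option autoImplicit false

namespace Cfsg.Agent.Lib.Helper5

open Module

section
variable {F : Type*} [Field F]

theorem aniso_of_irred (ζ : F) (hζ : ∀ t : F, t ^ 2 + t + ζ ≠ 0) :
    ∀ z : Fin 2 → F, z 0 ^ 2 + 1 * z 0 * z 1 + ζ * z 1 ^ 2 = 0 → z = 0 := by
  intro z hz
  by_cases h1 : z 1 = 0
  · rw [h1] at hz
    have h0 : z 0 = 0 := by
      have : z 0 ^ 2 = 0 := by linear_combination hz
      exact pow_eq_zero_iff (by norm_num) |>.mp this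
    ext i
    fin_cases i
    · exact h0
    · exact h1
  · exfalso
    apply hζ (z 0 / z 1)
    field_simp
    linear_combination hz

theorem quadFormMinus_eq_hypAniso (k : ℕ) (a b : F) (v : (Fin k ⊕ Fin k) ⊕ Fin 2 → F) :
    Cfsg.quadFormMinus k F a b v =
      hypAniso (fun z : Fin 2 → F => z 0 ^ 2 + a * z 0 * z 1 + b * z 1 ^ 2) k v := rfl

theorem finrank_le_of_ts_minus (k : ℕ) (a b : F)
    (hN : ∀ z : Fin 2 → F, z 0 ^ 2 + a * z 0 * z 1 + b * z 1 ^ 2 = 0 → z = 0)
    (U : Submodule F ((Fin k ⊕ Fin k) ⊕ Fin 2 → F))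
    (hU : ∀ u ∈ U, Cfsg.quadFormMinus k F a b u = 0) : finrank F U ≤ k :=
  finrank_le_of_totallySingular _ hN k U hU

theorem finrank_le_of_ts_plus (m : ℕ) (U : Submodule F (Fin m ⊕ Fin m → F))
    (hU : ∀ u ∈ U, Cfsg.quadFormPlus m F u = 0) : finrank F U ≤ m := by
  let E : (Fin m ⊕ Fin m → F) ≃ₗ[F] ((Fin m ⊕ Fin m) ⊕ Fin 0 → F) :=
    LinearEquiv.funCongrLeft F F (Equiv.sumEmpty (Fin m ⊕ Fin m) (Fin 0))
  have hE : ∀ (v : Fin m ⊕ Fin m → F) (s : Fin m ⊕ Fin m), E v (Sum.inl s) = v s := by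
    intro v s
    rfl
  have h1 : finrank F (U.map E.toLinearMap) ≤ m := by
    apply finrank_le_of_totallySingular (fun _ : Fin 0 → F => (0 : F))
      (fun z _ => Subsingleton.elim _ _) m
    rintro _ ⟨u, hu, rfl⟩
    have := hU u hu
    unfold hypAniso
    rw [add_zero]
    exact this
  rwa [LinearEquiv.finrank_map_eq] at h1

/-- The inclusion of the `x`-coordinates. -/
def plusIncl (m : ℕ) : (Fin m → F) →ₗ[F] (Fin m ⊕ Fin m → F) where
  toFun x := Sum.elim x 0
  map_add' x y := by ext (i | i) <;> simp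
  map_smul' c x := by ext (i | i) <;> simp

theorem plusIncl_injective (m : ℕ) : Function.Injective (plusIncl (F := F) m) := by
  intro x y h
  ext i
  exact congrFun h (Sum.inl i)

theorem quadFormPlus_plusIncl (m : ℕ) (x : Fin m → F) :
    Cfsg.quadFormPlus m F (plusIncl m x) = 0 := by
  unfold Cfsg.quadFormPlus plusIncl
  simp

theorem finrank_range_plusIncl (m : ℕ) :
    finrank F (LinearMap.range (plusIncl (F := F) m)) = m := by
  rw [LinearMap.finrank_range_of_inj (plusIncl_injective m), finrank_fin_fun]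

/-- The inclusion of the `x`-coordinates, minus-type space. -/
def minusIncl (k : ℕ) : (Fin k → F) →ₗ[F] ((Fin k ⊕ Fin k) ⊕ Fin 2 → F) where
  toFun x := Sum.elim (Sum.elim x 0) 0
  map_add' x y := by ext ((i | i) | i) <;> simp
  map_smul' c x := by ext ((i | i) | i) <;> simp

theorem minusIncl_injective (k : ℕ) : Function.Injective (minusIncl (F := F) k) := by
  intro x y h
  ext i
  exact congrFun h (Sum.inl (Sum.inl i))

theorem quadFormMinus_minusIncl (k : ℕ) (a b : F) (x : Fin k → F) :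
    Cfsg.quadFormMinus k F a b (minusIncl k x) = 0 := by
  unfold Cfsg.quadFormMinus minusIncl
  simp

theorem finrank_range_minusIncl (k : ℕ) :
    finrank F (LinearMap.range (minusIncl (F := F) k)) = k := by
  rw [LinearMap.finrank_range_of_inj (minusIncl_injective k), finrank_fin_fun]

end

end Cfsg.Agent.Lib.Helper5
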