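import Mathlib
import Cfsg.Prelude.Def_Classical
import Cfsg.Prelude.Def_LieClassical
import Cfsg.Agent.Lib.Helper5.OEmbed
import Cfsg.Agent.Lib.Helper5.QFIso
import Cfsg.Agent.Lib.Helper5.WittIndex2

set_option autoImplicit false

namespace Cfsg.Agent.Lib.Helper5

section
variable {K F : Type*} [Field K] [Fintype K] [Field F] [Fintype F] [Algebra F K]

/-- Every monic quadratic over `F` has a root in a quadratic extension `K` of `F`
(finite fields). -/
theorem exists_root_quadratic (hfr : Module.finrank F K = 2) (a b : F) :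
    ∃ r : K, r ^ 2 + algebraMap F K a * r + algebraMap F K b = 0 := by
  classical
  obtain ⟨f, hfdef⟩ : ∃ f : Polynomial F,
      f = Polynomial.X ^ 2 + (Polynomial.C a * Polynomial.X + Polynomial.C b) := ⟨_, rfl⟩
  have hdeg : (Polynomial.C a * Polynomial.X + Polynomial.C b).degree < ((2 : ℕ) : WithBot ℕ) :=
    lt_of_le_of_lt (Polynomial.degree_linear_le) (by norm_num)
  have hmon : f.Monic := by rw [hfdef]; exact Polynomial.monic_X_pow_add hdeg
  have hnat : f.natDegree = 2 := by
    rw [hfdef, Polynomial.natDegree_add_eq_left_of_degree_lt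
      (by rw [Polynomial.degree_X_pow]; exact hdeg), Polynomial.natDegree_X_pow]
  have heval : ∀ x : F, f.eval x = x ^ 2 + a * x + b := by
    intro x
    rw [hfdef]
    simp only [Polynomial.eval_add, Polynomial.eval_pow, Polynomial.eval_X, Polynomial.eval_mul,
      Polynomial.eval_C]
    ring
  have haeval : ∀ x : K, Polynomial.aeval x f = x ^ 2 + algebraMap F K a * x + algebraMap F K b := by
    intro x
    rw [hfdef]
    simp only [map_add, map_pow, Polynomial.aeval_X, map_mul, Polynomial.aeval_C]
    ring
  by_cases hroot : ∃ x : F, f.eval x = 0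
  · obtain ⟨x, hx⟩ := hroot
    refine ⟨algebraMap F K x, ?_⟩
    rw [heval] at hx
    rw [← map_pow, ← map_mul, ← map_add, ← map_add, hx, map_zero]
  · have hirr : Irreducible f := by
      rw [Polynomial.Monic.irreducible_iff_roots_eq_zero_of_degree_le_three hmon
        (by rw [hnat]) (by rw [hnat]; norm_num)]
      apply Multiset.eq_zero_of_forall_notMem
      intro x hx
      exact hroot ⟨x, (Polynomial.mem_roots hmon.ne_zero).1 hx⟩
    haveI : Fact (Irreducible f) := ⟨hirr⟩
    have hfin : Module.finrank F (AdjoinRoot f) = 2 := by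
      rw [(AdjoinRoot.powerBasis hmon.ne_zero).finrank, AdjoinRoot.powerBasis_dim, hnat]
    obtain ⟨φ⟩ := FiniteField.nonempty_algHom_of_finrank_dvd (F := F) (K := AdjoinRoot f) (L := K)
      (by rw [hfin, hfr])
    refine ⟨φ (AdjoinRoot.root f), ?_⟩
    have h1 : Polynomial.aeval (AdjoinRoot.root f) f = 0 := by
      rw [AdjoinRoot.aeval_eq, AdjoinRoot.mk_self]
    have h2 : Polynomial.aeval (φ (AdjoinRoot.root f)) f = 0 := by
      rw [Polynomial.aeval_algHom_apply, h1, map_zero]
    rw [← haeval]
    exact h2

/-- Fixed points of the `card F`-power Frobenius on `K` lie in `F`. -/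
theorem mem_range_of_pow_card_eq (x : K) (hx : x ^ Fintype.card F = x) :
    ∃ c : F, algebraMap F K c = x := by
  classical
  rw [← Set.mem_range, IsGalois.mem_range_algebraMap_iff_fixed]
  intro τ
  obtain ⟨n, hn⟩ := (FiniteField.bijective_frobeniusAlgEquivOfAlgebraic_pow F K).2 τ
  have hfix : (FiniteField.frobeniusAlgEquivOfAlgebraic F K) x = x := hx
  rw [← hn]
  show ((FiniteField.frobeniusAlgEquivOfAlgebraic F K) ^ (n : ℕ)) x = x
  rw [AlgEquiv.coe_pow]
  exact Function.iterate_fixed hfix _

/-- An anisotropic binary form over `F` is the norm form of the quadratic extension `K`. -/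
theorem exists_norm_iso (hfr : Module.finrank F K = 2) (a b : F)
    (hab : ∀ z₁ z₂ : F, z₁ ^ 2 + a * z₁ * z₂ + b * z₂ ^ 2 = 0 → z₁ = 0 ∧ z₂ = 0) :
    ∃ t : (Fin 2 → F) ≃ₗ[F] K, ∀ z, algebraMap F K (z 0 ^ 2 + a * z 0 * z 1 + b * z 1 ^ 2) =
      t z * (t z) ^ Fintype.card F := by
  classical
  obtain ⟨r, hr⟩ := exists_root_quadratic (K := K) hfr a b
  have hFpow : ∀ c : F, (algebraMap F K c) ^ Fintype.card F = algebraMap F K c := by
    intro c
    rw [← map_pow, FiniteField.pow_card]
  obtain ⟨s, hsdef⟩ : ∃ s : K, s = r ^ Fintype.card F := ⟨_, rfl⟩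
  have hfrob : ∀ x y : K, (x + y) ^ Fintype.card F = x ^ Fintype.card F + y ^ Fintype.card F := by
    intro x y
    exact map_add (FiniteField.frobeniusAlgHom F K) x y
  have hs : s ^ 2 + algebraMap F K a * s + algebraMap F K b = 0 := by
    have := congrArg (fun x : K => x ^ Fintype.card F) hr
    simp only [hfrob, mul_pow, hFpow, zero_pow (Fintype.card_ne_zero (α := F))] at this
    have h3 : (r ^ 2) ^ Fintype.card F = (r ^ Fintype.card F) ^ 2 := by
      rw [← pow_mul, ← pow_mul, mul_comm]
    rw [h3] at this
    rw [hsdef]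
    exact this
  have hrs : r ≠ s := by
    intro h
    have hr' : r ^ Fintype.card F = r := by rw [← hsdef]; exact h.symm
    obtain ⟨r0, hr0⟩ := mem_range_of_pow_card_eq r hr'
    have h1 : algebraMap F K (r0 ^ 2 + a * r0 * 1 + b * 1 ^ 2) = 0 := by
      rw [map_add, map_add, map_pow, map_mul, map_mul, map_mul, map_pow, map_one]
      have : (algebraMap F K) r0 = r := hr0
      rw [this]
      linear_combination hr
    have h2 := hab r0 1 ((algebraMap F K).injective (by rw [h1, map_zero]))
    exact one_ne_zero h2.2
  have hsum : r + s = - algebraMap F K a := by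
    have h0 : (r - s) * (r + s + algebraMap F K a) = 0 := by
      linear_combination hr - hs
    rcases mul_eq_zero.1 h0 with h | h
    · exact absurd (sub_eq_zero.1 h) hrs
    · linear_combination h
  have hprod : r * s = algebraMap F K b := by
    linear_combination (-1 : K) * hr + r * hsum
  let t0 : (Fin 2 → F) →ₗ[F] K :=
    { toFun := fun z => algebraMap F K (z 0) - algebraMap F K (z 1) * r
      map_add' := fun z z' => by
        simp only [Pi.add_apply, map_add]
        ring
      map_smul' := fun c z => by
        simp only [Pi.smul_apply, smul_eq_mul, map_mul, RingHom.id_apply, Algebra.smul_def]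
        ring }
  have ht0 : ∀ z, t0 z = algebraMap F K (z 0) - algebraMap F K (z 1) * r := fun z => rfl
  have hsub : ∀ x y : K, (x - y) ^ Fintype.card F = x ^ Fintype.card F - y ^ Fintype.card F := by
    intro x y
    have := hfrob (x - y) y
    rw [sub_add_cancel] at this
    rw [this]
    ring
  have hnorm : ∀ z, algebraMap F K (z 0 ^ 2 + a * z 0 * z 1 + b * z 1 ^ 2) =
      t0 z * (t0 z) ^ Fintype.card F := by
    intro z
    rw [ht0, hsub, mul_pow, hFpow, hFpow, ← hsdef]
    simp only [map_add, map_mul, map_pow]
    linear_combination (algebraMap F K (z 0) * algebraMap F K (z 1)) * hsum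
      - (algebraMap F K (z 1)) ^ 2 * hprod
  have hinj : Function.Injective t0 := by
    rw [← LinearMap.ker_eq_bot, LinearMap.ker_eq_bot']
    intro z hz
    have h1 := hnorm z
    rw [hz, zero_mul] at h1
    have h2 := hab (z 0) (z 1) ((algebraMap F K).injective (by rw [h1, map_zero]))
    ext i
    fin_cases i
    · exact h2.1
    · exact h2.2
  have hdim : Module.finrank F (Fin 2 → F) = Module.finrank F K := by
    rw [Module.finrank_fin_fun, hfr]
  refine ⟨LinearMap.linearEquivOfInjective t0 hinj hdim, ?_⟩
  intro z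
  rw [LinearMap.linearEquivOfInjective_apply]
  exact hnorm z

/-- The quadratic space over `F` attached to the standard hermitian form on `K^m`,
together with the action of the unitary group (for a given quadratic extension `K/F`). -/
theorem gu_quadratic_setup' (hfr : Module.finrank F K = 2) (m : ℕ) :
    ∃ (Q : QuadraticForm F (Fin m → K))
      (ρ : ↥(Cfsg.GU m K (Fintype.card F)) →* ((Fin m → K) ≃ₗ[F] (Fin m → K))),
      (QuadraticMap.polarBilin Q).Nondegenerate ∧ Function.Injective ρ ∧
      (∀ g v, Q (ρ g v) = Q v) ∧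
      (∀ u, algebraMap F K (Q u) = ∑ i, u i * (u i) ^ Fintype.card F) := by
  classical
  have hsep : ∀ x : K, (∀ c : K, Algebra.trace F K (c * x) = 0) → x = 0 := by
    intro x hx
    exact (traceForm_nondegenerate F K).2 x (fun c => hx c)
  obtain ⟨σ, hσdef⟩ : ∃ σ : K ≃ₐ[F] K, σ = FiniteField.frobeniusAlgEquivOfAlgebraic F K := ⟨_, rfl⟩
  have hσapply : ∀ x : K, σ x = x ^ Fintype.card F := by
    intro x; rw [hσdef]; rfl
  have hσord : orderOf σ = 2 := by
    rw [hσdef, FiniteField.orderOf_frobeniusAlgEquivOfAlgebraic, hfr]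
  have hσσ : ∀ x : K, σ (σ x) = x := by
    intro x
    have h2 : σ ^ 2 = 1 := by rw [← hσord]; exact pow_orderOf_eq_one σ
    have := congrArg (fun τ : K ≃ₐ[F] K => τ x) h2
    simpa [pow_two, AlgEquiv.mul_apply] using this
  have htr : ∀ y : K, algebraMap F K (Algebra.trace F K y) = y + σ y := by
    intro y
    rw [FiniteField.algebraMap_trace_eq_sum_pow, hfr, Finset.sum_range_succ, Finset.sum_range_one,
      pow_zero, pow_one, pow_one, Nat.card_eq_fintype_card, hσapply]
  obtain ⟨θ, hθ⟩ := Algebra.trace_surjective F K (1 : F)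
  have hθ' : θ + σ θ = 1 := by rw [← htr, hθ, map_one]
  let C : LinearMap.BilinForm F (Fin m → K) :=
    LinearMap.mk₂ F (fun u v => Algebra.trace F K (θ * ∑ i, u i * σ (v i)))
      (fun u u' v => by
        simp only [Pi.add_apply, add_mul, Finset.sum_add_distrib, mul_add, map_add])
      (fun c u v => by
        simp only [Pi.smul_apply, smul_mul_assoc, ← Finset.smul_sum, mul_smul_comm, map_smul])
      (fun u v v' => by
        simp only [Pi.add_apply, map_add, mul_add, Finset.sum_add_distrib])
      (fun c u v => by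
        simp only [Pi.smul_apply, map_smul, mul_smul_comm, ← Finset.smul_sum])
  have hCdef : ∀ u v, C u v = Algebra.trace F K (θ * ∑ i, u i * σ (v i)) := fun u v => rfl
  have hσh : ∀ u v : Fin m → K, σ (∑ i, u i * σ (v i)) = ∑ i, v i * σ (u i) := by
    intro u v
    rw [map_sum]
    apply Finset.sum_congr rfl
    intro i _
    rw [map_mul, hσσ, mul_comm]
  have hpolar : ∀ u v, C u v + C v u = Algebra.trace F K (∑ i, u i * σ (v i)) := by
    intro u v
    apply (algebraMap F K).injective
    rw [map_add, hCdef, hCdef, htr, htr, htr, map_mul, map_mul, hσh, hσh]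
    linear_combination (∑ i, u i * σ (v i) + ∑ i, v i * σ (u i)) * hθ'
  let Q : QuadraticForm F (Fin m → K) := LinearMap.BilinMap.toQuadraticMap C
  have hQdef : ∀ u, Q u = C u u := fun u => rfl
  have hleft : ∀ u, (∀ v, QuadraticMap.polarBilin Q u v = 0) → u = 0 := by
    intro u hu
    ext j
    apply hsep
    intro c
    have := hu (Pi.single j (σ.symm c))
    rw [QuadraticMap.polarBilin_apply_apply, LinearMap.BilinMap.polar_toQuadraticMap, hpolar,
      Finset.sum_eq_single j] at this
    · rw [Pi.single_eq_same, AlgEquiv.apply_symm_apply, mul_comm] at this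
      exact this
    · intro i _ hij
      rw [Pi.single_eq_of_ne hij, map_zero, mul_zero]
    · intro h; exact absurd (Finset.mem_univ _) h
  have hQnd : (QuadraticMap.polarBilin Q).Nondegenerate := by
    refine ⟨hleft, ?_⟩
    intro y hy
    apply hleft
    intro u
    have := hy u
    rw [QuadraticMap.polarBilin_apply_apply, QuadraticMap.polar_comm] at this
    exact this
  let ρ : ↥(Cfsg.GU m K (Fintype.card F)) →* ((Fin m → K) ≃ₗ[F] (Fin m → K)) :=
    MonoidHom.mk' (fun g =>
      { toFun := fun v => ((g : GL (Fin m) K) : Matrix (Fin m) (Fin m) K).mulVec v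
        invFun := fun v => (((g : GL (Fin m) K)⁻¹ : GL (Fin m) K) : Matrix (Fin m) (Fin m) K).mulVec v
        map_add' := fun v v' => Matrix.mulVec_add _ v v'
        map_smul' := fun c v => Matrix.mulVec_smul _ c v
        left_inv := fun v => by
          beta_reduce
          rw [Matrix.mulVec_mulVec, ← Units.val_mul, inv_mul_cancel, Units.val_one,
            Matrix.one_mulVec]
        right_inv := fun v => by
          beta_reduce
          rw [Matrix.mulVec_mulVec, ← Units.val_mul, mul_inv_cancel, Units.val_one,
            Matrix.one_mulVec] })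
      (fun g g' => by
        apply LinearEquiv.ext
        intro v
        show (((g * g' : ↥(Cfsg.GU m K (Fintype.card F))) : GL (Fin m) K) : Matrix (Fin m) (Fin m) K).mulVec v
          = ((g : GL (Fin m) K) : Matrix (Fin m) (Fin m) K).mulVec
            (((g' : GL (Fin m) K) : Matrix (Fin m) (Fin m) K).mulVec v)
        rw [Matrix.mulVec_mulVec, Subgroup.coe_mul, Units.val_mul])
  have hρapply : ∀ g v, ρ g v = ((g : GL (Fin m) K) : Matrix (Fin m) (Fin m) K).mulVec v :=
    fun g v => rfl
  have hρ : Function.Injective ρ := by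
    intro g g' h
    apply Subtype.ext
    apply Units.ext
    apply Matrix.toLin'.injective
    apply LinearMap.ext
    intro v
    rw [Matrix.toLin'_apply, Matrix.toLin'_apply, ← hρapply, ← hρapply, h]
  have hpres : ∀ g u v, C (ρ g u) (ρ g v) = C u v := by
    intro g u v
    rw [hCdef, hCdef, hρapply, hρapply]
    have := g.2 u v
    have h2 : ∑ i, ((g : GL (Fin m) K) : Matrix (Fin m) (Fin m) K).mulVec u i *
        σ (((g : GL (Fin m) K) : Matrix (Fin m) (Fin m) K).mulVec v i) = ∑ i, u i * σ (v i) := by
      simp only [hσapply]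
      exact this
    rw [h2]
  refine ⟨Q, ρ, hQnd, hρ, fun g v => hpres g v v, ?_⟩
  intro u
  have h9 : ∑ i, u i * (u i) ^ Fintype.card F = ∑ i, u i * σ (u i) := by
    simp only [hσapply]
  rw [h9, hQdef, hCdef, htr, map_mul, hσh]
  linear_combination (∑ i, u i * σ (u i)) * hθ'


/-- In even dimension `k`, the quadratic form of the hermitian form is of plus type. -/
theorem herm_even_iso (hfr : Module.finrank F K = 2) (k : ℕ) (hk : Even k)
    (Q : QuadraticForm F (Fin k → K)) (hQnd : (QuadraticMap.polarBilin Q).Nondegenerate)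
    (hQh : ∀ u, algebraMap F K (Q u) = ∑ i, u i * (u i) ^ Fintype.card F) :
    ∃ g : (Fin k → K) ≃ₗ[F] (Fin k ⊕ Fin k → F), ∀ v, Q v = Cfsg.quadFormPlus k F (g v) := by
  classical
  rcases Nat.eq_zero_or_pos k with rfl | hkpos
  · refine ⟨LinearEquiv.ofSubsingleton _ _, ?_⟩
    intro v
    have hv : v = 0 := Subsingleton.elim _ _
    rw [hv, map_zero]
    simp [Cfsg.quadFormPlus]
  have hk1 : 1 ≤ k := hkpos
  have hV : Module.finrank F (Fin k → K) = 2 * k := by
    rw [Module.finrank_pi_fintype]
    simp only [hfr, Finset.sum_const, Finset.card_univ, Fintype.card_fin, smul_eq_mul]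
    ring
  rcases exists_iso_plus_or_minus hk1 hV Q hQnd with ⟨g, hg⟩ | ⟨ζ, hζ, g, hg⟩
  · exact ⟨g, hg⟩
  · exfalso
    obtain ⟨j, rfl⟩ := hk
    obtain ⟨μ, hμ⟩ := FiniteField.norm_surjective F K (-1 : F)
    have hμ' : μ * μ ^ Fintype.card F = -1 := by
      have := FiniteField.algebraMap_norm_eq_prod_pow F K μ
      rw [hμ, hfr, Finset.prod_range_succ, Finset.prod_range_one, pow_zero, pow_one, pow_one,
        Nat.card_eq_fintype_card, map_neg, map_one] at this
      exact this.symm
    let ι₀ : (Fin j → K) →ₗ[F] (Fin (j + j) → K) :=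
      { toFun := fun x => Fin.append x (μ • x)
        map_add' := fun x y => by
          ext i
          refine Fin.addCases (fun j => ?_) (fun j => ?_) i
          · simp only [Pi.add_apply, Fin.append_left]
          · simp only [Pi.add_apply, Fin.append_right, Pi.smul_apply, smul_eq_mul, mul_add]
        map_smul' := fun c x => by
          ext i
          refine Fin.addCases (fun j => ?_) (fun j => ?_) i
          · simp only [Pi.smul_apply, Fin.append_left, RingHom.id_apply]
          · simp only [Pi.smul_apply, Fin.append_right, RingHom.id_apply, smul_eq_mul,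
              mul_smul_comm] }
    have hι₀ : ∀ x, ι₀ x = Fin.append x (μ • x) := fun x => rfl
    have hinj : Function.Injective ι₀ := by
      intro x y h
      ext i
      have := congrFun h (Fin.castAdd j i)
      rw [hι₀, hι₀, Fin.append_left, Fin.append_left] at this
      exact this
    have hts : ∀ x, Q (ι₀ x) = 0 := by
      intro x
      apply (algebraMap F K).injective
      rw [hQh, map_zero, Fin.sum_univ_add, hι₀]
      simp only [Fin.append_left, Fin.append_right, Pi.smul_apply, smul_eq_mul, mul_pow]
      rw [← Finset.sum_add_distrib]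
      apply Finset.sum_eq_zero
      intro i _
      have : x i * x i ^ Fintype.card F + μ * x i * (μ ^ Fintype.card F * x i ^ Fintype.card F)
          = (1 + μ * μ ^ Fintype.card F) * (x i * x i ^ Fintype.card F) := by
        ring
      rw [this, hμ']
      ring
    have hdimU : Module.finrank F (LinearMap.range ι₀) = j + j := by
      rw [LinearMap.finrank_range_of_inj hinj, Module.finrank_pi_fintype]
      simp only [hfr, Finset.sum_const, Finset.card_univ, Fintype.card_fin, smul_eq_mul]
      ring
    have h1 : Module.finrank F ((LinearMap.range ι₀).map g.toLinearMap) ≤ j + j - 1 := by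
      apply finrank_le_of_ts_minus (j + j - 1) 1 ζ (aniso_of_irred ζ hζ)
      rintro _ ⟨_, ⟨x, rfl⟩, rfl⟩
      have := hg (ι₀ x)
      rw [hts] at this
      exact this.symm
    rw [LinearEquiv.finrank_map_eq, hdimU] at h1
    omega

end

end Cfsg.Agent.Lib.Helper5
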