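import Mathlib
import Cfsg.Prelude.Def_Classical
import Cfsg.Agent.Lib.Helper5.OEmbed2
import Cfsg.Agent.Lib.Helper2.HermField
import Cfsg.Agent.Lib.Helper6.MaxClass2c

set_option autoImplicit false

namespace Cfsg.Agent.Lib.Helper5

section
variable {F W : Type*} [Field F] [AddCommGroup W] [Module F W] {ι : Type} [Fintype ι]
  [DecidableEq ι]

/-- `GL_ι(F)` as the automorphism group of a space `W` with coordinates `e`. -/
noncomputable def glEquivAut (e : W ≃ₗ[F] (ι → F)) : GL ι F ≃* (W ≃ₗ[F] W) :=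
  Matrix.GeneralLinearGroup.toLin.trans
    ((Units.mapEquiv (LinearEquiv.conjAlgEquiv F e.symm).toMulEquiv).trans
      (LinearMap.GeneralLinearGroup.generalLinearEquiv F W))

theorem glEquivAut_apply (e : W ≃ₗ[F] (ι → F)) (A : GL ι F) (w : W) :
    glEquivAut e A w = e.symm ((A : Matrix ι ι F).mulVec (e w)) := rfl

/-- The group of linear automorphisms preserving a function `Q`. -/
def isoSub (Q : W → F) : Subgroup (W ≃ₗ[F] W) where
  carrier := {g | ∀ v, Q (g v) = Q v}
  mul_mem' := by
    intro a b ha hb v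
    rw [LinearEquiv.mul_apply, ha, hb]
  one_mem' := fun v => rfl
  inv_mem' := by
    intro a ha v
    have h1 := ha (a⁻¹ v)
    have h2 : a (a⁻¹ v) = v := by
      rw [← LinearEquiv.mul_apply, mul_inv_cancel]
      rfl
    rw [h2] at h1
    exact h1.symm

theorem mem_isoSub (Q : W → F) (g : W ≃ₗ[F] W) : g ∈ isoSub Q ↔ ∀ v, Q (g v) = Q v := Iff.rfl

theorem map_isometryGroup (Q : W → F) (Qstd : (ι → F) → F) (e : W ≃ₗ[F] (ι → F))
    (he : ∀ v, Q v = Qstd (e v)) :
    (Cfsg.isometryGroup F Qstd).map (glEquivAut e).toMonoidHom = isoSub Q := by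
  ext g
  constructor
  · rintro ⟨A, hA, rfl⟩
    intro v
    show Q (e.symm ((A : Matrix ι ι F).mulVec (e v))) = Q v
    rw [he, he, LinearEquiv.apply_symm_apply]
    exact hA (e v) (e v)
  · intro hg
    refine ⟨(glEquivAut e).symm g, ?_, by simp⟩
    intro u _
    have h1 : glEquivAut e ((glEquivAut e).symm g) (e.symm u) = g (e.symm u) := by
      rw [MulEquiv.apply_symm_apply]
    rw [glEquivAut_apply, LinearEquiv.apply_symm_apply] at h1
    have h3 : (((glEquivAut e).symm g : GL ι F) : Matrix ι ι F).mulVec u = e (g (e.symm u)) := by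
      rw [← h1, LinearEquiv.apply_symm_apply]
    show Qstd ((((glEquivAut e).symm g : GL ι F) : Matrix ι ι F).mulVec u) = Qstd u
    rw [h3, ← he, hg, he, LinearEquiv.apply_symm_apply]

/-- The isometry group of the standard form is isomorphic to the group of isometries of any
isometric space. -/
theorem nonempty_isometryGroup_equiv (Q : W → F) (Qstd : (ι → F) → F) (e : W ≃ₗ[F] (ι → F))
    (he : ∀ v, Q v = Qstd (e v)) :
    Nonempty (↥(Cfsg.isometryGroup F Qstd) ≃* ↥(isoSub Q)) :=
  ⟨((glEquivAut e).subgroupMap (Cfsg.isometryGroup F Qstd)).trans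
    (MulEquiv.subgroupCongr (map_isometryGroup Q Qstd e he))⟩

end

section
variable {F K : Type*} [Field F] [Fintype F] [Field K] [Fintype K] [Algebra F K]

open Cfsg.Agent.Lib.Helper2.Herm

/-- The isometry group of the norm form of a quadratic extension of finite fields is dihedral. -/
theorem normForm_dihedral (hfr : Module.finrank F K = 2) (Q : K → F)
    (hQ : ∀ x, algebraMap F K (Q x) = x * x ^ Fintype.card F) [Finite ↥(isoSub Q)] :
    Nonempty (↥(isoSub Q) ≃* DihedralGroup (Fintype.card F + 1)) := by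
  classical
  obtain ⟨q, hq⟩ : ∃ q, q = Fintype.card F := ⟨_, rfl⟩
  rw [← hq] at hQ ⊢
  have hK : Fintype.card K = q ^ 2 := by
    rw [Module.card_eq_pow_finrank (K := F) (V := K), hfr, hq]
  have hq1 : 1 < q := one_lt_q hK
  have hmemG : ∀ g : K ≃ₗ[F] K, g ∈ isoSub Q ↔ ∀ x, g x * (g x) ^ q = x * x ^ q := by
    intro g
    rw [mem_isoSub]
    constructor
    · intro h x
      rw [← hQ, ← hQ, h]
    · intro h x
      apply (algebraMap F K).injective
      rw [hQ, hQ, h]
  have hqq : ∀ x : K, (x ^ q) ^ q = x := fun x => Cfsg.Agent.S0779.pow_q_q hK x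
  have hadd : ∀ x y : K, (x + y) ^ q = x ^ q + y ^ q := fun x y => Cfsg.Agent.S0779.add_pow_q hK x y
  -- rotations
  let rot : Kˣ →* (K ≃ₗ[F] K) := DistribMulAction.toModuleAut F K
  have hrot : ∀ (u : Kˣ) (x : K), rot u x = (u : K) * x := fun u x => rfl
  have hrotinj : Function.Injective rot := by
    intro u v huv
    apply Units.ext
    have := congrArg (fun g : K ≃ₗ[F] K => g 1) huv
    simpa [hrot] using this
  let U₁ : Subgroup Kˣ :=
    { carrier := {d | (d : K) * (d : K) ^ q = 1}
      mul_mem' := by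
        intro a b ha hb
        have ha' : (a : K) * (a : K) ^ q = 1 := ha
        have hb' : (b : K) * (b : K) ^ q = 1 := hb
        show ((a * b : Kˣ) : K) * ((a * b : Kˣ) : K) ^ q = 1
        rw [Units.val_mul, mul_pow]
        calc (a : K) * (b : K) * ((a : K) ^ q * (b : K) ^ q)
            = ((a : K) * (a : K) ^ q) * ((b : K) * (b : K) ^ q) := by ring
          _ = 1 := by rw [ha', hb', one_mul]
      one_mem' := by
        show ((1 : Kˣ) : K) * ((1 : Kˣ) : K) ^ q = 1
        simp
      inv_mem' := by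
        intro a ha
        have ha' : (a : K) * (a : K) ^ q = 1 := ha
        show ((a⁻¹ : Kˣ) : K) * ((a⁻¹ : Kˣ) : K) ^ q = 1
        rw [Units.val_inv_eq_inv_val, inv_pow, ← mul_inv, ha', inv_one] }
  have hU₁mem : ∀ d : Kˣ, d ∈ U₁ ↔ (d : K) * (d : K) ^ q = 1 := fun d => Iff.rfl
  have hU₁card : Nat.card U₁ = q + 1 := by
    rw [← card_norm_fiber hK 1 (one_pow _) one_ne_zero]
    apply Nat.card_congr
    refine
      { toFun := fun d => ⟨((d : Kˣ) : K), d.2⟩
        invFun := fun x => ⟨Units.mk0 (x : K) (by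
          intro h0
          have := x.2
          rw [h0, zero_mul] at this
          exact zero_ne_one this), x.2⟩
        left_inv := fun d => by
          apply Subtype.ext
          apply Units.ext
          rfl
        right_inv := fun x => rfl }
  have hrotmem : ∀ u : Kˣ, u ∈ U₁ → rot u ∈ isoSub Q := by
    intro u hu
    rw [hmemG]
    intro x
    rw [hrot, mul_pow]
    have hu' : (u : K) * (u : K) ^ q = 1 := hu
    calc (u : K) * x * ((u : K) ^ q * x ^ q) = ((u : K) * (u : K) ^ q) * (x * x ^ q) := by ring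
      _ = x * x ^ q := by rw [hu', one_mul]
  -- the reflection
  let σ' : K ≃ₗ[F] K := (FiniteField.frobeniusAlgEquivOfAlgebraic F K).toLinearEquiv
  have hσ' : ∀ x : K, σ' x = x ^ q := by
    intro x
    rw [hq]
    rfl
  have hσ'mem : σ' ∈ isoSub Q := by
    rw [hmemG]
    intro x
    rw [hσ', hqq, mul_comm]
  have hσ'ne : ∃ x : K, x ^ q ≠ x := by
    by_contra hcon
    have hall : ∀ x : K, x ^ q = x := by
      intro x
      by_contra h
      exact hcon ⟨x, h⟩
    have hsurj : Function.Surjective (algebraMap F K) := by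
      intro x
      exact mem_range_of_pow_card_eq x (by rw [← hq]; exact hall x)
    have := Fintype.card_le_of_surjective _ hsurj
    rw [hK, ← hq] at this
    nlinarith
  -- classification
  have hclass : ∀ g ∈ isoSub Q, ∃ u : Kˣ, u ∈ U₁ ∧ (g = rot u ∨ g = rot u * σ') := by
    intro g hg
    rw [hmemG] at hg
    have hu0 : g 1 * (g 1) ^ q = 1 := by
      rw [hg 1, one_pow, mul_one]
    have hu0ne : g 1 ≠ 0 := by
      intro h0
      rw [h0, zero_mul] at hu0
      exact zero_ne_one hu0
    obtain ⟨h, hhdef⟩ : ∃ h : K → K, h = fun x => (g 1)⁻¹ * g x := ⟨_, rfl⟩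
    have hh : ∀ x, h x = (g 1)⁻¹ * g x := fun x => by rw [hhdef]
    have hhN : ∀ x, h x * (h x) ^ q = x * x ^ q := by
      intro x
      rw [hh, mul_pow, inv_pow]
      calc (g 1)⁻¹ * g x * (((g 1) ^ q)⁻¹ * (g x) ^ q)
          = (g 1 * (g 1) ^ q)⁻¹ * (g x * (g x) ^ q) := by rw [mul_inv]; ring
        _ = x * x ^ q := by rw [hu0, inv_one, one_mul, hg x]
    have hhadd : ∀ x y, h (x + y) = h x + h y := by
      intro x y
      rw [hh, hh, hh, map_add, mul_add]
    have hh1 : h 1 = 1 := by rw [hh, inv_mul_cancel₀ hu0ne]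
    have htr : ∀ x, h x + (h x) ^ q = x + x ^ q := by
      intro x
      have h1 := hhN (x + 1)
      rw [hhadd, hh1, hadd, hadd, one_pow] at h1
      have h2 := hhN x
      linear_combination h1 - h2
    have hor : ∀ x, h x = x ∨ h x = x ^ q := by
      intro x
      have h0 : (h x - x) * (h x - x ^ q) = 0 := by
        linear_combination (h x) * htr x - hhN x
      rcases mul_eq_zero.1 h0 with h1 | h1
      · left; exact sub_eq_zero.1 h1
      · right; exact sub_eq_zero.1 h1
    have hcases : (∀ x, h x = x) ∨ (∀ x, h x = x ^ q) := by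
      by_contra hcon
      rw [not_or] at hcon
      obtain ⟨hc1, hc2⟩ := hcon
      rw [not_forall] at hc1 hc2
      obtain ⟨x₁, hx₁⟩ := hc1
      obtain ⟨x₂, hx₂⟩ := hc2
      have e1 : h x₁ = x₁ ^ q := (hor x₁).resolve_left hx₁
      have e2 : h x₂ = x₂ := (hor x₂).resolve_right hx₂
      rcases hor (x₁ + x₂) with h3 | h3
      · rw [hhadd, e1, e2] at h3
        apply hx₁
        rw [e1]
        linear_combination h3
      · rw [hhadd, e1, e2, hadd] at h3
        apply hx₂
        rw [e2]
        linear_combination h3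
    refine ⟨Units.mk0 (g 1) hu0ne, hu0, ?_⟩
    rcases hcases with hc | hc
    · left
      apply LinearEquiv.ext
      intro x
      rw [hrot]
      show g x = g 1 * x
      have h5 := hc x
      rw [hh] at h5
      calc g x = g 1 * ((g 1)⁻¹ * g x) := (mul_inv_cancel_left₀ hu0ne _).symm
        _ = g 1 * x := by rw [h5]
    · right
      apply LinearEquiv.ext
      intro x
      rw [LinearEquiv.mul_apply, hrot, hσ']
      show g x = g 1 * x ^ q
      have h5 := hc x
      rw [hh] at h5
      calc g x = g 1 * ((g 1)⁻¹ * g x) := (mul_inv_cancel_left₀ hu0ne _).symm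
        _ = g 1 * x ^ q := by rw [h5]
  -- cardinality
  have hcard : Nat.card ↥(isoSub Q) = 2 * (q + 1) := by
    have h1 : Nat.card (U₁ ⊕ U₁) = 2 * (q + 1) := by
      rw [Nat.card_sum, hU₁card]
      ring
    rw [← h1]
    symm
    apply Nat.card_congr
    refine Equiv.ofBijective (fun s => Sum.elim (fun u : U₁ => (⟨rot u, hrotmem u u.2⟩ : ↥(isoSub Q)))
      (fun u : U₁ => ⟨rot u * σ', Subgroup.mul_mem _ (hrotmem u u.2) hσ'mem⟩) s) ⟨?_, ?_⟩
    · rintro (u | u) (v | v) huv
      · have h2 : rot (u : Kˣ) = rot (v : Kˣ) := congrArg Subtype.val huv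
        rw [Subtype.ext (hrotinj h2)]
      · exfalso
        have h2 : rot (u : Kˣ) = rot (v : Kˣ) * σ' := congrArg Subtype.val huv
        have h3 := congrArg (fun g : K ≃ₗ[F] K => g 1) h2
        simp only [LinearEquiv.mul_apply, hrot, hσ', one_pow, mul_one] at h3
        obtain ⟨x, hx⟩ := hσ'ne
        apply hx
        have h4 := congrArg (fun g : K ≃ₗ[F] K => g x) h2
        simp only [LinearEquiv.mul_apply, hrot, hσ'] at h4
        rw [h3] at h4
        exact (mul_left_cancel₀ (v : Kˣ).ne_zero h4).symm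
      · exfalso
        have h2 : rot (u : Kˣ) * σ' = rot (v : Kˣ) := congrArg Subtype.val huv
        have h3 := congrArg (fun g : K ≃ₗ[F] K => g 1) h2
        simp only [LinearEquiv.mul_apply, hrot, hσ', one_pow, mul_one] at h3
        obtain ⟨x, hx⟩ := hσ'ne
        apply hx
        have h4 := congrArg (fun g : K ≃ₗ[F] K => g x) h2
        simp only [LinearEquiv.mul_apply, hrot, hσ'] at h4
        rw [h3] at h4
        exact mul_left_cancel₀ (v : Kˣ).ne_zero h4
      · have h2 : rot (u : Kˣ) * σ' = rot (v : Kˣ) * σ' := congrArg Subtype.val huv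
        have h3 : rot (u : Kˣ) = rot (v : Kˣ) := mul_right_cancel h2
        rw [Subtype.ext (hrotinj h3)]
    · rintro ⟨g, hg⟩
      obtain ⟨u, hu, h | h⟩ := hclass g hg
      · exact ⟨Sum.inl ⟨u, hu⟩, Subtype.ext h.symm⟩
      · exact ⟨Sum.inr ⟨u, hu⟩, Subtype.ext h.symm⟩
  -- a generator of the rotations
  haveI : IsCyclic U₁ := inferInstance
  obtain ⟨γ', hγ'⟩ := IsCyclic.exists_generator (α := U₁)
  have hγ'ord : orderOf γ' = q + 1 := by
    rw [orderOf_eq_card_of_forall_mem_zpowers hγ', hU₁card]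
  obtain ⟨γ, hγdef⟩ : ∃ γ : Kˣ, γ = (γ' : Kˣ) := ⟨_, rfl⟩
  have hγU : γ ∈ U₁ := by rw [hγdef]; exact γ'.2
  have hγord : orderOf γ = q + 1 := by
    rw [hγdef, Subgroup.orderOf_coe, hγ'ord]
  have hγnorm : (γ : K) * (γ : K) ^ q = 1 := hγU
  apply Cfsg.Agent.Lib.Helper6.nonempty_mulEquiv_dihedral_of_rel (q + 1) (by omega)
    (⟨rot γ, hrotmem γ hγU⟩ : ↥(isoSub Q)) ⟨σ', hσ'mem⟩
  · rw [Subgroup.orderOf_mk, orderOf_injective rot hrotinj, hγord]
  · intro hmem
    obtain ⟨k, hk⟩ := Subgroup.mem_zpowers_iff.1 hmem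
    have h1 : (rot γ) ^ k = σ' := by
      have := congrArg Subtype.val hk
      rw [Subgroup.coe_zpow] at this
      exact this
    rw [← map_zpow] at h1
    have h3 := congrArg (fun g : K ≃ₗ[F] K => g 1) h1
    simp only [hrot, hσ', one_pow, mul_one] at h3
    obtain ⟨x, hx⟩ := hσ'ne
    apply hx
    have h4 := congrArg (fun g : K ≃ₗ[F] K => g x) h1
    simp only [hrot, hσ'] at h4
    rw [h3, one_mul] at h4
    exact h4.symm
  · apply Subtype.ext
    show σ' ^ 2 = 1
    apply LinearEquiv.ext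
    intro x
    rw [pow_two, LinearEquiv.mul_apply, hσ', hσ', hqq]
    rfl
  · have hba : (⟨σ', hσ'mem⟩ : ↥(isoSub Q)) * ⟨rot γ, hrotmem γ hγU⟩ =
        (⟨rot γ, hrotmem γ hγU⟩ : ↥(isoSub Q))⁻¹ * ⟨σ', hσ'mem⟩ := by
      apply Subtype.ext
      show σ' * rot γ = (rot γ)⁻¹ * σ'
      rw [← map_inv]
      apply LinearEquiv.ext
      intro x
      rw [LinearEquiv.mul_apply, LinearEquiv.mul_apply, hrot, hrot, hσ', hσ', mul_pow,
        Units.val_inv_eq_inv_val]
      have hγ0 : (γ : K) ≠ 0 := γ.ne_zero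
      have : (γ : K) ^ q = (γ : K)⁻¹ := by
        field_simp
        rw [mul_comm]
        exact hγnorm
      rw [this]
    rw [mul_inv_eq_iff_eq_mul]
    exact hba
  · exact hcard

end

end Cfsg.Agent.Lib.Helper5
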