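import Mathlib
import Cfsg.Prelude.Def_ClassicalGeometry
import Cfsg.Agent.S0752

set_option autoImplicit false

namespace Cfsg.Agent.Lib.Helper5

section pres
variable {F U : Type*} [Field F] [AddCommGroup U] [Module F U]

/-- linear automorphisms preserving a two-variable function -/
def presGrp (β : U → U → F) : Subgroup (U ≃ₗ[F] U) where
  carrier := {g | ∀ u v, β (g u) (g v) = β u v}
  mul_mem' := by
    intro a b ha hb u v
    rw [LinearEquiv.mul_apply, LinearEquiv.mul_apply, ha, hb]
  one_mem' := by intro u v; rfl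
  inv_mem' := by
    intro a ha u v
    have h := ha (a⁻¹ u) (a⁻¹ v)
    rw [← LinearEquiv.mul_apply, ← LinearEquiv.mul_apply, mul_inv_cancel] at h
    exact h.symm

theorem mem_presGrp {β : U → U → F} {g : U ≃ₗ[F] U} :
    g ∈ presGrp β ↔ ∀ u v, β (g u) (g v) = β u v := Iff.rfl

/-- linear automorphisms stabilising a subspace -/
def stabSub (W : Submodule F U) : Subgroup (U ≃ₗ[F] U) where
  carrier := {g | ∀ v, v ∈ W ↔ g v ∈ W}
  mul_mem' := by
    intro a b ha hb v
    rw [LinearEquiv.mul_apply]
    exact (hb v).trans (ha _)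
  one_mem' := by intro v; rfl
  inv_mem' := by
    intro a ha v
    have h := ha (a⁻¹ v)
    rw [← LinearEquiv.mul_apply, mul_inv_cancel] at h
    exact h.symm

theorem mem_stabSub {W : Submodule F U} {g : U ≃ₗ[F] U} :
    g ∈ stabSub W ↔ ∀ v, v ∈ W ↔ g v ∈ W := Iff.rfl

/-- The isometry group of a bilinear form with Gram matrix a multiple of `J` is the symplectic
group. -/
theorem presGrp_equiv_symplectic (B : LinearMap.BilinForm F U) {N : ℕ}
    (b : Module.Basis (Fin N ⊕ Fin N) F U) (c : F) (hc : c ≠ 0)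
    (hJ : LinearMap.BilinForm.toMatrix b B = c • Matrix.J (Fin N) F) :
    ∃ φ : presGrp (fun u v => B u v) ≃* Matrix.symplecticGroup (Fin N) F,
      ∀ g, ((φ g : Matrix.symplecticGroup (Fin N) F) :
        Matrix (Fin N ⊕ Fin N) (Fin N ⊕ Fin N) F) = LinearMap.toMatrix b b (g.1 : U →ₗ[F] U) := by
  classical
  have key : ∀ l : U →ₗ[F] U, (∀ u v, B (l u) (l v) = B u v) ↔
      LinearMap.toMatrix b b l ∈ Matrix.symplecticGroup (Fin N) F := by
    intro l
    rw [SymplecticGroup.mem_iff']
    have h1 := LinearMap.BilinForm.toMatrix_comp b b B l l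
    rw [hJ, Matrix.mul_smul, Matrix.smul_mul] at h1
    constructor
    · intro h
      have hcomp : B.comp l l = B := by
        ext u v
        exact h u v
      rw [hcomp, hJ] at h1
      exact (smul_right_injective _ hc h1).symm
    · intro h u v
      have hcomp : B.comp l l = B := by
        apply (LinearMap.BilinForm.toMatrix b).injective
        rw [h1, hJ, h]
      have h2 := congrArg (fun B' : LinearMap.BilinForm F U => B' u v) hcomp
      exact h2
  let φ : presGrp (fun u v => B u v) →* Matrix.symplecticGroup (Fin N) F :=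
    { toFun := fun g => ⟨LinearMap.toMatrix b b (g.1 : U →ₗ[F] U), (key _).1 g.2⟩
      map_one' := by
        apply Subtype.ext
        simp
      map_mul' := by
        intro g g'
        apply Subtype.ext
        simp only [Submonoid.coe_mul]
        rw [← LinearMap.toMatrix_mul]
        rfl }
  have hinj : Function.Injective φ := by
    intro g g' hgg
    have h6 := congrArg Subtype.val hgg
    have h7 := (LinearMap.toMatrix b b).injective h6
    exact Subtype.ext (LinearEquiv.toLinearMap_injective h7)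
  have hsurj : Function.Surjective φ := by
    rintro ⟨M, hM⟩
    have hdet : IsUnit M.det := SymplecticGroup.symplectic_det hM
    let g : U ≃ₗ[F] U := Matrix.toLinearEquiv b M hdet
    have hg1 : (g : U →ₗ[F] U) = Matrix.toLin b b M := rfl
    have hg2 : LinearMap.toMatrix b b (g : U →ₗ[F] U) = M := by
      rw [hg1, LinearMap.toMatrix_toLin]
    have hg : g ∈ presGrp (fun u v => B u v) := by
      have := (key (g : U →ₗ[F] U)).2 (by rw [hg2]; exact hM)
      exact this
    exact ⟨⟨g, hg⟩, Subtype.ext hg2⟩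
  exact ⟨MulEquiv.ofBijective φ ⟨hinj, hsurj⟩, fun g => rfl⟩

/-- Darboux basis of a non-degenerate alternating form. -/
theorem exists_darboux_basis [FiniteDimensional F U] (B : LinearMap.BilinForm F U)
    (hB : B.Nondegenerate) (hA : B.IsAlt) {N : ℕ} (hdim : Module.finrank F U = 2 * N) :
    ∃ b : Module.Basis (Fin N ⊕ Fin N) F U,
      LinearMap.BilinForm.toMatrix b B = (-1 : F) • Matrix.J (Fin N) F := by
  classical
  obtain ⟨m, k, b, h1, h2, h3, h4⟩ := Cfsg.Agent.S0752.result B hA
  have hk : k = 0 := by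
    by_contra hk
    have hpos : 0 < k := Nat.pos_of_ne_zero hk
    have := b.ne_zero (Sum.inr ⟨0, hpos⟩)
    exact this (hB.1 _ (h4 _))
  subst hk
  have hm : m = N := by
    have := Module.finrank_eq_card_basis b
    rw [hdim, Fintype.card_sum, Fintype.card_sum, Fintype.card_fin, Fintype.card_fin] at this
    omega
  subst hm
  let b' : Module.Basis (Fin m ⊕ Fin m) F U := b.reindex (Equiv.sumEmpty (Fin m ⊕ Fin m) (Fin 0))
  have hb' : ∀ s, b' s = b (Sum.inl s) := by
    intro s
    simp [b']
  refine ⟨b', ?_⟩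
  rw [neg_one_smul]
  ext s t
  rw [LinearMap.BilinForm.toMatrix_apply, hb', hb']
  rcases s with i | i <;> rcases t with j | j
  · rw [h2]; simp [Matrix.J]
  · rw [h1]; simp [Matrix.J, Matrix.one_apply]
  · rw [← hA.neg_eq, h1]; simp [Matrix.J, Matrix.one_apply, eq_comm]
  · rw [h3]; simp [Matrix.J]

theorem presGrp_equiv_symplectic_of_nondeg [FiniteDimensional F U] (B : LinearMap.BilinForm F U)
    (hB : B.Nondegenerate) (hA : B.IsAlt) {N : ℕ} (hdim : Module.finrank F U = 2 * N) :
    Nonempty (presGrp (fun u v => B u v) ≃* Matrix.symplecticGroup (Fin N) F) := by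
  obtain ⟨b, hb⟩ := exists_darboux_basis B hB hA hdim
  obtain ⟨φ, _⟩ := presGrp_equiv_symplectic B b (-1) (neg_ne_zero.2 one_ne_zero) hb
  exact ⟨φ⟩

end pres

section split
variable {F V : Type*} [Field F] [AddCommGroup V] [Module F V]

/-- restriction of an automorphism to a stable subspace -/
def restrictEquiv (g : V ≃ₗ[F] V) (W : Submodule F V) (h : ∀ v, v ∈ W ↔ g v ∈ W) :
    W ≃ₗ[F] W where
  toFun w := ⟨g w, (h w).1 w.2⟩
  invFun w := ⟨g.symm w, (h _).2 (by rw [LinearEquiv.apply_symm_apply]; exact w.2)⟩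
  map_add' := by intro x y; apply Subtype.ext; simp
  map_smul' := by intro c x; apply Subtype.ext; simp
  left_inv := by intro x; apply Subtype.ext; simp
  right_inv := by intro x; apply Subtype.ext; simp

theorem restrictEquiv_apply (g : V ≃ₗ[F] V) (W : Submodule F V) (h : ∀ v, v ∈ W ↔ g v ∈ W)
    (w : W) : ((restrictEquiv g W h w : W) : V) = g w := rfl

/-- The stabiliser of `W` in the isometry group of `β`, when `V = W ⊕ W'` orthogonally with
`W' = W^⊥`, is the product of the two isometry groups. -/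
theorem stab_split (β : V → V → F)
    (hl : ∀ u u' v, β (u + u') v = β u v + β u' v) (hr : ∀ u v v', β u (v + v') = β u v + β u v')
    (W W' : Submodule F V) (hc : IsCompl W W')
    (h1 : ∀ w ∈ W, ∀ w' ∈ W', β w w' = 0) (h2 : ∀ w ∈ W, ∀ w' ∈ W', β w' w = 0)
    (hW' : ∀ v, (∀ w ∈ W, β w v = 0) → v ∈ W') :
    Nonempty (↥((stabSub W).subgroupOf (presGrp β)) ≃*
      presGrp (fun u v : W => β u v) × presGrp (fun u v : W' => β u v)) := by
  have hstab' : ∀ g : V ≃ₗ[F] V, g ∈ presGrp β → g ∈ stabSub W → g ∈ stabSub W' := by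
    intro g hg hs v
    constructor
    · intro hv
      apply hW'
      intro w hw
      have hw' : g.symm w ∈ W := (hs _).2 (by rw [LinearEquiv.apply_symm_apply]; exact hw)
      have h := hg (g.symm w) v
      rw [LinearEquiv.apply_symm_apply] at h
      rw [h]
      exact h1 _ hw' _ hv
    · intro hv
      apply hW'
      intro w hw
      rw [← hg w v]
      exact h1 _ ((hs w).1 hw) _ hv
  have hdec : ∀ v : V, ∃ w ∈ W, ∃ w' ∈ W', w + w' = v := by
    intro v
    have hv : v ∈ W ⊔ W' := by rw [hc.sup_eq_top]; trivial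
    exact Submodule.mem_sup.1 hv
  have hsplit : ∀ a ∈ W, ∀ a' ∈ W', ∀ b ∈ W, ∀ b' ∈ W',
      β (a + a') (b + b') = β a b + β a' b' := by
    intro a ha a' ha' b hb b' hb'
    rw [hl, hr, hr, h1 a ha b' hb', h2 b hb a' ha']
    ring
  let Φ : ↥((stabSub W).subgroupOf (presGrp β)) →*
      presGrp (fun u v : W => β u v) × presGrp (fun u v : W' => β u v) :=
    { toFun := fun g => (⟨restrictEquiv g.1.1 W g.2, fun u v => g.1.2 u v⟩,
        ⟨restrictEquiv g.1.1 W' (hstab' g.1.1 g.1.2 g.2), fun u v => g.1.2 u v⟩)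
      map_one' := by
        apply Prod.ext <;> apply Subtype.ext <;> apply LinearEquiv.ext <;> intro w <;> rfl
      map_mul' := by
        intro g g'
        apply Prod.ext <;> apply Subtype.ext <;> apply LinearEquiv.ext <;> intro w <;> rfl }
  have hinj : Function.Injective Φ := by
    rw [injective_iff_map_eq_one]
    intro g hg
    have e1 : ∀ w : W, g.1.1 (w : V) = w := by
      intro w
      have h := congrArg (fun p => (((p.1.1 : W ≃ₗ[F] W) w : W) : V)) hg
      exact h
    have e2 : ∀ w : W', g.1.1 (w : V) = w := by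
      intro w
      have h := congrArg (fun p => (((p.2.1 : W' ≃ₗ[F] W') w : W') : V)) hg
      exact h
    apply Subtype.ext
    apply Subtype.ext
    apply LinearEquiv.ext
    intro v
    obtain ⟨w, hw, w', hw', rfl⟩ := hdec v
    rw [map_add, e1 ⟨w, hw⟩, e2 ⟨w', hw'⟩]
    rfl
  have hsurj : Function.Surjective Φ := by
    rintro ⟨g1, g2⟩
    let e := Submodule.prodEquivOfIsCompl W W' hc
    let g : V ≃ₗ[F] V := e.symm ≪≫ₗ (LinearEquiv.prodCongr g1.1 g2.1) ≪≫ₗ e
    have hg_apply : ∀ (w : W) (w' : W'), g ((w : V) + (w' : V)) = (g1.1 w : V) + (g2.1 w' : V) := by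
      intro w w'
      have h : e.symm ((w : V) + (w' : V)) = (w, w') := by
        rw [LinearEquiv.symm_apply_eq]
        simp [e]
      show e ((LinearEquiv.prodCongr g1.1 g2.1) (e.symm ((w : V) + (w' : V)))) = _
      rw [h]
      simp [e]
    have hpres : g ∈ presGrp β := by
      intro u v
      obtain ⟨a, ha, a', ha', rfl⟩ := hdec u
      obtain ⟨b, hb, b', hb', rfl⟩ := hdec v
      rw [hg_apply ⟨a, ha⟩ ⟨a', ha'⟩, hg_apply ⟨b, hb⟩ ⟨b', hb'⟩,
        hsplit _ (g1.1 ⟨a, ha⟩).2 _ (g2.1 ⟨a', ha'⟩).2 _ (g1.1 ⟨b, hb⟩).2 _ (g2.1 ⟨b', hb'⟩).2,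
        hsplit a ha a' ha' b hb b' hb']
      have e1 := g1.2 ⟨a, ha⟩ ⟨b, hb⟩
      have e2 := g2.2 ⟨a', ha'⟩ ⟨b', hb'⟩
      simp only at e1 e2
      rw [e1, e2]
    have hstab : g ∈ stabSub W := by
      intro v
      constructor
      · intro hv
        have h := hg_apply ⟨v, hv⟩ 0
        simp only [ZeroMemClass.coe_zero, add_zero, map_zero] at h
        rw [h]
        exact (g1.1 ⟨v, hv⟩).2
      · intro hv
        obtain ⟨w, hw, w', hw', rfl⟩ := hdec v
        rw [hg_apply ⟨w, hw⟩ ⟨w', hw'⟩] at hv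
        have h3 : ((g2.1 ⟨w', hw'⟩ : W') : V) ∈ W := by
          have := W.sub_mem hv (g1.1 ⟨w, hw⟩).2
          simpa using this
        have h4 : ((g2.1 ⟨w', hw'⟩ : W') : V) = 0 := by
          have : ((g2.1 ⟨w', hw'⟩ : W') : V) ∈ W ⊓ W' := ⟨h3, (g2.1 ⟨w', hw'⟩).2⟩
          rw [hc.inf_eq_bot] at this
          exact (Submodule.mem_bot F).1 this
        have h5 : g2.1 ⟨w', hw'⟩ = 0 := Subtype.ext h4
        have h6 : (⟨w', hw'⟩ : W') = 0 := by
          have := g2.1.injective (h5.trans (map_zero g2.1).symm)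
          exact this
        have h7 : w' = 0 := congrArg Subtype.val h6
        rw [h7, add_zero]
        exact hw
    refine ⟨⟨⟨g, hpres⟩, hstab⟩, ?_⟩
    apply Prod.ext
    · apply Subtype.ext
      apply LinearEquiv.ext
      intro w
      apply Subtype.ext
      show g (w : V) = _
      have h := hg_apply w 0
      simp only [ZeroMemClass.coe_zero, add_zero, map_zero] at h
      exact h
    · apply Subtype.ext
      apply LinearEquiv.ext
      intro w
      apply Subtype.ext
      show g (w : V) = _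
      have h := hg_apply 0 w
      simp only [ZeroMemClass.coe_zero, zero_add, map_zero] at h
      exact h
  exact ⟨MulEquiv.ofBijective Φ ⟨hinj, hsurj⟩⟩

end split

end Cfsg.Agent.Lib.Helper5
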