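import Mathlib
import Cfsg.Prelude.Def_Classical
import Cfsg.Prelude.Def_LieClassical
import Cfsg.Prelude.Def_ClassicalGeometry
import Cfsg.Agent.S0779
import Cfsg.Agent.Lib.Helper2.HermField
import Cfsg.Agent.Lib.Helper5.SpStab
import Cfsg.Agent.Lib.Helper5.OEmbed4

set_option autoImplicit false

namespace Cfsg.Agent.Lib.Helper5

open Cfsg.Agent.S0779

section
variable {F : Type*} [Field F] [Fintype F] {q : ℕ}

/-- non-degenerate subspace for the hermitian form -/
def HNondeg (n q : ℕ) (S : Submodule F (Fin n → F)) : Prop :=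
  ∀ u ∈ S, (∀ v ∈ S, Cfsg.hermForm n F q u v = 0) → u = 0

/-- `x ↦ h(x, y)` as a linear map -/
def hermL (n q : ℕ) (y : Fin n → F) : (Fin n → F) →ₗ[F] F where
  toFun x := Cfsg.hermForm n F q x y
  map_add' := fun x x' => herm_add_left n x x' y
  map_smul' := fun a x => by
    rw [herm_smul_left]
    rfl

theorem hermL_apply (n q : ℕ) (x y : Fin n → F) : hermL n q y x = Cfsg.hermForm n F q x y := rfl

theorem herm_zero_left (n : ℕ) (y : Fin n → F) : Cfsg.hermForm n F q 0 y = 0 :=
  map_zero (hermL n q y)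

theorem herm_zero_right (hF : Fintype.card F = q ^ 2) (n : ℕ) (x : Fin n → F) :
    Cfsg.hermForm n F q x 0 = 0 := by
  rw [← herm_pow_q n hF 0 x, herm_zero_left, zero_pow]
  have := Cfsg.Agent.Lib.Helper2.Herm.one_lt_q hF
  omega

theorem herm_sum_left (n : ℕ) {ι : Type*} (s : Finset ι) (f : ι → (Fin n → F)) (y : Fin n → F) :
    Cfsg.hermForm n F q (∑ i ∈ s, f i) y = ∑ i ∈ s, Cfsg.hermForm n F q (f i) y :=
  map_sum (hermL n q y) f s

theorem herm_sum_right (hF : Fintype.card F = q ^ 2) (n : ℕ) {ι : Type*} (s : Finset ι)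
    (f : ι → (Fin n → F)) (x : Fin n → F) :
    Cfsg.hermForm n F q x (∑ i ∈ s, f i) = ∑ i ∈ s, Cfsg.hermForm n F q x (f i) := by
  rw [← herm_pow_q n hF, herm_sum_left, sum_pow_q hF]
  apply Finset.sum_congr rfl
  intro i _
  rw [herm_pow_q n hF]

theorem herm_neg_left (n : ℕ) (x y : Fin n → F) :
    Cfsg.hermForm n F q (-x) y = - Cfsg.hermForm n F q x y :=
  map_neg (hermL n q y) x

theorem herm_sub_left (n : ℕ) (x x' y : Fin n → F) :
    Cfsg.hermForm n F q (x - x') y = Cfsg.hermForm n F q x y - Cfsg.hermForm n F q x' y :=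
  map_sub (hermL n q y) x x'

theorem exists_trace_ne (hF : Fintype.card F = q ^ 2) : ∃ t : F, t + t ^ q ≠ 0 := by
  by_contra hcon
  have hall : ∀ t : F, t + t ^ q = 0 := by
    intro t
    by_contra h
    exact hcon ⟨t, h⟩
  have hq := Cfsg.Agent.Lib.Helper2.Herm.one_lt_q hF
  have h1 := Cfsg.Agent.Lib.Helper2.Herm.card_trace_fiber hF (0 : F) (zero_pow (by omega))
  have h2 : Nat.card {t : F // t + t ^ q = 0} = Nat.card F :=
    Nat.card_congr (Equiv.subtypeUnivEquiv hall)
  rw [h1, Nat.card_eq_fintype_card, hF] at h2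
  nlinarith

theorem exists_norm_ne_zero (hF : Fintype.card F = q ^ 2) (n : ℕ) (S : Submodule F (Fin n → F))
    (hS : HNondeg n q S) (hne : S ≠ ⊥) : ∃ v ∈ S, Cfsg.hermForm n F q v v ≠ 0 := by
  by_contra hcon
  have hall : ∀ v ∈ S, Cfsg.hermForm n F q v v = 0 := by
    intro v hv
    by_contra h
    exact hcon ⟨v, hv, h⟩
  obtain ⟨u, huS, hu0⟩ := Submodule.exists_mem_ne_zero_of_ne_bot hne
  have : ∃ v ∈ S, Cfsg.hermForm n F q u v ≠ 0 := by
    by_contra hc2
    apply hu0
    apply hS u huS
    intro v hv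
    by_contra h
    exact hc2 ⟨v, hv, h⟩
  obtain ⟨v, hvS, ha⟩ := this
  obtain ⟨t, ht⟩ := exists_trace_ne hF
  apply ht
  have hmem : (t / Cfsg.hermForm n F q u v) • u + v ∈ S :=
    S.add_mem (S.smul_mem _ huS) hvS
  have h := hall _ hmem
  rw [herm_add_left, herm_add_right n hF, herm_add_right n hF, herm_smul_left, herm_smul_left,
    herm_smul_right, herm_smul_right, hall u huS, hall v hvS, ← herm_pow_q n hF u v] at h
  rw [← h, div_pow]
  field_simp
  ring

theorem exists_unit_vector (hF : Fintype.card F = q ^ 2) (n : ℕ) (S : Submodule F (Fin n → F))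
    (hS : HNondeg n q S) (hne : S ≠ ⊥) : ∃ v ∈ S, Cfsg.hermForm n F q v v = 1 := by
  obtain ⟨v, hvS, ha⟩ := exists_norm_ne_zero hF n S hS hne
  have hfix : (Cfsg.hermForm n F q v v) ^ q = Cfsg.hermForm n F q v v := herm_pow_q n hF v v
  have hfix' : ((Cfsg.hermForm n F q v v)⁻¹) ^ q = (Cfsg.hermForm n F q v v)⁻¹ := by
    rw [inv_pow, hfix]
  obtain ⟨x, hx⟩ := Cfsg.Agent.Lib.Helper2.Herm.norm_surj hF _ hfix'
  refine ⟨x • v, S.smul_mem _ hvS, ?_⟩
  rw [herm_smul_left, herm_smul_right, ← mul_assoc, hx, inv_mul_cancel₀ ha]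

/-- the part of `S` orthogonal to `v` -/
def perpIn (n q : ℕ) (S : Submodule F (Fin n → F)) (v : Fin n → F) : Submodule F (Fin n → F) :=
  S ⊓ LinearMap.ker (hermL n q v)

theorem mem_perpIn {n : ℕ} {S : Submodule F (Fin n → F)} {v x : Fin n → F} :
    x ∈ perpIn n q S v ↔ x ∈ S ∧ Cfsg.hermForm n F q x v = 0 := by
  unfold perpIn
  rw [Submodule.mem_inf, LinearMap.mem_ker, hermL_apply]

theorem finrank_perpIn (n : ℕ) (S : Submodule F (Fin n → F)) (v : Fin n → F) (hvS : v ∈ S)
    (hv : Cfsg.hermForm n F q v v = 1) :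
    Module.finrank F (perpIn n q S v) + 1 = Module.finrank F S := by
  let ψ : S →ₗ[F] F := (hermL n q v).domRestrict S
  have hψ : ∀ x : S, ψ x = Cfsg.hermForm n F q x.1 v := fun x => rfl
  have hsurj : Function.Surjective ψ := by
    intro c
    refine ⟨c • ⟨v, hvS⟩, ?_⟩
    rw [map_smul, hψ, hv, smul_eq_mul, mul_one]
  have h1 := LinearMap.finrank_range_add_finrank_ker ψ
  rw [LinearMap.range_eq_top.2 hsurj, finrank_top, Module.finrank_self] at h1
  have h2 : perpIn n q S v = (LinearMap.ker ψ).map S.subtype := by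
    ext x
    rw [mem_perpIn, Submodule.mem_map]
    constructor
    · rintro ⟨hxS, hx⟩
      exact ⟨⟨x, hxS⟩, by rw [LinearMap.mem_ker, hψ]; exact hx, rfl⟩
    · rintro ⟨y, hy, rfl⟩
      rw [LinearMap.mem_ker, hψ] at hy
      exact ⟨y.2, hy⟩
  rw [h2, Submodule.finrank_map_subtype_eq]
  omega

theorem perpIn_nondeg (hF : Fintype.card F = q ^ 2) (n : ℕ) (S : Submodule F (Fin n → F))
    (hS : HNondeg n q S) (v : Fin n → F) (hvS : v ∈ S) (hv : Cfsg.hermForm n F q v v = 1) :
    HNondeg n q (perpIn n q S v) := by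
  intro u hu hall
  rw [mem_perpIn] at hu
  apply hS u hu.1
  intro s hs
  have hs' : s - Cfsg.hermForm n F q s v • v ∈ perpIn n q S v := by
    rw [mem_perpIn]
    refine ⟨S.sub_mem hs (S.smul_mem _ hvS), ?_⟩
    rw [herm_sub_left, herm_smul_left, hv, mul_one, sub_self]
  have h1 := hall _ hs'
  have h2 : s = (s - Cfsg.hermForm n F q s v • v) + Cfsg.hermForm n F q s v • v := by
    rw [sub_add_cancel]
  rw [h2, herm_add_right n hF, h1, herm_smul_right, hu.2, mul_zero, add_zero]

theorem exists_ON_family (hF : Fintype.card F = q ^ 2) (n : ℕ) :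
    ∀ (k : ℕ) (S : Submodule F (Fin n → F)), Module.finrank F S = k → HNondeg n q S →
      ∃ w : Fin k → (Fin n → F), (∀ i, w i ∈ S) ∧
        ∀ i j, Cfsg.hermForm n F q (w i) (w j) = if i = j then 1 else 0 := by
  intro k
  induction k with
  | zero =>
    intro S _ _
    exact ⟨Fin.elim0, fun i => i.elim0, fun i => i.elim0⟩
  | succ k ih =>
    intro S hk hS
    have hne : S ≠ ⊥ := by
      intro h
      rw [h, finrank_bot] at hk
      omega
    obtain ⟨v, hvS, hv⟩ := exists_unit_vector hF n S hS hne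
    have hk' : Module.finrank F (perpIn n q S v) = k := by
      have := finrank_perpIn n S v hvS hv
      omega
    obtain ⟨w', hw'S, hw'⟩ := ih (perpIn n q S v) hk' (perpIn_nondeg hF n S hS v hvS hv)
    have hw'v : ∀ i, Cfsg.hermForm n F q (w' i) v = 0 := fun i => (mem_perpIn.1 (hw'S i)).2
    have hvw' : ∀ i, Cfsg.hermForm n F q v (w' i) = 0 := by
      intro i
      rw [← herm_pow_q n hF, hw'v, zero_pow]
      have := Cfsg.Agent.Lib.Helper2.Herm.one_lt_q hF
      omega
    refine ⟨Fin.cons v w', ?_, ?_⟩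
    · intro i
      refine Fin.cases ?_ ?_ i
      · exact hvS
      · intro j
        rw [Fin.cons_succ]
        exact (mem_perpIn.1 (hw'S j)).1
    · intro i j
      refine Fin.cases ?_ ?_ i
      · refine Fin.cases ?_ ?_ j
        · rw [Fin.cons_zero, if_pos rfl]
          exact hv
        · intro j'
          rw [Fin.cons_zero, Fin.cons_succ, if_neg (Fin.succ_ne_zero j').symm]
          exact hvw' j'
      · intro i'
        refine Fin.cases ?_ ?_ j
        · rw [Fin.cons_zero, Fin.cons_succ, if_neg (Fin.succ_ne_zero i')]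
          exact hw'v i'
        · intro j'
          rw [Fin.cons_succ, Fin.cons_succ, hw']
          by_cases h : i' = j'
          · rw [if_pos h, if_pos (by rw [h])]
          · rw [if_neg h, if_neg (fun h' => h (Fin.succ_injective _ h'))]

/-- expansion of the form on combinations of an orthonormal family -/
theorem herm_comb (hF : Fintype.card F = q ^ 2) (n k : ℕ) (w : Fin k → (Fin n → F))
    (hON : ∀ i j, Cfsg.hermForm n F q (w i) (w j) = if i = j then 1 else 0)
    (c d : Fin k → F) :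
    Cfsg.hermForm n F q (∑ i, c i • w i) (∑ j, d j • w j) = Cfsg.hermForm k F q c d := by
  classical
  rw [herm_sum_left]
  unfold Cfsg.hermForm
  apply Finset.sum_congr rfl
  intro i _
  have h := herm_sum_right (q := q) hF n Finset.univ (fun j => d j • w j) (c i • w i)
  unfold Cfsg.hermForm at h
  rw [h, Finset.sum_eq_single i]
  · have h2 := hON i i
    unfold Cfsg.hermForm at h2
    have h3 := herm_smul_left (q := q) n (c i) (w i) (d i • w i)
    have h4 := herm_smul_right (q := q) n (d i) (w i) (w i)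
    unfold Cfsg.hermForm at h3 h4
    rw [h3, h4, h2, if_pos rfl, mul_one]
  · intro j _ hji
    have h2 := hON i j
    unfold Cfsg.hermForm at h2
    have h3 := herm_smul_left (q := q) n (c i) (w i) (d j • w j)
    have h4 := herm_smul_right (q := q) n (d j) (w i) (w j)
    unfold Cfsg.hermForm at h3 h4
    rw [h3, h4, h2, if_neg (Ne.symm hji), mul_zero, mul_zero]
  · intro h'
    exact absurd (Finset.mem_univ i) h'

theorem herm_comb_single (hF : Fintype.card F = q ^ 2) (n k : ℕ) (w : Fin k → (Fin n → F))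
    (hON : ∀ i j, Cfsg.hermForm n F q (w i) (w j) = if i = j then 1 else 0)
    (c : Fin k → F) (j : Fin k) :
    Cfsg.hermForm n F q (∑ i, c i • w i) (w j) = c j := by
  classical
  rw [herm_sum_left, Finset.sum_eq_single j]
  · rw [herm_smul_left, hON, if_pos rfl, mul_one]
  · intro i _ hij
    rw [herm_smul_left, hON, if_neg hij, mul_zero]
  · intro h'
    exact absurd (Finset.mem_univ j) h'

/-- an orthonormal family of the right size gives an isometry with the standard space -/
theorem exists_isometry_of_ON (hF : Fintype.card F = q ^ 2) (n k : ℕ)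
    (S : Submodule F (Fin n → F)) (hk : Module.finrank F S = k) (w : Fin k → (Fin n → F))
    (hwS : ∀ i, w i ∈ S)
    (hON : ∀ i j, Cfsg.hermForm n F q (w i) (w j) = if i = j then 1 else 0) :
    ∃ e : S ≃ₗ[F] (Fin k → F), (∀ u v : S, Cfsg.hermForm k F q (e u) (e v)
        = Cfsg.hermForm n F q u.1 v.1) ∧
      ∀ u : S, (u : Fin n → F) = ∑ i, e u i • w i := by
  classical
  let T : (Fin k → F) →ₗ[F] S :=
    { toFun := fun c => ⟨∑ i, c i • w i, S.sum_mem (fun i _ => S.smul_mem _ (hwS i))⟩
      map_add' := by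
        intro c d
        apply Subtype.ext
        simp only [Pi.add_apply, add_smul, Finset.sum_add_distrib, Submodule.coe_add]
      map_smul' := by
        intro a c
        apply Subtype.ext
        simp only [Pi.smul_apply, smul_eq_mul, mul_smul, RingHom.id_apply, Submodule.coe_smul,
          Finset.smul_sum] }
  have hT : ∀ c, ((T c : S) : Fin n → F) = ∑ i, c i • w i := fun c => rfl
  have hinj : Function.Injective T := by
    rw [injective_iff_map_eq_zero]
    intro c hc
    funext j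
    have h := herm_comb_single hF n k w hON c j
    rw [← hT, hc] at h
    rw [← h]
    exact herm_zero_left n _
  have hdim : Module.finrank F (Fin k → F) = Module.finrank F S := by
    rw [hk, Module.finrank_fintype_fun_eq_card, Fintype.card_fin]
  let E : (Fin k → F) ≃ₗ[F] S := LinearEquiv.ofInjectiveOfFinrankEq T hinj hdim
  have hE : ∀ c, E c = T c := fun c => rfl
  refine ⟨E.symm, ?_, ?_⟩
  · intro u v
    have hu : u = E (E.symm u) := (E.apply_symm_apply u).symm
    have hv : v = E (E.symm v) := (E.apply_symm_apply v).symm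
    conv_rhs => rw [hu, hv, hE, hE, hT, hT]
    rw [herm_comb hF n k w hON]
  · intro u
    have hu : u = E (E.symm u) := (E.apply_symm_apply u).symm
    conv_lhs => rw [hu, hE, hT]

/-- the hermitian orthogonal complement -/
def hperp (n q : ℕ) (W : Submodule F (Fin n → F)) : Submodule F (Fin n → F) where
  carrier := {v | ∀ w ∈ W, Cfsg.hermForm n F q v w = 0}
  add_mem' := by
    intro a b ha hb w hw
    rw [herm_add_left, ha w hw, hb w hw, add_zero]
  zero_mem' := by
    intro w _
    exact herm_zero_left n w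
  smul_mem' := by
    intro c a ha w hw
    rw [herm_smul_left, ha w hw, mul_zero]

theorem mem_hperp {n : ℕ} {W : Submodule F (Fin n → F)} {v : Fin n → F} :
    v ∈ hperp n q W ↔ ∀ w ∈ W, Cfsg.hermForm n F q v w = 0 := Iff.rfl

theorem hperp_isCompl (hF : Fintype.card F = q ^ 2) (n k : ℕ) (W : Submodule F (Fin n → F))
    (hk : Module.finrank F W = k) (hW : HNondeg n q W) : IsCompl W (hperp n q W) := by
  classical
  obtain ⟨w, hwS, hON⟩ := exists_ON_family hF n k W hk hW
  obtain ⟨e, _, hexp⟩ := exists_isometry_of_ON hF n k W hk w hwS hON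
  constructor
  · rw [Submodule.disjoint_def]
    intro x hx hx'
    exact hW x hx (fun v hv => hx' v hv)
  · rw [codisjoint_iff, eq_top_iff]
    intro v _
    have hp : ∑ j, Cfsg.hermForm n F q v (w j) • w j ∈ W :=
      W.sum_mem (fun i _ => W.smul_mem _ (hwS i))
    refine Submodule.mem_sup.2 ⟨_, hp, v - ∑ j, Cfsg.hermForm n F q v (w j) • w j, ?_,
      add_sub_cancel _ _⟩
    intro x hx
    have hx' := hexp ⟨x, hx⟩
    simp only at hx'
    rw [hx', herm_sum_right hF]
    apply Finset.sum_eq_zero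
    intro i _
    rw [herm_smul_right, herm_sub_left, herm_comb_single hF n k w hON, sub_self, mul_zero]

theorem hperp_nondeg (hF : Fintype.card F = q ^ 2) (n : ℕ) (W : Submodule F (Fin n → F))
    (hc : IsCompl W (hperp n q W)) : HNondeg n q (hperp n q W) := by
  classical
  intro u hu hall
  have hq := Cfsg.Agent.Lib.Helper2.Herm.one_lt_q hF
  have hzero : ∀ x, Cfsg.hermForm n F q u x = 0 := by
    intro x
    have hx : x ∈ W ⊔ hperp n q W := by rw [hc.sup_eq_top]; trivial
    obtain ⟨a, ha, b, hb, rfl⟩ := Submodule.mem_sup.1 hx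
    rw [herm_add_right n hF, hu a ha, hall b hb, add_zero]
  funext i
  have h := hzero (Pi.single i 1)
  unfold Cfsg.hermForm at h
  rw [Finset.sum_eq_single i] at h
  · rw [Pi.single_eq_same, one_pow, mul_one] at h
    exact h
  · intro j _ hji
    rw [Pi.single_eq_of_ne hji, zero_pow (by omega), mul_zero]
  · intro h'
    exact absurd (Finset.mem_univ i) h'

end

section generic
variable {G G' : Type*} [Group G] [Group G']

/-- transporting a relative subgroup along an isomorphism -/
def subgroupOfEquiv (θ : G ≃* G') (H K : Subgroup G) (H' K' : Subgroup G')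
    (hH : ∀ g, g ∈ H ↔ θ g ∈ H') (hK : ∀ g, g ∈ K ↔ θ g ∈ K') :
    ↥(K.subgroupOf H) ≃* ↥(K'.subgroupOf H') where
  toFun x := ⟨⟨θ x.1.1, (hH _).1 x.1.2⟩, (hK _).1 x.2⟩
  invFun y := ⟨⟨θ.symm y.1.1, (hH _).2 (by rw [MulEquiv.apply_symm_apply]; exact y.1.2)⟩,
    (hK _).2 (by
      show θ (θ.symm y.1.1) ∈ K'
      rw [MulEquiv.apply_symm_apply]; exact y.2)⟩
  left_inv x := by
    apply Subtype.ext
    apply Subtype.ext
    exact θ.symm_apply_apply _
  right_inv y := by
    apply Subtype.ext
    apply Subtype.ext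
    exact θ.apply_symm_apply _
  map_mul' x y := by
    apply Subtype.ext
    apply Subtype.ext
    exact map_mul θ _ _

end generic

section congr
variable {F U U' : Type*} [Field F] [AddCommGroup U] [Module F U] [AddCommGroup U'] [Module F U']

/-- isometric spaces have isomorphic isometry groups -/
def presGrpCongr (β : U → U → F) (β' : U' → U' → F) (e : U ≃ₗ[F] U')
    (he : ∀ u v, β' (e u) (e v) = β u v) : presGrp β ≃* presGrp β' where
  toFun g := ⟨e.symm ≪≫ₗ g.1 ≪≫ₗ e, by
    intro u v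
    show β' (e (g.1 (e.symm u))) (e (g.1 (e.symm v))) = β' u v
    rw [he, g.2, ← he, LinearEquiv.apply_symm_apply, LinearEquiv.apply_symm_apply]⟩
  invFun g := ⟨e ≪≫ₗ g.1 ≪≫ₗ e.symm, by
    intro u v
    show β (e.symm (g.1 (e u))) (e.symm (g.1 (e v))) = β u v
    rw [← he, LinearEquiv.apply_symm_apply, LinearEquiv.apply_symm_apply, g.2, he]⟩
  left_inv g := by
    apply Subtype.ext
    apply LinearEquiv.ext
    intro u
    show e.symm (e (g.1 (e.symm (e u)))) = g.1 u
    rw [LinearEquiv.symm_apply_apply, LinearEquiv.symm_apply_apply]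
  right_inv g := by
    apply Subtype.ext
    apply LinearEquiv.ext
    intro u
    show e (e.symm (g.1 (e (e.symm u)))) = g.1 u
    rw [LinearEquiv.apply_symm_apply, LinearEquiv.apply_symm_apply]
  map_mul' g h := by
    apply Subtype.ext
    apply LinearEquiv.ext
    intro u
    show e ((g.1 * h.1) (e.symm u)) = e (g.1 (e.symm (e (h.1 (e.symm u)))))
    rw [LinearEquiv.symm_apply_apply]
    rfl

end congr

section generic2
variable {G G' : Type*} [Group G] [Group G']

/-- transporting a subgroup along an isomorphism -/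
def subgroupEquivOfIff (θ : G ≃* G') (H : Subgroup G) (H' : Subgroup G')
    (hH : ∀ g, g ∈ H ↔ θ g ∈ H') : ↥H ≃* ↥H' where
  toFun x := ⟨θ x.1, (hH _).1 x.2⟩
  invFun y := ⟨θ.symm y.1, (hH _).2 (by rw [MulEquiv.apply_symm_apply]; exact y.2)⟩
  left_inv x := by
    apply Subtype.ext
    exact θ.symm_apply_apply _
  right_inv y := by
    apply Subtype.ext
    exact θ.apply_symm_apply _
  map_mul' x y := by
    apply Subtype.ext
    exact map_mul θ _ _

end generic2

section final
variable {F : Type*} [Field F] [Fintype F] {q : ℕ}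

/-- `GL_n` as automorphisms of `F^n` -/
noncomputable def glAut (n : ℕ) :
    GL (Fin n) F ≃* ((Fin n → F) ≃ₗ[F] (Fin n → F)) :=
  glEquivAut (LinearEquiv.refl F (Fin n → F))

theorem glAut_apply (n : ℕ) (A : GL (Fin n) F) (v : Fin n → F) :
    glAut n A v = (A : Matrix (Fin n) (Fin n) F).mulVec v := rfl

theorem mem_GU_iff (n : ℕ) (A : GL (Fin n) F) :
    A ∈ Cfsg.GU n F q ↔ glAut n A ∈ presGrp (Cfsg.hermForm n F q) := by
  constructor
  · intro h u v
    exact h u v
  · intro h u v
    exact h u v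

theorem mem_stab_iff (n : ℕ) (W : Submodule F (Fin n → F)) (A : GL (Fin n) F) :
    A ∈ Cfsg.stabilizing (Cfsg.glToMat (Fin n) F) (W : Set (Fin n → F)) ↔
      glAut n A ∈ stabSub W := by
  constructor
  · intro h v
    exact h v
  · intro h v
    exact h v

/-- In `GU_n(q)` the stabiliser of a non-degenerate `k`-subspace is `GU_k(q) × GU_(n-k)(q)`. -/
theorem gu_stab (hF : Fintype.card F = q ^ 2) (n k : ℕ) (W : Submodule F (Fin n → F))
    (hWk : Module.finrank F W = k)
    (hW : ∀ u ∈ W, (∀ v ∈ W, Cfsg.hermForm n F q u v = 0) → u = 0) :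
    Nonempty (↥((Cfsg.stabilizing (Cfsg.glToMat (Fin n) F) (W : Set (Fin n → F))).subgroupOf
      (Cfsg.GU n F q)) ≃* ↥(Cfsg.GU k F q) × ↥(Cfsg.GU (n - k) F q)) := by
  classical
  have hq := Cfsg.Agent.Lib.Helper2.Herm.one_lt_q hF
  have hc := hperp_isCompl hF n k W hWk hW
  have hW'nd := hperp_nondeg hF n W hc
  have hW'dim : Module.finrank F (hperp n q W) = n - k := by
    have h := Submodule.finrank_add_eq_of_isCompl hc
    rw [hWk, Module.finrank_fintype_fun_eq_card, Fintype.card_fin] at h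
    omega
  have h2 : ∀ w ∈ W, ∀ w' ∈ hperp n q W, Cfsg.hermForm n F q w' w = 0 :=
    fun w hw w' hw' => hw' w hw
  have h1 : ∀ w ∈ W, ∀ w' ∈ hperp n q W, Cfsg.hermForm n F q w w' = 0 := by
    intro w hw w' hw'
    rw [← herm_pow_q n hF, h2 w hw w' hw', zero_pow (by omega)]
  have hW' : ∀ v, (∀ w ∈ W, Cfsg.hermForm n F q w v = 0) → v ∈ hperp n q W := by
    intro v hv w hw
    rw [← herm_pow_q n hF, hv w hw, zero_pow (by omega)]
  obtain ⟨Ψ⟩ := stab_split (Cfsg.hermForm n F q) (herm_add_left n) (herm_add_right n hF)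
    W (hperp n q W) hc h1 h2 hW'
  let Θ := subgroupOfEquiv (glAut n) (Cfsg.GU n F q)
    (Cfsg.stabilizing (Cfsg.glToMat (Fin n) F) (W : Set (Fin n → F)))
    (presGrp (Cfsg.hermForm n F q)) (stabSub W) (mem_GU_iff n) (mem_stab_iff n W)
  obtain ⟨w1, hw1S, hON1⟩ := exists_ON_family hF n k W hWk hW
  obtain ⟨e1, he1, _⟩ := exists_isometry_of_ON hF n k W hWk w1 hw1S hON1
  obtain ⟨w2, hw2S, hON2⟩ := exists_ON_family hF n (n - k) (hperp n q W) hW'dim hW'nd
  obtain ⟨e2, he2, _⟩ := exists_isometry_of_ON hF n (n - k) (hperp n q W) hW'dim w2 hw2S hON2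
  let Φ1 : presGrp (fun u v : W => Cfsg.hermForm n F q u v) ≃* ↥(Cfsg.GU k F q) :=
    (presGrpCongr _ (Cfsg.hermForm k F q) e1 he1).trans
      (subgroupEquivOfIff (glAut k) (Cfsg.GU k F q) (presGrp (Cfsg.hermForm k F q))
        (mem_GU_iff k)).symm
  let Φ2 : presGrp (fun u v : hperp n q W => Cfsg.hermForm n F q u v) ≃*
      ↥(Cfsg.GU (n - k) F q) :=
    (presGrpCongr _ (Cfsg.hermForm (n - k) F q) e2 he2).trans
      (subgroupEquivOfIff (glAut (n - k)) (Cfsg.GU (n - k) F q)
        (presGrp (Cfsg.hermForm (n - k) F q)) (mem_GU_iff (n - k))).symm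
  exact ⟨Θ.trans (Ψ.trans (MulEquiv.prodCongr Φ1 Φ2))⟩

end final

end Cfsg.Agent.Lib.Helper5
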