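import Cfsg.Prelude.Def_IsolatedElements
import Cfsg.Agent.Lib.Helper5.MaxP
import Cfsg.Agent.Lib.Helper5.Basic

set_option autoImplicit false
open Cfsg
open scoped commutatorElement

namespace Cfsg.Agent.Lib.Helper5

variable {G : Type*} [Group G] {p : ℕ}

theorem commute_of_isNilpotent_of_isolated {R : Type*} [Group R] [hR : Group.IsNilpotent R] (x : R)
    (hiso : ∀ r : R, Commute x (r * x * r⁻¹) → r * x * r⁻¹ = x) : ∀ r : R, r * x = x * r := by
  obtain ⟨n, hn⟩ := hR.nilpotent'
  have key : ∀ k : ℕ, ∀ r ∈ Subgroup.upperCentralSeries R k, r * x = x * r := by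
    intro k
    induction k with
    | zero =>
      intro r hr
      rw [Subgroup.upperCentralSeries_zero, Subgroup.mem_bot] at hr
      rw [hr]; simp
    | succ k ih =>
      intro r hr
      rw [Subgroup.mem_upperCentralSeries_succ_iff] at hr
      have h1 := ih _ (hr x)
      rw [commutatorElement_def] at h1
      have h2 : Commute x (r * x * r⁻¹) := by
        have h3 : r * x * r⁻¹ = (r * x * r⁻¹ * x⁻¹) * x := by group
        rw [h3]
        exact (Commute.mul_right (show Commute x (r * x * r⁻¹ * x⁻¹) from h1.symm) (Commute.refl x))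
      have h4 := hiso r h2
      calc r * x = r * x * r⁻¹ * r := by group
        _ = x * r := by rw [h4]
  intro r
  exact key n r (by rw [hn]; trivial)

theorem isolated_central_in_pgroup [Fact p.Prime] [Finite G] (x : G) (hiso : Cfsg.IsIsolated x)
    (R : Subgroup G) (hR : IsPGroup p R) (hxR : x ∈ R) : ∀ r ∈ R, r * x = x * r := by
  haveI : Group.IsNilpotent R := hR.isNilpotent
  have h := commute_of_isNilpotent_of_isolated (⟨x, hxR⟩ : R) (by
    intro r hcomm
    apply Subtype.ext
    apply hiso r.1
    have := congrArg Subtype.val hcomm.eq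
    exact this)
  intro r hr
  exact congrArg Subtype.val (h ⟨r, hr⟩)

theorem isolated_normalizer_le_centralizer [Fact p.Prime] [Finite G] (x : G)
    (hiso : Cfsg.IsIsolated x) (R : Subgroup G) (hR : IsPGroup p R) (hxR : x ∈ R) :
    Subgroup.normalizer (R : Set G) ≤ Subgroup.centralizer ({x} : Set G) := by
  intro n hn
  have h1 : n * x * n⁻¹ ∈ R := (Subgroup.mem_normalizer_iff.mp hn x).mp hxR
  have h2 := isolated_central_in_pgroup x hiso R hR hxR _ h1
  have h3 := hiso n h2.symm
  rw [Subgroup.mem_centralizer_iff]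
  intro y hy
  rw [Set.mem_singleton_iff] at hy
  subst hy
  calc y * n = (n * y * n⁻¹) * n := by rw [h3]
    _ = n * y := by group

end Cfsg.Agent.Lib.Helper5
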