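import Mathlib

set_option autoImplicit false

namespace Cfsg.Agent.Lib.Helper5

section Lang

variable {K : Type*} [Field K] {V : Type*} [AddCommGroup V] [Module K V]

/-- A map that is additive and semilinear for a ring endomorphism. -/
structure SemiLin (σ : K →+* K) (T : V → V) : Prop where
  add : ∀ x y, T (x + y) = T x + T y
  smul : ∀ (c : K) (x : V), T (c • x) = σ c • T x

theorem SemiLin.zero {σ : K →+* K} {T : V → V} (h : SemiLin σ T) : T 0 = 0 := by
  have := h.smul 0 0
  simpa using this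

theorem SemiLin.sum {σ : K →+* K} {T : V → V} (h : SemiLin σ T) {ι : Type*} (s : Finset ι)
    (f : ι → V) : T (∑ i ∈ s, f i) = ∑ i ∈ s, T (f i) := by
  classical
  induction s using Finset.induction with
  | empty => simpa using h.zero
  | insert a s ha ih => rw [Finset.sum_insert ha, Finset.sum_insert ha, h.add, ih]

theorem SemiLin.neg {σ : K →+* K} {T : V → V} (h : SemiLin σ T) (x : V) : T (-x) = -T x := by
  have := h.smul (-1) x
  simpa using this

theorem SemiLin.sub {σ : K →+* K} {T : V → V} (h : SemiLin σ T) (x y : V) :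
    T (x - y) = T x - T y := by
  rw [sub_eq_add_neg, h.add, h.neg, sub_eq_add_neg]

theorem iterate_pow_eq {σ : K →+* K} {q : ℕ} (hσ : ∀ c, σ c = c ^ q) (m : ℕ) (d : K) :
    (σ ^ m) d = d ^ (q ^ m) := by
  induction m with
  | zero => simp
  | succ m ih =>
    rw [pow_succ', RingHom.mul_def, RingHom.comp_apply, ih, hσ, ← pow_mul, pow_succ]

variable [IsAlgClosed K]

theorem exists_sub_pow_eq {q : ℕ} (hq : 2 ≤ q) (b : K) : ∃ c : K, c - c ^ q = b := by
  have hdeg : (Polynomial.X ^ q - Polynomial.X + Polynomial.C b : Polynomial K).natDegree = q := by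
    rw [Polynomial.natDegree_add_C]
    exact FiniteField.X_pow_card_sub_X_natDegree_eq K (by omega)
  have hne : (Polynomial.X ^ q - Polynomial.X + Polynomial.C b : Polynomial K).degree ≠ 0 := by
    intro h
    have h0 := Polynomial.natDegree_eq_zero_iff_degree_le_zero.2 (le_of_eq h)
    rw [hdeg] at h0
    omega
  obtain ⟨c, hc⟩ := IsAlgClosed.exists_root _ hne
  refine ⟨c, ?_⟩
  rw [Polynomial.IsRoot, Polynomial.eval_add, Polynomial.eval_sub, Polynomial.eval_pow,
    Polynomial.eval_X, Polynomial.eval_C] at hc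
  linear_combination (-1 : K) * hc

/-- The key polynomial equation. -/
theorem exists_root_additive {q : ℕ} (hq : 2 ≤ q) (k : ℕ) (b : ℕ → K)
    (hb : ∃ j ∈ Finset.range (k + 1), b j ≠ 0) :
    ∃ d : K, d ≠ 0 ∧ ∑ j ∈ Finset.range (k + 1), b j * d ^ (q ^ (k + 1 - j)) = d := by
  classical
  obtain ⟨j₀, hj₀, hbj₀⟩ := hb
  have hq1 : ∀ m : ℕ, 1 ≤ q ^ m := fun m => Nat.one_le_pow _ _ (by omega)
  have hq2 : ∀ m : ℕ, 1 ≤ m → 2 ≤ q ^ m := by
    intro m hm
    calc 2 ≤ q := hq
      _ = q ^ 1 := (pow_one q).symm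
      _ ≤ q ^ m := Nat.pow_le_pow_right (by omega) hm
  let R : Polynomial K := (∑ j ∈ Finset.range (k + 1),
    Polynomial.C (b j) * Polynomial.X ^ (q ^ (k + 1 - j) - 1)) - 1
  set e₀ := q ^ (k + 1 - j₀) - 1 with he₀
  have hj₀' : j₀ < k + 1 := Finset.mem_range.1 hj₀
  have he₀pos : 1 ≤ e₀ := by
    have := hq2 (k + 1 - j₀) (by omega)
    omega
  have hcoeff : R.coeff e₀ = b j₀ := by
    simp only [R, Polynomial.coeff_sub, Polynomial.finsetSum_coeff, Polynomial.coeff_C_mul,
      Polynomial.coeff_X_pow, Polynomial.coeff_one]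
    rw [Finset.sum_eq_single j₀]
    · rw [if_pos rfl, if_neg (by omega)]
      simp
    · intro j hj hne
      have hj' : j < k + 1 := Finset.mem_range.1 hj
      rw [if_neg, mul_zero]
      intro h
      apply hne
      have h1 := hq1 (k + 1 - j)
      have h2 := hq1 (k + 1 - j₀)
      have h3 : q ^ (k + 1 - j₀) = q ^ (k + 1 - j) := by omega
      have := Nat.pow_right_injective hq h3
      omega
    · intro h; exact absurd hj₀ h
  have hdeg : R.degree ≠ 0 := by
    intro h
    have h1 := Polynomial.eq_C_of_degree_eq_zero h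
    have h2 : R.coeff e₀ = 0 := by
      rw [h1, Polynomial.coeff_C, if_neg (by omega)]
    rw [hcoeff] at h2
    exact hbj₀ h2
  obtain ⟨d, hd⟩ := IsAlgClosed.exists_root R hdeg
  have hd' : ∑ j ∈ Finset.range (k + 1), b j * d ^ (q ^ (k + 1 - j) - 1) = 1 := by
    rw [Polynomial.IsRoot] at hd
    simp only [R, Polynomial.eval_sub, Polynomial.eval_finsetSum, Polynomial.eval_mul,
      Polynomial.eval_C, Polynomial.eval_pow, Polynomial.eval_X, Polynomial.eval_one] at hd
    exact sub_eq_zero.1 hd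
  have hd0 : d ≠ 0 := by
    intro h0
    rw [h0] at hd'
    have : ∑ j ∈ Finset.range (k + 1), b j * (0 : K) ^ (q ^ (k + 1 - j) - 1) = 0 := by
      apply Finset.sum_eq_zero
      intro j hj
      have hj' : j < k + 1 := Finset.mem_range.1 hj
      have := hq2 (k + 1 - j) (by omega)
      rw [zero_pow (by omega), mul_zero]
    rw [this] at hd'
    exact zero_ne_one hd'
  refine ⟨d, hd0, ?_⟩
  calc ∑ j ∈ Finset.range (k + 1), b j * d ^ (q ^ (k + 1 - j))
      = ∑ j ∈ Finset.range (k + 1), (b j * d ^ (q ^ (k + 1 - j) - 1)) * d := by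
        apply Finset.sum_congr rfl
        intro j _
        have := hq1 (k + 1 - j)
        rw [mul_assoc, ← pow_succ, Nat.sub_add_cancel this]
    _ = d := by rw [← Finset.sum_mul, hd', one_mul]

variable [FiniteDimensional K V]

theorem exists_fixed_not_mem {σ : K →+* K} {q : ℕ} (hq : 2 ≤ q) (hσ : ∀ c, σ c = c ^ q)
    {T : V → V} (hT : SemiLin σ T) (hinj : Function.Injective T) (W : Submodule K V)
    (hsurj : ∀ (d : K), ∀ w ∈ W, ∃ w' ∈ W, w' - T w' = d • w)
    (hTsurjW : ∀ w ∈ W, ∃ w' ∈ W, T w' = w) (v : V) (hv : v ∉ W) :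
    ∃ u, T u = u ∧ u ∉ W := by
  classical
  let S : ℕ → Submodule K V :=
    fun r => W ⊔ Submodule.span K (Set.range (fun i : Fin r => T^[i] v))
  have hmono : Monotone S := by
    apply monotone_nat_of_le_succ
    intro r
    apply sup_le_sup_left
    apply Submodule.span_mono
    rintro _ ⟨i, rfl⟩
    exact ⟨i.castSucc, rfl⟩
  have hex : ∃ r, T^[r] v ∈ S r := by
    obtain ⟨n, hn⟩ := monotone_stabilizes_iff_noetherian.2 inferInstance ⟨S, hmono⟩
    refine ⟨n, ?_⟩
    have h1 : S n = S (n + 1) := hn (n + 1) (Nat.le_succ n)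
    rw [h1]
    exact Submodule.mem_sup_right (Submodule.subset_span ⟨Fin.last n, rfl⟩)
  have hr := Nat.find_spec hex
  have hmin : ∀ m < Nat.find hex, T^[m] v ∉ S m := fun m hm => Nat.find_min hex hm
  have hr0 : Nat.find hex ≠ 0 := by
    intro h
    rw [h] at hr
    have h0 : S 0 = W := by
      simp [S]
    rw [h0] at hr
    exact hv hr
  obtain ⟨k, hk⟩ := Nat.exists_eq_succ_of_ne_zero hr0
  rw [hk] at hr
  have hmink : T^[k] v ∉ S k := hmin k (by omega)
  obtain ⟨w, hw, s, hs, hws⟩ := Submodule.mem_sup.1 hr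
  obtain ⟨a₀, ha₀⟩ := (Submodule.mem_span_range_iff_exists_fun K).1 hs
  let a : ℕ → K := fun i => if h : i < k + 1 then a₀ ⟨i, h⟩ else 0
  have hsa : s = ∑ i ∈ Finset.range (k + 1), a i • T^[i] v := by
    rw [← ha₀, ← Fin.sum_univ_eq_sum_range (fun i => a i • T^[i] v) (k + 1)]
    apply Finset.sum_congr rfl
    intro i _
    have hai : a (i : ℕ) = a₀ i := by
      simp only [a]
      rw [dif_pos i.2]
    rw [hai]
  have hane : ∃ j ∈ Finset.range (k + 1), a j ≠ 0 := by
    by_contra hcon
    have hall : ∀ j ∈ Finset.range (k + 1), a j = 0 := by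
      intro j hj
      by_contra h
      exact hcon ⟨j, hj, h⟩
    have hs0 : s = 0 := by
      rw [hsa]
      apply Finset.sum_eq_zero
      intro i hi
      rw [hall i hi, zero_smul]
    have hTw : T^[k + 1] v = w := by rw [← hws, hs0, add_zero]
    have hiter : ∀ m : ℕ, ∀ w ∈ W, ∃ w₁ ∈ W, T^[m] w₁ = w := by
      intro m
      induction m with
      | zero => intro w hw; exact ⟨w, hw, rfl⟩
      | succ m ih =>
        intro w hw
        obtain ⟨w₂, hw₂, h2⟩ := hTsurjW w hw
        obtain ⟨w₁, hw₁, h1⟩ := ih w₂ hw₂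
        exact ⟨w₁, hw₁, by rw [Function.iterate_succ_apply', h1, h2]⟩
    obtain ⟨w₁, hw₁, h1⟩ := hiter (k + 1) w hw
    have hvw : v = w₁ := (hinj.iterate (k + 1)) (by rw [hTw, h1])
    exact hv (hvw ▸ hw₁)
  obtain ⟨j₀, hj₀, haj₀⟩ := hane
  obtain ⟨d, hd0, hd⟩ := exists_root_additive hq k (fun j => (σ ^ (k + 1 - j)) (a j))
    ⟨j₀, hj₀, by
      show (σ ^ (k + 1 - j₀)) (a j₀) ≠ 0
      exact (map_ne_zero _).2 haj₀⟩
  let c : ℕ → K := fun i => ∑ j ∈ Finset.range (i + 1), (σ ^ (i - j)) (d * a j)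
  have hc0 : c 0 = d * a 0 := by
    simp [c]
  have hcsucc : ∀ i, c (i + 1) = σ (c i) + d * a (i + 1) := by
    intro i
    show ∑ j ∈ Finset.range (i + 1 + 1), (σ ^ (i + 1 - j)) (d * a j)
      = σ (∑ j ∈ Finset.range (i + 1), (σ ^ (i - j)) (d * a j)) + d * a (i + 1)
    rw [Finset.sum_range_succ, map_sum]
    congr 1
    · apply Finset.sum_congr rfl
      intro j hj
      have hji : j ≤ i := by
        have := Finset.mem_range.1 hj
        omega
      rw [Nat.succ_sub hji, pow_succ', RingHom.mul_def, RingHom.comp_apply]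
    · rw [Nat.sub_self, pow_zero, RingHom.one_def, RingHom.id_apply]
  have hσck : σ (c k) = d := by
    show σ (∑ j ∈ Finset.range (k + 1), (σ ^ (k - j)) (d * a j)) = d
    rw [map_sum]
    conv_rhs => rw [← hd]
    apply Finset.sum_congr rfl
    intro j hj
    have hjk : j ≤ k := by
      have := Finset.mem_range.1 hj
      omega
    show σ ((σ ^ (k - j)) (d * a j)) = (σ ^ (k + 1 - j)) (a j) * d ^ (q ^ (k + 1 - j))
    rw [Nat.succ_sub hjk, pow_succ', RingHom.mul_def, RingHom.comp_apply, map_mul, map_mul,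
      ← RingHom.comp_apply σ, ← RingHom.mul_def, ← pow_succ', iterate_pow_eq hσ, mul_comm]
  have hck0 : c k ≠ 0 := by
    intro h
    rw [h, map_zero] at hσck
    exact hd0 hσck.symm
  obtain ⟨w', hw'W, hw'⟩ := hsurj d w hw
  set X : ℕ → V := fun i => T^[i] v with hX
  have hXsucc : ∀ i, T (X i) = X (i + 1) := by
    intro i
    show T (T^[i] v) = T^[i + 1] v
    rw [Function.iterate_succ_apply']
  set A : V := ∑ i ∈ Finset.range k, σ (c i) • X (i + 1) with hA
  set B : V := ∑ i ∈ Finset.range k, (d * a (i + 1)) • X (i + 1) with hB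
  have h3 : ∑ i ∈ Finset.range (k + 1), c i • X i = (d * a 0) • X 0 + A + B := by
    rw [Finset.sum_range_succ', hc0, hA, hB, add_assoc, ← Finset.sum_add_distrib, add_comm]
    congr 1
    apply Finset.sum_congr rfl
    intro i _
    rw [hcsucc, add_smul]
  have h4 : d • ∑ i ∈ Finset.range (k + 1), a i • X i = (d * a 0) • X 0 + B := by
    rw [Finset.sum_range_succ', smul_add, smul_smul, Finset.smul_sum, hB, add_comm]
    congr 1
    apply Finset.sum_congr rfl
    intro i _
    rw [smul_smul]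
  have h1 : T (∑ i ∈ Finset.range (k + 1), c i • X i)
      = A + d • (w + ∑ i ∈ Finset.range (k + 1), a i • X i) := by
    rw [hT.sum, Finset.sum_range_succ]
    congr 1
    · apply Finset.sum_congr rfl
      intro i _
      rw [hT.smul, hXsucc]
    · rw [hT.smul, hσck, hXsucc]
      show d • T^[k + 1] v = _
      rw [← hws, hsa]
  refine ⟨w' + ∑ i ∈ Finset.range (k + 1), c i • X i, ?_, ?_⟩
  · rw [hT.add, h1, smul_add, h4, h3]
    have hTw' : T w' = w' - d • w := by
      rw [← hw']; abel
    rw [hTw']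
    abel
  · intro hu
    apply hmink
    have h5 : ∑ i ∈ Finset.range (k + 1), c i • X i ∈ W := by
      have := W.sub_mem hu hw'W
      simpa using this
    rw [Finset.sum_range_succ] at h5
    have h6 : ∑ i ∈ Finset.range k, c i • X i
        ∈ Submodule.span K (Set.range (fun i : Fin k => T^[i] v)) := by
      apply Submodule.sum_mem
      intro i hi
      apply Submodule.smul_mem
      apply Submodule.subset_span
      exact ⟨⟨i, Finset.mem_range.1 hi⟩, rfl⟩
    have h7 : c k • X k ∈ S k := by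
      have h8 : c k • X k = (∑ i ∈ Finset.range k, c i • X i + c k • X k)
          - ∑ i ∈ Finset.range k, c i • X i := by abel
      rw [h8]
      exact Submodule.sub_mem _ (Submodule.mem_sup_left h5) (Submodule.mem_sup_right h6)
    have h9 : X k = (c k)⁻¹ • (c k • X k) := by
      rw [smul_smul, inv_mul_cancel₀ hck0, one_smul]
    show X k ∈ S k
    rw [h9]
    exact Submodule.smul_mem _ _ h7

/-- The fixed vectors of an injective Frobenius-semilinear map span the space. -/
theorem span_fixed_eq_top {σ : K →+* K} {q : ℕ} (hq : 2 ≤ q) (hσ : ∀ c, σ c = c ^ q)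
    {T : V → V} (hT : SemiLin σ T) (hinj : Function.Injective T) :
    Submodule.span K {v | T v = v} = ⊤ := by
  classical
  by_contra hne
  set W := Submodule.span K {v | T v = v} with hW
  obtain ⟨v, hv⟩ : ∃ v, v ∉ W := by
    by_contra h
    apply hne
    rw [eq_top_iff]
    intro x _
    by_contra hx
    exact h ⟨x, hx⟩
  have hsurj : ∀ w ∈ W, ∀ (d : K), ∃ w' ∈ W, w' - T w' = d • w := by
    intro w hw
    induction hw using Submodule.span_induction with
    | mem e he =>
      intro d
      obtain ⟨c', hc'⟩ := exists_sub_pow_eq hq d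
      refine ⟨c' • e, W.smul_mem _ (Submodule.subset_span he), ?_⟩
      have he' : T e = e := he
      rw [hT.smul, he', hσ, ← sub_smul, hc']
    | zero =>
      intro d
      exact ⟨0, W.zero_mem, by rw [hT.zero]; simp⟩
    | add x y _ _ hx hy =>
      intro d
      obtain ⟨x', hx'W, hx'⟩ := hx d
      obtain ⟨y', hy'W, hy'⟩ := hy d
      refine ⟨x' + y', W.add_mem hx'W hy'W, ?_⟩
      rw [hT.add, smul_add, ← hx', ← hy']
      abel
    | smul c x _ hx =>
      intro d
      obtain ⟨x', hx'W, hx'⟩ := hx (d * c)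
      exact ⟨x', hx'W, by rw [hx', mul_smul]⟩
  have hTsurjW : ∀ w ∈ W, ∃ w' ∈ W, T w' = w := by
    intro w hw
    induction hw using Submodule.span_induction with
    | mem e he => exact ⟨e, Submodule.subset_span he, he⟩
    | zero => exact ⟨0, W.zero_mem, hT.zero⟩
    | add x y _ _ hx hy =>
      obtain ⟨x', hx'W, hx'⟩ := hx
      obtain ⟨y', hy'W, hy'⟩ := hy
      exact ⟨x' + y', W.add_mem hx'W hy'W, by rw [hT.add, hx', hy']⟩
    | smul c x _ hx =>
      obtain ⟨x', hx'W, hx'⟩ := hx
      obtain ⟨c', hc'⟩ := IsAlgClosed.exists_pow_nat_eq c (by omega : 0 < q)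
      exact ⟨c' • x', W.smul_mem _ hx'W, by rw [hT.smul, hσ, hc', hx']⟩
  obtain ⟨u, hu, huW⟩ := exists_fixed_not_mem hq hσ hT hinj W (fun d w hw => hsurj w hw d)
    hTsurjW v hv
  exact huW (Submodule.subset_span hu)

end Lang

end Cfsg.Agent.Lib.Helper5
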