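import Cfsg.Agent.Lib.Helper5.CD2
import Cfsg.Agent.Lib.Helper5.SPE
import Cfsg.Agent.Lib.Helper5.YL
import Cfsg.Agent.Lib.Helper5.CopGen3
import Cfsg.Prelude.Def_LocalStructure

set_option autoImplicit false

namespace Cfsg.Agent.Lib.Helper5

variable {H : Type*} [Group H]

theorem isLarge_map_conj (Q : Subgroup H) (hL : Cfsg.IsLarge Q) (g : H) :
    Cfsg.IsLarge (Q.map (MulAut.conj g).toMonoidHom) := by
  constructor
  · rw [centralizer_map_conj]
    exact Subgroup.map_mono hL.1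
  · intro U hU hU1
    rw [centralizer_map_conj] at hU
    have h1 : U.map (MulAut.conj g⁻¹).toMonoidHom ≤ Subgroup.centralizer (Q : Set H) := by
      have := Subgroup.map_mono (f := (MulAut.conj g⁻¹).toMonoidHom) hU
      rwa [map_conj_inv_conj] at this
    have h2 := hL.2 _ h1 (map_conj_ne_bot U g⁻¹ hU1)
    have h3 := Subgroup.map_mono (f := (MulAut.conj g).toMonoidHom) h2
    rw [← normalizer_map_conj, ← normalizer_map_conj, map_conj_conj_inv] at h3
    exact h3

/-- a large `p`-subgroup is weakly closed in every Sylow `p`-subgroup containing it -/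
theorem IsLarge.mem_normalizer_of_le_sylow [Finite H] {p : ℕ} [Fact p.Prime] (Q : Subgroup H)
    (hL : Cfsg.IsLarge Q) (S : Sylow p H) (hQS : Q ≤ (S : Subgroup H)) (hQ1 : Q ≠ ⊥) (g : H)
    (hg : Q.map (MulAut.conj g).toMonoidHom ≤ (S : Subgroup H)) :
    g ∈ Subgroup.normalizer (Q : Set H) := by
  have hS1 : (S : Subgroup H) ≠ ⊥ := fun h => hQ1 (eq_bot_iff.mpr (h ▸ hQS))
  set Z : Subgroup H := (S : Subgroup H) ⊓ Subgroup.centralizer ((S : Subgroup H) : Set H) with hZ
  have hZ1 : Z ≠ ⊥ := by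
    obtain ⟨z, hzS, hz1, hzc⟩ := exists_central_of_normalizedBy (S : Subgroup H) (S : Subgroup H)
      S.isPGroup' le_rfl Subgroup.le_normalizer hS1
    intro h
    have : z ∈ Z := ⟨hzS, Subgroup.mem_centralizer_iff.mpr (fun s hs => (hzc s hs))⟩
    rw [h, Subgroup.mem_bot] at this
    exact hz1 this
  have hZQ : Z ≤ Subgroup.centralizer (Q : Set H) :=
    inf_le_right.trans (Subgroup.centralizer_le hQS)
  have hZQg : Z ≤ Subgroup.centralizer ((Q.map (MulAut.conj g).toMonoidHom : Subgroup H) : Set H) :=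
    inf_le_right.trans (Subgroup.centralizer_le hg)
  have hNZ : Subgroup.normalizer (Z : Set H) ≤ Subgroup.normalizer (Q : Set H) := hL.2 Z hZQ hZ1
  have hNS : Subgroup.normalizer ((S : Subgroup H) : Set H) ≤ Subgroup.normalizer (Z : Set H) := by
    intro n hn
    exact mem_normalizer_inf _ _ n hn (normalizer_le_normalizer_centralizer _ hn)
  have hSNQ : (S : Subgroup H) ≤ Subgroup.normalizer (Q : Set H) :=
    Subgroup.le_normalizer.trans (hNS.trans hNZ)
  set Z' : Subgroup H := Z.map (MulAut.conj g⁻¹).toMonoidHom with hZ'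
  have hZ'Q : Z' ≤ Subgroup.centralizer (Q : Set H) := by
    have := Subgroup.map_mono (f := (MulAut.conj g⁻¹).toMonoidHom) hZQg
    rwa [← centralizer_map_conj, map_conj_inv_conj] at this
  have hNZ' : Subgroup.normalizer (Z' : Set H) ≤ Subgroup.normalizer (Q : Set H) :=
    hL.2 Z' hZ'Q (map_conj_ne_bot Z g⁻¹ hZ1)
  set S' : Subgroup H := (S : Subgroup H).map (MulAut.conj g⁻¹).toMonoidHom with hS'
  have hS'Z' : S' ≤ Subgroup.centralizer (Z' : Set H) := by
    rw [hZ', centralizer_map_conj]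
    apply Subgroup.map_mono
    rw [Subgroup.le_centralizer_iff]
    exact inf_le_right
  have hS'NQ : S' ≤ Subgroup.normalizer (Q : Set H) :=
    hS'Z'.trans ((Subgroup.centralizer_le_normalizer _).trans hNZ')
  have hmax : IsMaxPIn p ⊤ (S : Subgroup H) := (isMaxPIn_top_iff _).mpr ⟨S, rfl⟩
  have hmax' : IsMaxPIn p ⊤ S' := by
    have := hmax.map_conj g⁻¹
    rwa [Subgroup.map_top_of_surjective _ (MulAut.conj g⁻¹).surjective] at this
  have h1 : IsMaxPIn p (Subgroup.normalizer (Q : Set H)) (S : Subgroup H) := hmax.of_le le_top hSNQ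
  have h2 : IsMaxPIn p (Subgroup.normalizer (Q : Set H)) S' := hmax'.of_le le_top hS'NQ
  obtain ⟨m, hm, hmS⟩ := h1.conj h2
  have hgm : g * m ∈ Subgroup.normalizer ((S : Subgroup H) : Set H) := by
    rw [mem_normalizer_iff_map_conj, ← map_conj_conj, hmS, hS', map_conj_conj_inv]
  have h3 : g * m ∈ Subgroup.normalizer (Q : Set H) := hNZ (hNS hgm)
  have : g = (g * m) * m⁻¹ := by group
  rw [this]
  exact Subgroup.mul_mem _ h3 (Subgroup.inv_mem _ hm)

theorem IsLarge.centralizer_inf_eq_bot [Finite H] {p : ℕ} [Fact p.Prime] (Q : Subgroup H)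
    (hQp : IsPGroup p ↥Q) (hQ1 : Q ≠ ⊥) (hL : Cfsg.IsLarge Q) (g : H)
    (hg : g ∉ Subgroup.normalizer (Q : Set H)) :
    Subgroup.centralizer (Q : Set H) ⊓
      Subgroup.centralizer ((Q.map (MulAut.conj g).toMonoidHom : Subgroup H) : Set H) = ⊥ := by
  by_contra hU
  apply hg
  set U : Subgroup H := Subgroup.centralizer (Q : Set H) ⊓
      Subgroup.centralizer ((Q.map (MulAut.conj g).toMonoidHom : Subgroup H) : Set H) with hUdef
  have hQU : Q ≤ Subgroup.centralizer (U : Set H) :=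
    Subgroup.le_centralizer_iff.mp (inf_le_left : U ≤ _)
  have hLg := isLarge_map_conj Q hL g
  have hNU := hLg.2 U inf_le_right hU
  have hQN : Q ≤ Subgroup.normalizer ((Q.map (MulAut.conj g).toMonoidHom : Subgroup H) : Set H) :=
    hQU.trans ((Subgroup.centralizer_le_normalizer _).trans hNU)
  have hRp : IsPGroup p ↥(Q.map (MulAut.conj g).toMonoidHom ⊔ Q : Subgroup H) :=
    (hQp.map _).to_sup_of_normal_left' hQp hQN
  obtain ⟨S, hS⟩ := hRp.exists_le_sylow
  exact IsLarge.mem_normalizer_of_le_sylow Q hL S (le_sup_right.trans hS) hQ1 g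
    (le_sup_left.trans hS)

/-- `Q• = O_p(N(Q))` for a large `p`-subgroup `Q` -/
theorem IsLarge.bullet [Finite H] {p : ℕ} [Fact p.Prime] (Q : Subgroup H)
    (hQp : IsPGroup p ↥Q) (hQ1 : Q ≠ ⊥) (hL : Cfsg.IsLarge Q) :
    Q ≤ Cfsg.largeBullet p Q ∧
    Subgroup.normalizer (Q : Set H) = Subgroup.normalizer ((Cfsg.largeBullet p Q : Subgroup H) : Set H) ∧
    Cfsg.IsLarge (Cfsg.largeBullet p Q) := by
  set Qb := Cfsg.largeBullet p Q with hQb
  have hQQb : Q ≤ Qb :=
    le_pCoreOf (Subgroup.normalizer (Q : Set H)) Q Subgroup.le_normalizer le_rfl hQp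
  have hQbp : IsPGroup p ↥Qb := isPGroup_pCoreOf p _
  have hQb1 : Qb ≠ ⊥ := fun h => hQ1 (eq_bot_iff.mpr (h ▸ hQQb))
  have hCC : Subgroup.centralizer (Qb : Set H) ≤ Subgroup.centralizer (Q : Set H) :=
    Subgroup.centralizer_le hQQb
  have hN1 : Subgroup.normalizer (Q : Set H) ≤ Subgroup.normalizer (Qb : Set H) :=
    pCoreOf_normalizer _
  have hN2 : Subgroup.normalizer (Qb : Set H) ≤ Subgroup.normalizer (Q : Set H) := by
    set Z : Subgroup H := Qb ⊓ Subgroup.centralizer (Qb : Set H) with hZ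
    have hZ1 : Z ≠ ⊥ := by
      obtain ⟨z, hzS, hz1, hzc⟩ := exists_central_of_normalizedBy Qb Qb hQbp le_rfl
        Subgroup.le_normalizer hQb1
      intro h
      have : z ∈ Z := ⟨hzS, Subgroup.mem_centralizer_iff.mpr (fun s hs => (hzc s hs))⟩
      rw [h, Subgroup.mem_bot] at this
      exact hz1 this
    have hNZ := hL.2 Z (inf_le_right.trans hCC) hZ1
    refine le_trans ?_ hNZ
    intro n hn
    exact mem_normalizer_inf _ _ n hn (normalizer_le_normalizer_centralizer _ hn)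
  have hN : Subgroup.normalizer (Q : Set H) = Subgroup.normalizer (Qb : Set H) :=
    le_antisymm hN1 hN2
  refine ⟨hQQb, hN, ?_, ?_⟩
  · exact hCC.trans (hL.1.trans hQQb)
  · intro U hU hU1
    rw [← hN]
    exact hL.2 U (hU.trans hCC) hU1

end Cfsg.Agent.Lib.Helper5
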