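import Mathlib

namespace Cfsg.Agent.Lib.Helper5

theorem ff_neg_one_ne_one {F : Type*} [Field F] [Fintype F] (hq : Odd (Fintype.card F)) :
    (-1 : F) ≠ 1 := by
  apply Ring.neg_one_ne_one_of_char_ne_two
  intro h
  rw [FiniteField.even_card_iff_char_two] at h
  rcases hq with ⟨k, hk⟩
  omega

theorem two_adic_decomp (N : ℕ) (hN : N ≠ 0) :
    ∃ r, Odd r ∧ N = 2 ^ padicValNat 2 N * r := by
  obtain ⟨r, hr⟩ := pow_padicValNat_dvd (p := 2) (n := N)
  refine ⟨r, ?_, hr⟩
  by_contra hodd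
  rw [Nat.not_odd_iff_even] at hodd
  obtain ⟨t, ht⟩ := hodd
  apply pow_succ_padicValNat_not_dvd (p := 2) hN
  refine ⟨t, ?_⟩
  calc N = 2 ^ padicValNat 2 N * r := hr
    _ = 2 ^ (padicValNat 2 N + 1) * t := by rw [ht, pow_succ]; ring

theorem exists_pow_eq_neg_one_iff {F : Type*} [Field F] [Fintype F] (hq : Odd (Fintype.card F))
    {n : ℕ} (hn : n ≠ 0) :
    (∃ c : F, c ≠ 0 ∧ c ^ n = -1) ↔ padicValNat 2 n < padicValNat 2 (Fintype.card F - 1) := by
  have h1 : 1 < Fintype.card F := Fintype.one_lt_card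
  have hne : Fintype.card F - 1 ≠ 0 := by omega
  obtain ⟨r, hr_odd, hr⟩ := two_adic_decomp _ hne
  obtain ⟨s, hs_odd, hs⟩ := two_adic_decomp n hn
  obtain ⟨a, ha⟩ : ∃ a, a = padicValNat 2 (Fintype.card F - 1) := ⟨_, rfl⟩
  obtain ⟨b, hb⟩ : ∃ b, b = padicValNat 2 n := ⟨_, rfl⟩
  rw [← ha] at hr ⊢
  rw [← hb] at hs ⊢
  have hneg := ff_neg_one_ne_one hq
  constructor
  · rintro ⟨c, hc0, hc⟩
    by_contra hlt
    rw [not_lt] at hlt
    obtain ⟨d, hd⟩ := Nat.exists_eq_add_of_le hlt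
    have h1' : c ^ (n * r) = 1 := by
      have : n * r = (Fintype.card F - 1) * (2 ^ d * s) := by
        rw [hr]
        rw [hs, hd, pow_add]; ring
      rw [this, pow_mul, FiniteField.pow_card_sub_one_eq_one c hc0, one_pow]
    rw [pow_mul, hc, hr_odd.neg_one_pow] at h1'
    exact hneg h1'
  · intro hlt
    obtain ⟨g, hg⟩ := IsCyclic.exists_generator (α := Fˣ)
    have hord : orderOf g = Fintype.card F - 1 := by
      classical
      rw [orderOf_eq_card_of_forall_mem_zpowers hg, Nat.card_eq_fintype_card, Fintype.card_units]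
    have ha1 : 1 ≤ a := by
      by_contra h0
      have : a = 0 := by omega
      rw [this, pow_zero, one_mul] at hr
      rcases hq with ⟨k, hk⟩; rcases hr_odd with ⟨l, hl⟩; omega
    obtain ⟨a', rfl⟩ : ∃ a', a = a' + 1 := ⟨a - 1, by omega⟩
    have hr1 : 1 ≤ r := by rcases hr_odd with ⟨l, hl⟩; omega
    have hpos : 0 < r * 2 ^ a' := Nat.mul_pos hr1 (by positivity)
    have e : r * 2 ^ a' + r * 2 ^ a' = Fintype.card F - 1 := by rw [hr, pow_succ]; ring
    have hsq : (g ^ (r * 2 ^ a')) * (g ^ (r * 2 ^ a')) = 1 := by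
      rw [← pow_add, e, ← hord, pow_orderOf_eq_one]
    have hne1 : g ^ (r * 2 ^ a') ≠ 1 := by
      apply pow_ne_one_of_lt_orderOf (by omega)
      rw [hord, ← e]; omega
    have hw : ((g ^ (r * 2 ^ a') : Fˣ) : F) = -1 := by
      have h2 : ((g ^ (r * 2 ^ a') : Fˣ) : F) * ((g ^ (r * 2 ^ a') : Fˣ) : F) = 1 := by
        rw [← Units.val_mul, hsq, Units.val_one]
      rcases mul_self_eq_one_iff.mp h2 with h | h
      · exact absurd (Units.ext (by rw [h, Units.val_one])) hne1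
      · exact h
    refine ⟨((g ^ (r * 2 ^ (a' - b)) : Fˣ) : F), Units.ne_zero _, ?_⟩
    have e2 : r * 2 ^ (a' - b) * n = (r * 2 ^ a') * s := by
      have h3 : 2 ^ a' = 2 ^ (a' - b) * 2 ^ b := by
        rw [← pow_add]; congr 1; omega
      rw [h3]
      rw [hs]; ring
    rw [← Units.val_pow_eq_pow_val, ← pow_mul, e2, pow_mul, Units.val_pow_eq_pow_val, hw,
      hs_odd.neg_one_pow]

theorem prod_diag_neg_one {F : Type*} [Field F] {n : ℕ} (i : ℕ) (hi : i ≤ n) :
    ∏ j : Fin n, (if (j : ℕ) < i then (-1 : F) else 1) = (-1) ^ i := by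
  rw [Fin.prod_univ_eq_prod_range (fun j => if j < i then (-1 : F) else 1) n]
  rw [Finset.prod_ite, Finset.prod_const_one, mul_one, Finset.prod_const]
  congr 1
  have : (Finset.range n).filter (fun j => j < i) = Finset.range i := by
    ext j; simp only [Finset.mem_filter, Finset.mem_range]; omega
  rw [this, Finset.card_range]

end Cfsg.Agent.Lib.Helper5
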