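import Mathlib
import Cfsg.Prelude.Def_Classical
import Cfsg.Agent.Lib.Helper5.OEmbed2

set_option autoImplicit false

namespace Cfsg.Agent.Lib.Helper5

section
variable {K : Type*} [Field K] {ι : Type*} [Fintype ι] [DecidableEq ι]

/-- A quadratic form on `ι → K` vanishing on the standard basis vectors and on the sums of two
of them is zero. -/
theorem quadraticForm_eq_zero_of_basis (D : QuadraticForm K (ι → K))
    (h1 : ∀ s, D (Pi.single s 1) = 0)
    (h2 : ∀ s t, s ≠ t → D (Pi.single s 1 + Pi.single t 1) = 0) (v : ι → K) : D v = 0 := by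
  have hsingle : ∀ s (c : K), (Pi.single s c : ι → K) = c • Pi.single s 1 := by
    intro s c
    ext t
    simp [Pi.single_apply]
  have hv : v = ∑ s, (Pi.single s (v s) : ι → K) := (Finset.univ_sum_single v).symm
  rw [hv, QuadraticMap.map_sum]
  have e1 : ∑ i, D (Pi.single i (v i)) = 0 := by
    apply Finset.sum_eq_zero
    intro s _
    rw [hsingle, QuadraticMap.map_smul, h1, smul_zero]
  have e2 : ∑ ij ∈ Finset.univ.sym2 with ¬ ij.IsDiag,
      QuadraticMap.polarSym2 D (ij.map fun s => (Pi.single s (v s) : ι → K)) = 0 := by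
    apply Finset.sum_eq_zero
    intro p hp
    rw [Finset.mem_filter] at hp
    have hp2 := hp.2
    clear hp
    induction p with
    | _ i j =>
      rw [Sym2.mk_isDiag_iff] at hp2
      rw [Sym2.map_mk, QuadraticMap.polarSym2_sym2Mk, hsingle i, hsingle j,
        QuadraticMap.polar_smul_left, QuadraticMap.polar_smul_right]
      unfold QuadraticMap.polar
      rw [h2 i j hp2, h1, h1]
      simp
  rw [e1, e2, add_zero]

end

section
variable {F K : Type*} [Field F] [Field K] [Algebra F K] {ι : Type} [Fintype ι] [DecidableEq ι]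

/-- Extending scalars: the isometry group over `F` of a form acts (faithfully) by isometries of
the form over `K` having the same coefficients. -/
theorem base_change_isometry (QF : (ι → F) → F) (QK : QuadraticForm K (ι → K))
    (hQ : ∀ w : ι → F, QK (fun i => algebraMap F K (w i)) = algebraMap F K (QF w)) :
    ∃ ρ : ↥(Cfsg.isometryGroup F QF) →* ((ι → K) ≃ₗ[K] (ι → K)),
      Function.Injective ρ ∧ ∀ g v, QK (ρ g v) = QK v := by
  classical
  let μ : GL ι F →* GL ι K := Matrix.GeneralLinearGroup.map (algebraMap F K)
  have hμ : ∀ (g : GL ι F) i j, ((μ g : GL ι K) : Matrix ι ι K) i j =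
      algebraMap F K ((g : Matrix ι ι F) i j) := fun g i j => rfl
  let ρ0 : GL ι K →* ((ι → K) ≃ₗ[K] (ι → K)) :=
    MonoidHom.mk' (fun g =>
      { toFun := fun v => (g : Matrix ι ι K).mulVec v
        invFun := fun v => ((g⁻¹ : GL ι K) : Matrix ι ι K).mulVec v
        map_add' := fun v v' => Matrix.mulVec_add _ v v'
        map_smul' := fun c v => Matrix.mulVec_smul _ c v
        left_inv := fun v => by
          beta_reduce
          rw [Matrix.mulVec_mulVec, ← Units.val_mul, inv_mul_cancel, Units.val_one,
            Matrix.one_mulVec]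
        right_inv := fun v => by
          beta_reduce
          rw [Matrix.mulVec_mulVec, ← Units.val_mul, mul_inv_cancel, Units.val_one,
            Matrix.one_mulVec] })
      (fun g g' => by
        apply LinearEquiv.ext
        intro v
        show ((g * g' : GL ι K) : Matrix ι ι K).mulVec v
          = (g : Matrix ι ι K).mulVec ((g' : Matrix ι ι K).mulVec v)
        rw [Matrix.mulVec_mulVec, Units.val_mul])
  let ρ : ↥(Cfsg.isometryGroup F QF) →* ((ι → K) ≃ₗ[K] (ι → K)) :=
    ρ0.comp (μ.comp (Cfsg.isometryGroup F QF).subtype)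
  have hρapply : ∀ g v, ρ g v = ((μ (g : GL ι F) : GL ι K) : Matrix ι ι K).mulVec v :=
    fun g v => rfl
  have hmapvec : ∀ (g : GL ι F) (w : ι → F),
      ((μ g : GL ι K) : Matrix ι ι K).mulVec (fun i => algebraMap F K (w i)) =
        fun i => algebraMap F K ((g : Matrix ι ι F).mulVec w i) := by
    intro g w
    ext i
    exact (RingHom.map_mulVec (algebraMap F K) _ w i).symm
  have hsingle : ∀ s : ι, (Pi.single s (1 : K) : ι → K) =
      fun i => algebraMap F K ((Pi.single s (1 : F) : ι → F) i) := by
    intro s
    ext t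
    by_cases h : t = s
    · subst h; simp
    · simp [h]
  refine ⟨ρ, ?_, ?_⟩
  · intro g g' h
    apply Subtype.ext
    apply Units.ext
    ext i j
    have h1 : ρ g (Pi.single j 1) = ρ g' (Pi.single j 1) := by rw [h]
    have h2 := congrFun h1 i
    rw [hρapply, hρapply, Matrix.mulVec_single_one, Matrix.mulVec_single_one] at h2
    exact (algebraMap F K).injective h2
  · intro g v
    let D : QuadraticForm K (ι → K) :=
      QK.comp (Matrix.toLin' ((μ (g : GL ι F) : GL ι K) : Matrix ι ι K)) - QK
    have hD : ∀ v, D v = QK (ρ g v) - QK v := fun v => rfl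
    have hg : ∀ u v : ι → F, QF (((g : GL ι F) : Matrix ι ι F).mulVec u) = QF u := g.2
    have hrat : ∀ w : ι → F, D (fun i => algebraMap F K (w i)) = 0 := by
      intro w
      rw [hD, hρapply, hmapvec, hQ, hQ, hg w w, sub_self]
    have h0 := quadraticForm_eq_zero_of_basis D
      (fun s => by rw [hsingle]; exact hrat _)
      (fun s t _ => by
        have : (Pi.single s (1 : K) + Pi.single t (1 : K) : ι → K) =
            fun i => algebraMap F K ((Pi.single s (1 : F) + Pi.single t (1 : F) : ι → F) i) := by
          rw [hsingle s, hsingle t]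
          ext i
          simp only [Pi.add_apply, map_add]
        rw [this]
        exact hrat _) v
    rw [hD] at h0
    exact sub_eq_zero.1 h0

end

section
variable {K F : Type*} [Field K] [Fintype K] [Field F] [Fintype F] [Algebra F K]

/-- The two conjugate roots in `K` of an anisotropic binary form over `F`. -/
theorem exists_roots_vieta (hfr : Module.finrank F K = 2) (a b : F)
    (hab : ∀ z₁ z₂ : F, z₁ ^ 2 + a * z₁ * z₂ + b * z₂ ^ 2 = 0 → z₁ = 0 ∧ z₂ = 0) :
    ∃ r s : K, r ≠ s ∧ r + s = - algebraMap F K a ∧ r * s = algebraMap F K b := by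
  classical
  obtain ⟨r, hr⟩ := exists_root_quadratic (K := K) hfr a b
  have hFpow : ∀ c : F, (algebraMap F K c) ^ Fintype.card F = algebraMap F K c := by
    intro c
    rw [← map_pow, FiniteField.pow_card]
  obtain ⟨s, hsdef⟩ : ∃ s : K, s = r ^ Fintype.card F := ⟨_, rfl⟩
  have hfrob : ∀ x y : K, (x + y) ^ Fintype.card F = x ^ Fintype.card F + y ^ Fintype.card F := by
    intro x y
    exact map_add (FiniteField.frobeniusAlgHom F K) x y
  have hs : s ^ 2 + algebraMap F K a * s + algebraMap F K b = 0 := by
    have := congrArg (fun x : K => x ^ Fintype.card F) hr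
    simp only [hfrob, mul_pow, hFpow, zero_pow (Fintype.card_ne_zero (α := F))] at this
    have h3 : (r ^ 2) ^ Fintype.card F = (r ^ Fintype.card F) ^ 2 := by
      rw [← pow_mul, ← pow_mul, mul_comm]
    rw [h3] at this
    rw [hsdef]
    exact this
  have hrs : r ≠ s := by
    intro h
    have hr' : r ^ Fintype.card F = r := by rw [← hsdef]; exact h.symm
    obtain ⟨r0, hr0⟩ := mem_range_of_pow_card_eq r hr'
    have h1 : algebraMap F K (r0 ^ 2 + a * r0 * 1 + b * 1 ^ 2) = 0 := by
      rw [map_add, map_add, map_pow, map_mul, map_mul, map_mul, map_pow, map_one]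
      have : (algebraMap F K) r0 = r := hr0
      rw [this]
      linear_combination hr
    have h2 := hab r0 1 ((algebraMap F K).injective (by rw [h1, map_zero]))
    exact one_ne_zero h2.2
  have hsum : r + s = - algebraMap F K a := by
    have h0 : (r - s) * (r + s + algebraMap F K a) = 0 := by
      linear_combination hr - hs
    rcases mul_eq_zero.1 h0 with h | h
    · exact absurd (sub_eq_zero.1 h) hrs
    · linear_combination h
  have hprod : r * s = algebraMap F K b := by
    linear_combination (-1 : K) * hr + r * hsum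
  exact ⟨r, s, hrs, hsum, hprod⟩

end

end Cfsg.Agent.Lib.Helper5
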