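import Cfsg.Agent.Lib.Helper5.CD2
import Mathlib.Analysis.SpecialFunctions.Pow.Real

set_option autoImplicit false
open Cfsg
open scoped Pointwise

namespace Cfsg.Agent.Lib.Helper5

variable {X : Type*} [Group X]

/-- fixed points of `A` in `V` -/
def cv (V A : Subgroup X) : Subgroup X := V ⊓ Subgroup.centralizer (A : Set X)

/-- the measure `|A|^α |C_V(A)|` -/
noncomputable def offm (α : ℝ) (V A : Subgroup X) : ℝ :=
  (Nat.card ↥A : ℝ) ^ α * (Nat.card ↥(cv V A) : ℝ)

theorem offm_pos [Finite X] (α : ℝ) (V A : Subgroup X) : 0 < offm α V A := by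
  unfold offm
  apply mul_pos
  · apply Real.rpow_pos_of_pos
    exact_mod_cast Nat.card_pos
  · exact_mod_cast Nat.card_pos

theorem card_mul_card_le_sup_inf [Finite X] (A B : Subgroup X) :
    Nat.card ↥A * Nat.card ↥B ≤ Nat.card ↥(A ⊔ B) * Nat.card ↥(A ⊓ B) := by
  rw [card_mul_card_eq_card_mul_set A B]
  exact Nat.mul_le_mul_right _ (card_mul_set_le A B)

theorem cv_sup (V A B : Subgroup X) : cv V (A ⊔ B) = cv V A ⊓ cv V B := by
  unfold cv
  rw [centralizer_sup_eq, inf_inf_distrib_left]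

theorem cv_sup_le_cv_inf (V A B : Subgroup X) : cv V A ⊔ cv V B ≤ cv V (A ⊓ B) := by
  unfold cv
  exact sup_le (inf_le_inf_left _ (Subgroup.centralizer_le inf_le_left))
    (inf_le_inf_left _ (Subgroup.centralizer_le inf_le_right))

/-- Chermak–Delgado type inequality for the measure `|A|^α |C_V(A)|` -/
theorem offm_mul_le [Finite X] (α : ℝ) (hα : 0 ≤ α) (V A B : Subgroup X) :
    offm α V A * offm α V B ≤ offm α V (A ⊔ B) * offm α V (A ⊓ B) := by
  have h1 := card_mul_card_le_sup_inf A B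
  have h2 := card_mul_card_le_sup_inf (cv V A) (cv V B)
  have h3 : Nat.card ↥(cv V A ⊔ cv V B) ≤ Nat.card ↥(cv V (A ⊓ B)) :=
    Subgroup.card_le_of_le (cv_sup_le_cv_inf V A B)
  have h4 : Nat.card ↥(cv V A) * Nat.card ↥(cv V B) ≤
      Nat.card ↥(cv V (A ⊓ B)) * Nat.card ↥(cv V (A ⊔ B)) := by
    rw [cv_sup]
    exact h2.trans (Nat.mul_le_mul_right _ h3)
  unfold offm
  have e1 : (Nat.card ↥A : ℝ) ^ α * (Nat.card ↥(cv V A) : ℝ) * ((Nat.card ↥B : ℝ) ^ α * (Nat.card ↥(cv V B) : ℝ)) =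
      ((Nat.card ↥A * Nat.card ↥B : ℕ) : ℝ) ^ α * ((Nat.card ↥(cv V A) * Nat.card ↥(cv V B) : ℕ) : ℝ) := by
    push_cast
    rw [Real.mul_rpow (Nat.cast_nonneg _) (Nat.cast_nonneg _)]
    ring
  have e2 : (Nat.card ↥(A ⊔ B) : ℝ) ^ α * (Nat.card ↥(cv V (A ⊔ B)) : ℝ) *
      ((Nat.card ↥(A ⊓ B) : ℝ) ^ α * (Nat.card ↥(cv V (A ⊓ B)) : ℝ)) =
      ((Nat.card ↥(A ⊔ B) * Nat.card ↥(A ⊓ B) : ℕ) : ℝ) ^ α *
        ((Nat.card ↥(cv V (A ⊓ B)) * Nat.card ↥(cv V (A ⊔ B)) : ℕ) : ℝ) := by
    push_cast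
    rw [Real.mul_rpow (Nat.cast_nonneg _) (Nat.cast_nonneg _)]
    ring
  rw [e1, e2]
  apply mul_le_mul
  · apply Real.rpow_le_rpow (Nat.cast_nonneg _) _ hα
    exact_mod_cast h1
  · exact_mod_cast h4
  · exact Nat.cast_nonneg _
  · apply Real.rpow_nonneg (Nat.cast_nonneg _)

theorem offm_map_conj (α : ℝ) (V A : Subgroup X) (g : X) (hg : g ∈ Subgroup.normalizer (V : Set X)) :
    offm α V (A.map (MulAut.conj g).toMonoidHom) = offm α V A := by
  have hinj : Function.Injective (MulAut.conj g).toMonoidHom := (MulAut.conj g).injective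
  have hV : V.map (MulAut.conj g).toMonoidHom = V := (mem_normalizer_iff_map_conj V g).mp hg
  have hcv : cv V (A.map (MulAut.conj g).toMonoidHom) = (cv V A).map (MulAut.conj g).toMonoidHom := by
    unfold cv
    rw [centralizer_map_conj, Subgroup.map_inf _ _ _ hinj, hV]
  unfold offm
  rw [hcv, Subgroup.card_map_of_injective hinj, Subgroup.card_map_of_injective hinj]

theorem cv_map_conj (V A : Subgroup X) (g : X) (hg : g ∈ Subgroup.normalizer (V : Set X)) :
    cv V (A.map (MulAut.conj g).toMonoidHom) = (cv V A).map (MulAut.conj g).toMonoidHom := by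
  have hinj : Function.Injective (MulAut.conj g).toMonoidHom := (MulAut.conj g).injective
  have hV : V.map (MulAut.conj g).toMonoidHom = V := (mem_normalizer_iff_map_conj V g).mp hg
  unfold cv
  rw [centralizer_map_conj, Subgroup.map_inf _ _ _ hinj, hV]

end Cfsg.Agent.Lib.Helper5

namespace Cfsg.Agent.Lib.Helper5

variable {X : Type*} [Group X]

theorem real_eq_of_mul_le (x y m : ℝ) (hx : x ≤ m) (hy : y ≤ m) (hm : 0 < m) (h : m * m ≤ x * y)
    (hy0 : 0 < y) : x = m := by
  apply le_antisymm hx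
  by_contra hlt
  rw [not_le] at hlt
  have h1 : x * y < m * y := mul_lt_mul_of_pos_right hlt hy0
  have h2 : m * y ≤ m * m := mul_le_mul_of_nonneg_left hy hm.le
  linarith

/-- a faithful irreducible group with an `α`-offender `A ≠ 1` has `|V| ≤ |G|^α` -/
theorem card_le_rpow_of_offender [Finite X] (V G : Subgroup X)
    (hGV : G ≤ Subgroup.normalizer (V : Set X)) (hfaith : G ⊓ Subgroup.centralizer (V : Set X) = ⊥)
    (hirr : ∀ W : Subgroup X, W ≤ V → G ≤ Subgroup.normalizer (W : Set X) → W = ⊥ ∨ W = V)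
    (A : Subgroup X) (hA : A ≤ G) (hA1 : A ≠ ⊥) (α : ℝ) (hα : 0 < α)
    (hbig : (Nat.card V : ℝ) ≤ offm α V A) :
    (Nat.card V : ℝ) ≤ (Nat.card G : ℝ) ^ α := by
  classical
  -- a subgroup of G of largest measure
  haveI : Nonempty {H : Subgroup X // H ≤ G} := ⟨⟨⊥, bot_le⟩⟩
  obtain ⟨⟨T₀, hT₀G⟩, hT₀⟩ := Finite.exists_max (fun H : {H : Subgroup X // H ≤ G} => offm α V H.1)
  set m := offm α V T₀ with hm
  have hmax : ∀ H : Subgroup X, H ≤ G → offm α V H ≤ m := fun H hH => hT₀ ⟨H, hH⟩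
  have hmpos : 0 < m := offm_pos α V T₀
  have hfin : {H : Subgroup X | H ≤ G ∧ offm α V H = m}.Finite := Set.toFinite _
  obtain ⟨T, ⟨hTG, hTm⟩, hTmax⟩ := hfin.exists_maximal ⟨T₀, hT₀G, rfl⟩
  -- T contains every member of largest measure
  have hlargest : ∀ B : Subgroup X, B ≤ G → offm α V B = m → B ≤ T := by
    intro B hBG hBm
    have h1 := offm_mul_le α hα.le V T B
    rw [hTm, hBm] at h1
    have h2 := real_eq_of_mul_le _ _ m (hmax (T ⊔ B) (sup_le hTG hBG))
      (hmax (T ⊓ B) (inf_le_left.trans hTG)) hmpos h1 (offm_pos α V _)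
    have h3 := hTmax ⟨sup_le hTG hBG, h2⟩ le_sup_left
    exact le_sup_right.trans h3
  -- G normalizes T
  have hGT : ∀ g ∈ G, T.map (MulAut.conj g).toMonoidHom = T := by
    intro g hg
    have hle : T.map (MulAut.conj g).toMonoidHom ≤ T := by
      apply hlargest
      · rintro _ ⟨t, ht, rfl⟩
        exact G.mul_mem (G.mul_mem hg (hTG ht)) (G.inv_mem hg)
      · rw [offm_map_conj α V T g (hGV hg), hTm]
    apply Subgroup.eq_of_le_of_card_ge hle
    rw [Subgroup.card_map_of_injective (MulAut.conj g).injective]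
  -- value at ⊥
  have hbot : offm α V ⊥ = (Nat.card V : ℝ) := by
    unfold offm cv
    have : Subgroup.centralizer ((⊥ : Subgroup X) : Set X) = ⊤ := by
      rw [Subgroup.centralizer_eq_top_iff_subset]
      intro x hx
      have : x = 1 := by simpa using hx
      rw [this]; exact Subgroup.one_mem _
    rw [this, inf_top_eq, Subgroup.card_bot]
    simp
  have hAm : offm α V A ≤ m := hmax A hA
  have hTne : T ≠ ⊥ := by
    intro hT
    have h1 : m = (Nat.card V : ℝ) := by rw [← hTm, hT, hbot]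
    have h2 : offm α V A = m := le_antisymm hAm (h1 ▸ hbig)
    have h3 := hlargest A hA h2
    rw [hT] at h3
    exact hA1 (le_bot_iff.mp h3)
  -- C_V(T) is G-invariant
  have hcvN : G ≤ Subgroup.normalizer ((cv V T : Subgroup X) : Set X) := by
    intro g hg
    rw [mem_normalizer_iff_map_conj, ← cv_map_conj V T g (hGV hg), hGT g hg]
  have hcv : cv V T = ⊥ := by
    rcases hirr (cv V T) inf_le_left hcvN with h | h
    · exact h
    · exfalso
      apply hTne
      have h1 : V ≤ Subgroup.centralizer (T : Set X) := by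
        have : cv V T ≤ Subgroup.centralizer (T : Set X) := inf_le_right
        rwa [h] at this
      have h2 : T ≤ G ⊓ Subgroup.centralizer (V : Set X) :=
        le_inf hTG (Subgroup.le_centralizer_iff.mp h1)
      rw [hfaith] at h2
      exact le_bot_iff.mp h2
  have hTval : m = (Nat.card ↥T : ℝ) ^ α := by
    rw [← hTm]
    unfold offm
    rw [hcv, Subgroup.card_bot]
    simp
  calc (Nat.card V : ℝ) ≤ offm α V A := hbig
    _ ≤ m := hAm
    _ = (Nat.card ↥T : ℝ) ^ α := hTval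
    _ ≤ (Nat.card G : ℝ) ^ α := by
      apply Real.rpow_le_rpow (Nat.cast_nonneg _) _ hα.le
      exact_mod_cast Subgroup.card_le_of_le hTG

end Cfsg.Agent.Lib.Helper5
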