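import Cfsg.Prelude.Def_Amalgam

set_option autoImplicit false
open Cfsg

namespace Cfsg.Agent.Lib.Helper5

variable {G : Type*} [Group G] {p : ℕ}

theorem pCore_le_sylow (P : Sylow p G) : Cfsg.pCore p G ≤ P := by
  unfold Cfsg.pCore
  apply sSup_le
  rintro N ⟨hN1, hN2⟩
  haveI := hN1
  exact hN2.le_sylow_of_normal P

theorem isPGroup_pCore (p : ℕ) (G : Type*) [Group G] : IsPGroup p (Cfsg.pCore p G) := by
  obtain ⟨P⟩ : Nonempty (Sylow p G) := Sylow.nonempty
  exact P.isPGroup'.to_le (pCore_le_sylow P)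

theorem le_pCore (N : Subgroup G) (h1 : N.Normal) (h2 : IsPGroup p N) : N ≤ Cfsg.pCore p G :=
  le_sSup ⟨h1, h2⟩

theorem pCoreOf_le {X : Type*} [Group X] (p : ℕ) (H : Subgroup X) : Cfsg.pCoreOf p H ≤ H := by
  unfold Cfsg.pCoreOf
  exact Subgroup.map_subtype_le _

theorem isPGroup_pCoreOf {X : Type*} [Group X] (p : ℕ) (H : Subgroup X) :
    IsPGroup p (Cfsg.pCoreOf p H) := by
  unfold Cfsg.pCoreOf
  exact (isPGroup_pCore p H).map _

theorem pCoreOf_le_of_sylow_card {X : Type*} [Group X] [Fact p.Prime] (H K : Subgroup X)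
    [Finite H] (hKH : K ≤ H)
    (hcard : (Nat.card K).factorization p = (Nat.card H).factorization p) :
    Cfsg.pCoreOf p H ≤ K := by
  haveI : Finite K := Finite.of_injective (Subgroup.inclusion hKH) (Subgroup.inclusion_injective hKH)
  obtain ⟨S⟩ : Nonempty (Sylow p K) := Sylow.nonempty
  have hS := S.card_eq_multiplicity
  set S' : Subgroup X := (S : Subgroup K).map K.subtype with hS'
  have hS'K : S' ≤ K := Subgroup.map_subtype_le _
  have hS'H : S' ≤ H := hS'K.trans hKH
  have hc1 : Nat.card S' = Nat.card S :=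
    Nat.card_congr ((S : Subgroup K).equivMapOfInjective K.subtype K.subtype_injective).symm.toEquiv
  have hc2 : Nat.card (S'.subgroupOf H) = p ^ (Nat.card H).factorization p := by
    rw [Nat.card_congr (Subgroup.subgroupOfEquivOfLe hS'H).toEquiv, hc1, hS, hcard]
  let P : Sylow p H := Sylow.ofCard (S'.subgroupOf H) hc2
  have h1 : Cfsg.pCore p H ≤ S'.subgroupOf H := pCore_le_sylow P
  unfold Cfsg.pCoreOf
  calc (Cfsg.pCore p H).map H.subtype ≤ (S'.subgroupOf H).map H.subtype := Subgroup.map_mono h1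
    _ ≤ S' := by
      rw [Subgroup.subgroupOf_map_subtype]
      exact inf_le_left
    _ ≤ K := hS'K

theorem card_sup_coprime [Finite G] (A B : Subgroup G) [hB : B.Normal]
    (hA : (Nat.card A).Coprime p) (hBc : (Nat.card B).Coprime p) :
    (Nat.card (A ⊔ B : Subgroup G)).Coprime p := by
  have h1 : Nat.card (B.subgroupOf (A ⊔ B)) * (B.subgroupOf (A ⊔ B)).index = Nat.card (A ⊔ B : Subgroup G) :=
    Subgroup.card_mul_index _
  have h2 : Nat.card (B.subgroupOf (A ⊔ B)) = Nat.card B :=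
    Nat.card_congr (Subgroup.subgroupOfEquivOfLe (le_sup_right : B ≤ A ⊔ B)).toEquiv
  have h3 : (B.subgroupOf (A ⊔ B)).index = B.relIndex A := by
    have := Subgroup.relIndex_sup_right (H := A) (K := B)
    exact this
  rw [← h1, h2, h3]
  exact Nat.Coprime.mul_left hBc (Nat.Coprime.coprime_dvd_left (Subgroup.relIndex_dvd_card B A) hA)

theorem pPrimeCore_mem [Finite G] (p : ℕ) :
    (Cfsg.pPrimeCore p G).Normal ∧ (Nat.card (Cfsg.pPrimeCore p G)).Coprime p := by
  have hS : ({N : Subgroup G | N.Normal ∧ (Nat.card N).Coprime p}).Finite := Set.toFinite _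
  have hSne : ({N : Subgroup G | N.Normal ∧ (Nat.card N).Coprime p}).Nonempty :=
    ⟨⊥, Subgroup.normal_bot, by simp⟩
  obtain ⟨M, hM, hmax⟩ := hS.exists_maximal hSne
  have h1 : Cfsg.pPrimeCore p G = M := by
    apply le_antisymm
    · unfold Cfsg.pPrimeCore
      apply sSup_le
      intro N hN
      haveI := hN.1
      haveI := hM.1
      have h2 : M ⊔ N ∈ {N : Subgroup G | N.Normal ∧ (Nat.card N).Coprime p} :=
        ⟨Subgroup.sup_normal M N, card_sup_coprime M N hM.2 hN.2⟩
      have h3 := hmax h2 le_sup_left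
      exact le_sup_right.trans h3
    · exact le_sSup hM
  rw [h1]
  exact hM

theorem card_pPrimeCore_coprime [Finite G] (p : ℕ) :
    (Nat.card (Cfsg.pPrimeCore p G)).Coprime p := (pPrimeCore_mem p).2

theorem le_pPrimeCore (N : Subgroup G) (h1 : N.Normal) (h2 : (Nat.card N).Coprime p) :
    N ≤ Cfsg.pPrimeCore p G := le_sSup ⟨h1, h2⟩

end Cfsg.Agent.Lib.Helper5
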