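import Mathlib
import Cfsg.Prelude.Def_LocalStructure
import Cfsg.Agent.Lib.Helper5.Basic
import Cfsg.Agent.Lib.Helper3.PRes

set_option autoImplicit false

namespace Cfsg.Agent.Lib.Helper5

variable {G : Type*} [Group G]

theorem isSubnormal_sInf_of_finite (s : Set (Subgroup G)) (hs : s.Finite)
    (h : ∀ K ∈ s, K.IsSubnormal) : (sInf s).IsSubnormal := by
  induction s, hs using Set.Finite.induction_on with
  | empty => rw [sInf_empty]; exact Subgroup.IsSubnormal.top
  | insert ha hs ih =>
    rw [sInf_insert]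
    exact (h _ (Set.mem_insert _ _)).inf (ih (fun K hK => h K (Set.mem_insert_of_mem _ hK)))

theorem subnormalClosure_isSubnormal [Finite G] (A : Subgroup G) :
    (Cfsg.subnormalClosure A).IsSubnormal := by
  unfold Cfsg.subnormalClosure
  exact isSubnormal_sInf_of_finite _ (Set.toFinite _) (fun K hK => hK.2)

theorem le_subnormalClosure (A : Subgroup G) : A ≤ Cfsg.subnormalClosure A := by
  unfold Cfsg.subnormalClosure
  exact le_sInf (fun K hK => hK.1)

theorem subnormalClosure_le (A S : Subgroup G) (hAS : A ≤ S) (hS : S.IsSubnormal) :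
    Cfsg.subnormalClosure A ≤ S := by
  unfold Cfsg.subnormalClosure
  exact sInf_le ⟨hAS, hS⟩

/-- every subgroup of a finite nilpotent group is subnormal -/
theorem isSubnormal_of_isNilpotent {P : Type*} [Group P] [Finite P] [Group.IsNilpotent P]
    (S : Subgroup P) : S.IsSubnormal := by
  induction S using WellFoundedGT.induction with
  | ind S ih =>
    by_cases hS : S = ⊤
    · rw [hS]; exact Subgroup.IsSubnormal.top
    · have h1 : S < Subgroup.normalizer (S : Set P) :=
        normalizerCondition_of_isNilpotent S (lt_top_iff_ne_top.mpr hS)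
      exact Subgroup.IsSubnormal.step S _ Subgroup.le_normalizer (ih _ h1)
        Subgroup.normal_in_normalizer

/-- a subgroup normalized by a subnormal overgroup is subnormal -/
theorem isSubnormal_of_le_normalizer (S K : Subgroup G) (hSK : S ≤ K) (hK : K.IsSubnormal)
    (hn : K ≤ Subgroup.normalizer (S : Set G)) : S.IsSubnormal :=
  Subgroup.IsSubnormal.step S K hSK hK ((Subgroup.normal_subgroupOf_iff_le_normalizer hSK).mpr hn)

/-- if `K/D` is a `p`-group (`D = O^p(K)`), every subgroup between `D` and `K` is subnormal in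
`K`; version for `A ⊔ O^p(K)`. -/
theorem isSubnormal_sup_pResidual [Finite G] {p : ℕ} [Fact p.Prime] (A K : Subgroup G)
    (hAK : A ≤ K) (hK : K.IsSubnormal) :
    (A ⊔ (Cfsg.pResidual p ↥K).map K.subtype).IsSubnormal := by
  haveI hn := Cfsg.Agent.Lib.Helper3.pRes_normal p ↥K
  have hp : IsPGroup p (↥K ⧸ Cfsg.pResidual p ↥K) :=
    Cfsg.Agent.Lib.Helper3.isPGroup_quotient_pRes p ↥K
  haveI : Group.IsNilpotent (↥K ⧸ Cfsg.pResidual p ↥K) := hp.isNilpotent
  have h1 : ((A.subgroupOf K).map (QuotientGroup.mk' (Cfsg.pResidual p ↥K))).IsSubnormal :=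
    isSubnormal_of_isNilpotent _
  have h2 := h1.comap (QuotientGroup.mk' (Cfsg.pResidual p ↥K))
  rw [QuotientGroup.comap_map_mk'] at h2
  have h3 := Subgroup.IsSubnormal.trans' h2 hK
  rw [Subgroup.map_sup, Subgroup.map_subgroupOf_eq_of_le hAK, sup_comm] at h3
  exact h3

end Cfsg.Agent.Lib.Helper5
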