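import Mathlib
import Cfsg.Agent.Lib.Helper5.SubnClosure
import Cfsg.Agent.Lib.Helper5.YL2
import Cfsg.Agent.Lib.Helper5.PCore
import Cfsg.Agent.Lib.Helper3.Subn

set_option autoImplicit false

namespace Cfsg.Agent.Lib.Helper5

variable {G : Type*} [Group G] {p : ℕ}

/-- membership in `O^p(B)` (viewed in the ambient group) of a `p'`-element of `B` -/
theorem mem_pResidualOf_of_coprime (B : Subgroup G) (b : G) (hb : b ∈ B)
    (hbc : (orderOf b).Coprime p) : b ∈ (Cfsg.pResidual p ↥B).map B.subtype := by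
  refine ⟨⟨b, hb⟩, ?_, rfl⟩
  unfold Cfsg.pResidual
  apply Subgroup.subset_closure
  show (orderOf (⟨b, hb⟩ : ↥B)).Coprime p
  rw [Subgroup.orderOf_mk]
  exact hbc

/-- `O^p(B)` is generated by the `p'`-elements of `B` -/
theorem pResidualOf_le_iff (B X : Subgroup G) :
    (Cfsg.pResidual p ↥B).map B.subtype ≤ X ↔ ∀ b ∈ B, (orderOf b).Coprime p → b ∈ X := by
  constructor
  · intro h b hb hbc
    exact h (mem_pResidualOf_of_coprime B b hb hbc)
  · intro h
    unfold Cfsg.pResidual
    rw [MonoidHom.map_closure, Subgroup.closure_le]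
    rintro _ ⟨a, ha, rfl⟩
    apply h _ a.2
    have : (orderOf a).Coprime p := ha
    rwa [Subgroup.orderOf_coe]

theorem pResidualOf_le (B : Subgroup G) : (Cfsg.pResidual p ↥B).map B.subtype ≤ B :=
  Subgroup.map_subtype_le _

theorem pResidualOf_mono (B B₁ : Subgroup G) (h : B ≤ B₁) :
    (Cfsg.pResidual p ↥B).map B.subtype ≤ (Cfsg.pResidual p ↥B₁).map B₁.subtype := by
  rw [pResidualOf_le_iff]
  intro b hb hbc
  exact mem_pResidualOf_of_coprime B₁ b (h hb) hbc

theorem pResidualOf_map_conj_le (B : Subgroup G) (n : G)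
    (hn : n ∈ Subgroup.normalizer (B : Set G)) :
    ((Cfsg.pResidual p ↥B).map B.subtype).map (MulAut.conj n).toMonoidHom ≤
      (Cfsg.pResidual p ↥B).map B.subtype := by
  rw [Subgroup.map_le_iff_le_comap, pResidualOf_le_iff]
  intro b hb hbc
  rw [Subgroup.mem_comap]
  simp only [MulEquiv.toMonoidHom_eq_coe, MonoidHom.coe_coe, MulAut.conj_apply]
  apply mem_pResidualOf_of_coprime B _ ((Subgroup.mem_normalizer_iff.mp hn b).mp hb)
  have : orderOf (n * b * n⁻¹) = orderOf b := by
    have := orderOf_injective (MulAut.conj n).toMonoidHom (MulAut.conj n).injective b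
    simpa [MulAut.conj_apply] using this
  rw [this]; exact hbc

theorem normalizer_le_normalizer_pResidualOf (B : Subgroup G) :
    Subgroup.normalizer (B : Set G) ≤
      Subgroup.normalizer (((Cfsg.pResidual p ↥B).map B.subtype : Subgroup G) : Set G) := by
  intro n hn
  exact mem_normalizer_of_map_conj_le _ n (pResidualOf_map_conj_le B n hn)
    (pResidualOf_map_conj_le B n⁻¹ (Subgroup.inv_mem _ hn))

/-- a `p'`-element of `C·P` (`P` a `p`-group normalizing `C`) lies in `C`. -/
theorem mem_of_coprime_of_mem_sup [Fact p.Prime] (C P : Subgroup G) (hP : IsPGroup p P)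
    (hPC : P ≤ Subgroup.normalizer (C : Set G)) (x : G) (hx : x ∈ P ⊔ C)
    (hxc : (orderOf x).Coprime p) : x ∈ C := by
  have hKC : P ⊔ C ≤ Subgroup.normalizer (C : Set G) := sup_le hPC Subgroup.le_normalizer
  haveI hCn : (C.subgroupOf (P ⊔ C)).Normal :=
    (Subgroup.normal_subgroupOf_iff_le_normalizer le_sup_right).mpr hKC
  have hquot : IsPGroup p (↥(P ⊔ C) ⧸ C.subgroupOf (P ⊔ C)) := by
    have hsurj : Function.Surjective
        ((QuotientGroup.mk' (C.subgroupOf (P ⊔ C))).comp
          (Subgroup.inclusion (le_sup_left : P ≤ P ⊔ C))) := by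
      intro y
      obtain ⟨k, rfl⟩ := QuotientGroup.mk_surjective y
      obtain ⟨t, ht, c, hc, hke⟩ := (mem_sup_of_le_normalizer P C hPC (k : G)).mp k.2
      refine ⟨⟨t, ht⟩, ?_⟩
      simp only [MonoidHom.coe_comp, Function.comp_apply, QuotientGroup.mk'_apply]
      rw [QuotientGroup.eq, Subgroup.mem_subgroupOf]
      simp only [Subgroup.coe_mul, Subgroup.coe_inv, Subgroup.coe_inclusion]
      rw [hke]
      have : t⁻¹ * (t * c) = c := by group
      rw [this]
      exact hc
    exact hP.of_surjective _ hsurj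
  have h1 : (⟨x, hx⟩ : ↥(P ⊔ C)) ∈ C.subgroupOf (P ⊔ C) := by
    rw [← QuotientGroup.eq_one_iff]
    obtain ⟨k, hk⟩ := hquot (QuotientGroup.mk (⟨x, hx⟩ : ↥(P ⊔ C)))
    have h9 := orderOf_dvd_of_pow_eq_one hk
    have h10 : orderOf (QuotientGroup.mk (⟨x, hx⟩ : ↥(P ⊔ C)) :
        ↥(P ⊔ C) ⧸ C.subgroupOf (P ⊔ C)) ∣ orderOf (⟨x, hx⟩ : ↥(P ⊔ C)) :=
      orderOf_map_dvd (QuotientGroup.mk' _) _
    rw [Subgroup.orderOf_mk] at h10
    have h11 := Nat.eq_one_of_dvd_coprimes (Nat.Coprime.pow_right k hxc) h10 h9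
    exact orderOf_eq_one_iff.mp h11
  exact Subgroup.mem_subgroupOf.mp h1

/-- `O_p(G)` normalizes `O^p(B)` for every subnormal subgroup `B`. -/
theorem pCore_le_normalizer_pResidualOf [Finite G] [Fact p.Prime] (B : Subgroup G)
    (hB : B.IsSubnormal) :
    Cfsg.pCore p G ≤
      Subgroup.normalizer (((Cfsg.pResidual p ↥B).map B.subtype : Subgroup G) : Set G) := by
  induction hB with
  | top =>
    refine le_trans ?_ (normalizer_le_normalizer_pResidualOf (p := p) (⊤ : Subgroup G))
    rw [Subgroup.normalizer_eq_top]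
    exact le_top
  | step B B₁ hle hB₁ hn ih =>
    have hRn : (Cfsg.pCore p G).Normal := Cfsg.pCore_normal p G
    have hRp : IsPGroup p (Cfsg.pCore p G) := isPGroup_pCore p G
    have hB₁B : B₁ ≤ Subgroup.normalizer (B : Set G) :=
      (Subgroup.normal_subgroupOf_iff_le_normalizer hle).mp hn
    have hB₁C := hB₁B.trans (normalizer_le_normalizer_pResidualOf (p := p) B)
    have hCB₂ := pResidualOf_mono (p := p) B B₁ hle
    have key : ∀ r ∈ Cfsg.pCore p G,
        ((Cfsg.pResidual p ↥B).map B.subtype).map (MulAut.conj r).toMonoidHom ≤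
          (Cfsg.pResidual p ↥B).map B.subtype := by
      intro r hr
      rw [Subgroup.map_le_iff_le_comap, pResidualOf_le_iff]
      intro b hb hbc
      rw [Subgroup.mem_comap]
      simp only [MulEquiv.toMonoidHom_eq_coe, MonoidHom.coe_coe, MulAut.conj_apply]
      have hbC : b ∈ (Cfsg.pResidual p ↥B).map B.subtype := mem_pResidualOf_of_coprime B b hb hbc
      have hbB₂ := hCB₂ hbC
      have h1 : r * b * r⁻¹ * b⁻¹ ∈ Cfsg.pCore p G ⊓ (Cfsg.pResidual p ↥B₁).map B₁.subtype := by
        constructor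
        · have h2 : r * b * r⁻¹ * b⁻¹ = r * (b * r⁻¹ * b⁻¹) := by group
          rw [h2]
          exact Subgroup.mul_mem _ hr (hRn.conj_mem _ (Subgroup.inv_mem _ hr) b)
        · exact Subgroup.mul_mem _ ((Subgroup.mem_normalizer_iff.mp (ih hr) b).mp hbB₂)
            (Subgroup.inv_mem _ hbB₂)
      have h3 : r * b * r⁻¹ = (r * b * r⁻¹ * b⁻¹) * b := by group
      apply mem_of_coprime_of_mem_sup _
        (Cfsg.pCore p G ⊓ (Cfsg.pResidual p ↥B₁).map B₁.subtype) (hRp.to_le inf_le_left)
        (inf_le_right.trans ((pResidualOf_le B₁).trans hB₁C))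
      · rw [h3]
        exact Subgroup.mul_mem _ (Subgroup.mem_sup_left h1) (Subgroup.mem_sup_right hbC)
      · have : orderOf (r * b * r⁻¹) = orderOf b := by
          have := orderOf_injective (MulAut.conj r).toMonoidHom (MulAut.conj r).injective b
          simpa [MulAut.conj_apply] using this
        rw [this]; exact hbc
    intro r hr
    exact mem_normalizer_of_map_conj_le _ r (key r hr) (key r⁻¹ (Subgroup.inv_mem _ hr))

end Cfsg.Agent.Lib.Helper5
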