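import Mathlib
import Cfsg.Prelude.Def_LocalStructure
import Cfsg.Agent.Lib.Helper5.SubnClosure2
import Cfsg.Agent.Lib.Helper5.SPE

set_option autoImplicit false

namespace Cfsg.Agent.Lib.Helper5

variable {H : Type*} [Group H] {p : ℕ}

/-- a `p`-subgroup of a `p`-closed normal subgroup lies in `O_p(H)` -/
theorem le_pCore_of_pclosed_normal [Finite H] [Fact p.Prime] (N : Subgroup H) [hN : N.Normal]
    (hNc : Cfsg.IsPClosed p ↥N) (Y : Subgroup H) (hYN : Y ≤ N) (hY : IsPGroup p Y) :
    Y ≤ Cfsg.pCore p H := by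
  have h1 : IsPGroup p (Y.subgroupOf N) := hY.comap_of_injective N.subtype N.subtype_injective
  obtain ⟨P₀, hP₀⟩ := h1.exists_le_sylow
  have hP₀n : (P₀ : Subgroup ↥N).Normal := hNc P₀
  haveI hchar : (P₀ : Subgroup ↥N).Characteristic := Sylow.characteristic_of_normal P₀ hP₀n
  have hn : ((P₀ : Subgroup ↥N).map N.subtype).Normal :=
    ConjAct.normal_of_characteristic_of_normal
  have hle : (P₀ : Subgroup ↥N).map N.subtype ≤ Cfsg.pCore p H :=
    le_pCore _ hn (P₀.isPGroup'.map _)
  refine le_trans ?_ hle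
  rw [← Subgroup.map_subgroupOf_eq_of_le hYN]
  exact Subgroup.map_mono hP₀

theorem isPClosed_of_sylow_normal [Finite H] [Fact p.Prime] (T : Sylow p H)
    (hT : (T : Subgroup H).Normal) : Cfsg.IsPClosed p H := by
  intro P
  haveI := Sylow.unique_of_normal T hT
  have : P = T := Subsingleton.elim _ _
  rw [this]; exact hT

/-- a normal subgroup containing a Sylow `p`-subgroup of a non-`p`-closed group is not `p`-closed -/
theorem not_isPClosed_of_sylow_le [Finite H] [Fact p.Prime] (hH : ¬ Cfsg.IsPClosed p H)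
    (N : Subgroup H) [hN : N.Normal] (T : Sylow p H) (hTN : (T : Subgroup H) ≤ N) :
    ¬ Cfsg.IsPClosed p ↥N := by
  intro hNc
  apply hH
  have h1 := le_pCore_of_pclosed_normal N hNc (T : Subgroup H) hTN T.isPGroup'
  have h2 : (T : Subgroup H) = Cfsg.pCore p H := le_antisymm h1 (pCore_le_sylow T)
  apply isPClosed_of_sylow_normal T
  rw [h2]
  exact Cfsg.pCore_normal p H

theorem sylow_sup_pResidual [Finite H] [Fact p.Prime] (T : Sylow p H) :
    (T : Subgroup H) ⊔ Cfsg.pResidual p H = ⊤ :=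
  Cfsg.Agent.Lib.Helper3.sup_pRes_eq_top p (T : Subgroup H) T.not_dvd_index

/-- in a `p`-irreducible group, a normal subgroup containing a Sylow `p`-subgroup is everything -/
theorem eq_top_of_pirr_of_sylow_le [Finite H] [Fact p.Prime] (hH : Cfsg.IsPIrreducible p H)
    (N : Subgroup H) [hN : N.Normal] (T : Sylow p H) (hTN : (T : Subgroup H) ≤ N) : N = ⊤ := by
  have h1 := hH.2 N hN (not_isPClosed_of_sylow_le hH.1 N T hTN)
  rw [eq_top_iff, ← sylow_sup_pResidual T]
  exact sup_le hTN h1

/-- every `p'`-element lies in a normal subgroup `N` with `H = N T` -/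
theorem pResidual_le_of_sylow_sup_eq_top [Fact p.Prime] (N P : Subgroup H) [hN : N.Normal]
    (hP : IsPGroup p P) (h : P ⊔ N = ⊤) : Cfsg.pResidual p H ≤ N := by
  unfold Cfsg.pResidual
  rw [Subgroup.closure_le]
  intro x hx
  have hx' : (orderOf x).Coprime p := hx
  apply mem_of_coprime_of_mem_sup N P hP _ x (h ▸ Subgroup.mem_top x) hx'
  rw [Subgroup.normalizer_eq_top]
  exact le_top

end Cfsg.Agent.Lib.Helper5
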