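import Cfsg.Agent.Lib.Helper5.PCore
import Cfsg.Prelude.Def_LocalStructure

set_option autoImplicit false
open Cfsg

namespace Cfsg.Agent.Lib.Helper5

variable {L : Type*} [Group L] {p : ℕ}

def PRed (p : ℕ) (C : Subgroup L) : Prop :=
  ∀ D : Subgroup L, D.Normal → (∀ d ∈ D, ∃ k : ℕ, d ^ p ^ k ∈ C) → D ≤ C

theorem pCore_quotient_eq_bot_iff (C : Subgroup L) [hC : C.Normal] :
    Cfsg.pCore p (L ⧸ C) = ⊥ ↔ PRed p C := by
  have hsurj : Function.Surjective (QuotientGroup.mk' C) := QuotientGroup.mk'_surjective C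
  constructor
  · intro h D hD hDp
    have h1 : IsPGroup p (D.map (QuotientGroup.mk' C)) := by
      rintro ⟨_, ⟨d, hd, rfl⟩⟩
      obtain ⟨k, hk⟩ := hDp d hd
      refine ⟨k, ?_⟩
      apply Subtype.ext
      simp only [Subgroup.coe_pow, Subgroup.coe_one]
      rw [← map_pow, QuotientGroup.mk'_apply, QuotientGroup.eq_one_iff]
      exact hk
    have h2 : (D.map (QuotientGroup.mk' C)).Normal := hD.map _ hsurj
    have h3 := le_pCore _ h2 h1
    rw [h] at h3
    intro d hd
    have h4 := h3 (Subgroup.mem_map_of_mem _ hd)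
    rwa [Subgroup.mem_bot, QuotientGroup.mk'_apply, QuotientGroup.eq_one_iff] at h4
  · intro h
    rw [eq_bot_iff]
    have hQn := Cfsg.pCore_normal p (L ⧸ C)
    have hQp := isPGroup_pCore p (L ⧸ C)
    have h1 := h ((Cfsg.pCore p (L ⧸ C)).comap (QuotientGroup.mk' C)) (hQn.comap _) (by
      intro d hd
      rw [Subgroup.mem_comap] at hd
      obtain ⟨k, hk⟩ := hQp ⟨_, hd⟩
      refine ⟨k, ?_⟩
      have := congrArg Subtype.val hk
      simp only [Subgroup.coe_pow, Subgroup.coe_one] at this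
      rwa [← map_pow, QuotientGroup.mk'_apply, QuotientGroup.eq_one_iff] at this)
    intro q hq
    obtain ⟨d, rfl⟩ := hsurj q
    have h2 : d ∈ (Cfsg.pCore p (L ⧸ C)).comap (QuotientGroup.mk' C) := hq
    have h3 := h1 h2
    rw [Subgroup.mem_bot, QuotientGroup.mk'_apply, QuotientGroup.eq_one_iff]
    exact h3

theorem isPReducedNormal_iff (V : Subgroup L) :
    Cfsg.IsPReducedNormal p V ↔
      V.Normal ∧ Cfsg.IsElementaryAbelian p V ∧ PRed p (Subgroup.centralizer (V : Set L)) := by
  unfold Cfsg.IsPReducedNormal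
  constructor
  · rintro ⟨hVn, hVe, hCn, hO⟩
    refine ⟨hVn, hVe, ?_⟩
    haveI := hCn
    exact (pCore_quotient_eq_bot_iff _).mp hO
  · rintro ⟨hVn, hVe, hP⟩
    haveI := hVn
    have hCn : (Subgroup.centralizer (V : Set L)).Normal := Subgroup.normal_centralizer
    exact ⟨hVn, hVe, hCn, (pCore_quotient_eq_bot_iff _).mpr hP⟩

theorem pCore_le_of_pRed (C : Subgroup L) (hP : PRed p C) : Cfsg.pCore p L ≤ C := by
  apply hP _ (Cfsg.pCore_normal p L)
  intro d hd
  obtain ⟨k, hk⟩ := isPGroup_pCore p L ⟨d, hd⟩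
  refine ⟨k, ?_⟩
  have := congrArg Subtype.val hk
  simp only [Subgroup.coe_pow, Subgroup.coe_one] at this
  rw [this]
  exact C.one_mem

theorem exists_largest_pReduced [Fact p.Prime] [Finite L]
    (hchar : Subgroup.centralizer (Cfsg.pCore p L : Set L) ≤ Cfsg.pCore p L) :
    Cfsg.IsPReducedNormal p (Cfsg.largestPReduced p L) := by
  set Y := Cfsg.largestPReduced p L with hY
  have hVle : ∀ V : Subgroup L, Cfsg.IsPReducedNormal p V →
      V ≤ Cfsg.pCore p L ⊓ Subgroup.centralizer (Cfsg.pCore p L : Set L) ∧ ∀ a ∈ V, a ^ p = 1 := by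
    intro V hV
    rw [isPReducedNormal_iff] at hV
    obtain ⟨hVn, ⟨_, hVe⟩, hVP⟩ := hV
    have h1 := pCore_le_of_pRed _ hVP
    have h2 : V ≤ Subgroup.centralizer (Cfsg.pCore p L : Set L) := by
      intro v hv
      rw [Subgroup.mem_centralizer_iff]
      intro q hq
      have := h1 hq
      rw [Subgroup.mem_centralizer_iff] at this
      exact (this v hv).symm
    exact ⟨le_inf (h2.trans hchar) h2, hVe⟩
  have hYle : Y ≤ Cfsg.pCore p L ⊓ Subgroup.centralizer (Cfsg.pCore p L : Set L) := by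
    rw [hY]
    unfold Cfsg.largestPReduced
    apply sSup_le
    intro V hV
    exact (hVle V hV).1
  have hYcomm : ∀ a ∈ Y, ∀ b ∈ Y, a * b = b * a := by
    intro a ha b hb
    have h1 : a ∈ Subgroup.centralizer (Cfsg.pCore p L : Set L) := (Subgroup.mem_inf.mp (hYle ha)).2
    have h2 : b ∈ Cfsg.pCore p L := (Subgroup.mem_inf.mp (hYle hb)).1
    rw [Subgroup.mem_centralizer_iff] at h1
    exact (h1 b h2).symm
  have hYexp : ∀ a ∈ Y, a ^ p = 1 := by
    let K : Subgroup L :=
      { carrier := {g | g ∈ Y ∧ g ^ p = 1}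
        one_mem' := ⟨Y.one_mem, one_pow _⟩
        mul_mem' := by
          intro a b iha ihb
          refine ⟨Y.mul_mem iha.1 ihb.1, ?_⟩
          have hab : Commute a b := hYcomm a iha.1 b ihb.1
          rw [hab.mul_pow, iha.2, ihb.2, one_mul]
        inv_mem' := by
          intro a iha
          exact ⟨Y.inv_mem iha.1, by rw [inv_pow, iha.2, inv_one]⟩ }
    have hK : Y ≤ K := by
      rw [hY]
      unfold Cfsg.largestPReduced
      apply sSup_le
      intro V hV g hgV
      refine ⟨?_, (hVle V hV).2 g hgV⟩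
      rw [hY]
      exact (le_sSup hV : V ≤ Cfsg.largestPReduced p L) hgV
    intro a ha
    exact (hK ha).2
  have hYn : Y.Normal := by
    rw [hY]
    unfold Cfsg.largestPReduced
    exact Subgroup.sSup_normal _ (fun V hV => hV.1)
  rw [isPReducedNormal_iff]
  refine ⟨hYn, ⟨⟨⟨fun a b => Subtype.ext (hYcomm a a.2 b b.2)⟩⟩, hYexp⟩, ?_⟩
  intro D hD hDp
  intro d hd
  rw [Subgroup.mem_centralizer_iff]
  intro y hy
  have hle : Y ≤ Subgroup.centralizer ({d} : Set L) := by
    rw [hY]
    unfold Cfsg.largestPReduced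
    apply sSup_le
    intro V hV g hgV
    have hV' := (isPReducedNormal_iff V).mp hV
    have hCY : Subgroup.centralizer (Y : Set L) ≤ Subgroup.centralizer (V : Set L) :=
      Subgroup.centralizer_le (by
        intro v hv
        rw [hY]
        exact (le_sSup hV : V ≤ Cfsg.largestPReduced p L) hv)
    have h1 := hV'.2.2 D hD (fun d hd => by
      obtain ⟨k, hk⟩ := hDp d hd
      exact ⟨k, hCY hk⟩)
    have h2 := h1 hd
    rw [Subgroup.mem_centralizer_iff] at h2
    rw [Subgroup.mem_centralizer_iff]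
    intro x hx
    rw [Set.mem_singleton_iff] at hx
    subst hx
    exact (h2 g hgV).symm
  have := hle hy
  rw [Subgroup.mem_centralizer_iff] at this
  exact (this d rfl).symm

end Cfsg.Agent.Lib.Helper5
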