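import Cfsg.Prelude.Def_Amalgam

set_option autoImplicit false
open Cfsg

namespace Cfsg.Agent.Lib.Helper5

variable {G : Type*} [Group G] {p : ℕ}

theorem exists_sylow_inf_normal [Finite G] [Fact p.Prime] (T : Sylow p G) (N : Subgroup G)
    [hN : N.Normal] :
    ∃ P : Sylow p N, (P : Subgroup N).map N.subtype = (T : Subgroup G) ⊓ N := by
  have hP₀ : IsPGroup p (((T : Subgroup G) ⊓ N).subgroupOf N) :=
    (T.isPGroup'.to_inf_left).comap_of_injective N.subtype N.subtype_injective
  obtain ⟨P, hP⟩ := hP₀.exists_le_sylow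
  refine ⟨P, ?_⟩
  have hle : (T : Subgroup G) ⊓ N ≤ (P : Subgroup N).map N.subtype := by
    intro x hx
    have hxN : x ∈ N := hx.2
    refine ⟨⟨x, hxN⟩, hP ?_, rfl⟩
    rw [Subgroup.mem_subgroupOf]
    exact hx
  have hP' : IsPGroup p ((P : Subgroup N).map N.subtype) := P.isPGroup'.map _
  obtain ⟨Q, hQ⟩ := hP'.exists_le_sylow
  obtain ⟨g, hg⟩ := MulAction.exists_smul_eq G T Q
  have hmap : ((P : Subgroup N).map N.subtype).map (MulAut.conj g⁻¹).toMonoidHom ≤
      (T : Subgroup G) ⊓ N := by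
    rintro _ ⟨x, hx, rfl⟩
    have hxN : x ∈ N := by
      obtain ⟨y, _, rfl⟩ := hx
      exact y.2
    constructor
    · have hxQ : x ∈ (Q : Subgroup G) := hQ hx
      rw [← hg, Sylow.smul_def, Sylow.pointwise_smul_def] at hxQ
      obtain ⟨t, ht, rfl⟩ := hxQ
      have h3 : g⁻¹ * (g * t * g⁻¹) * g = t := by group
      simpa [h3] using ht
    · have := hN.conj_mem x hxN g⁻¹
      simpa using this
  have hcard : Nat.card ((P : Subgroup N).map N.subtype) ≤ Nat.card ((T : Subgroup G) ⊓ N : Subgroup G) := by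
    rw [← Subgroup.card_map_of_injective (K := (P : Subgroup N).map N.subtype)
      (f := (MulAut.conj g⁻¹).toMonoidHom) (MulAut.conj g⁻¹).injective]
    exact Subgroup.card_le_of_le hmap
  exact (Subgroup.eq_of_le_of_card_ge hle hcard).symm

theorem sylow_le_normalizer_inf_normal (T : Sylow p G) (N : Subgroup G) [hN : N.Normal] :
    (T : Subgroup G) ≤ Subgroup.normalizer ((((T : Subgroup G) ⊓ N : Subgroup G)) : Set G) := by
  refine le_trans ?_ Subgroup.inf_normalizer_le_normalizer_inf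
  refine le_inf Subgroup.le_normalizer ?_
  rw [Subgroup.normalizer_eq_top_iff.mpr hN]
  exact le_top

theorem frattini_inf_normal [Finite G] [Fact p.Prime] (T : Sylow p G) (N : Subgroup G)
    [hN : N.Normal] :
    Subgroup.normalizer ((((T : Subgroup G) ⊓ N : Subgroup G)) : Set G) ⊔ N = ⊤ := by
  obtain ⟨P, hP⟩ := exists_sylow_inf_normal T N
  rw [← hP]
  exact Sylow.normalizer_sup_eq_top P

end Cfsg.Agent.Lib.Helper5
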