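import Cfsg.Agent.Lib.Helper5.PReduced
import Cfsg.Agent.Lib.Helper5.SylowLib

set_option autoImplicit false
open Cfsg

namespace Cfsg.Agent.Lib.Helper5

variable {L : Type*} [Group L] {p : ℕ}

/-- If `D` is normal, every element of `D` has a `p`-power in the normal `C`, and `T` is Sylow,
then `D ≤ (D ⊓ C) ⊔ (T ⊓ D)`. -/
theorem le_sup_sylow_of_ppower [Fact p.Prime] [Finite L] (T : Sylow p L)
    (D C : Subgroup L) [hD : D.Normal] [hC : C.Normal]
    (hDp : ∀ d ∈ D, ∃ k : ℕ, d ^ p ^ k ∈ C) :
    D ≤ (D ⊓ C) ⊔ ((T : Subgroup L) ⊓ D) := by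
  have hp : p.Prime := Fact.out
  set J := (D ⊓ C) ⊔ ((T : Subgroup L) ⊓ D) with hJ
  rw [← Subgroup.relIndex_eq_one]
  have h1 : J.relIndex D ∣ (D ⊓ C).relIndex D := Subgroup.relIndex_dvd_of_le_left D le_sup_left
  have h2 : J.relIndex D ∣ ((T : Subgroup L) ⊓ D).relIndex D :=
    Subgroup.relIndex_dvd_of_le_left D le_sup_right
  -- the second index is coprime to p
  have h3 : ¬ p ∣ ((T : Subgroup L) ⊓ D).relIndex D := by
    obtain ⟨P, hP⟩ := exists_sylow_inf_normal T D
    have : ((T : Subgroup L) ⊓ D).subgroupOf D = (P : Subgroup D) := by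
      rw [← hP]
      exact Subgroup.comap_map_eq_self_of_injective D.subtype_injective _
    unfold Subgroup.relIndex
    rw [this]
    exact P.not_dvd_index
  -- the first index is a p-power
  have h4 : ∃ n : ℕ, (D ⊓ C).relIndex D = p ^ n := by
    have hCn : (D ⊓ C).Normal := inferInstance
    have hn : ((D ⊓ C).subgroupOf D).Normal := hCn.subgroupOf D
    unfold Subgroup.relIndex
    rw [Subgroup.index_eq_card]
    have hpg : IsPGroup p (D ⧸ (D ⊓ C).subgroupOf D) := by
      intro q
      obtain ⟨d, rfl⟩ := QuotientGroup.mk_surjective q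
      obtain ⟨k, hk⟩ := hDp d.1 d.2
      refine ⟨k, ?_⟩
      rw [← QuotientGroup.mk_pow, QuotientGroup.eq_one_iff, Subgroup.mem_subgroupOf]
      simp only [Subgroup.coe_pow]
      exact ⟨D.pow_mem d.2 _, hk⟩
    exact (IsPGroup.iff_card.mp hpg)
  obtain ⟨n, hn⟩ := h4
  rw [hn] at h1
  have hcop : Nat.Coprime (J.relIndex D) (p ^ n) := by
    apply Nat.Coprime.pow_right
    rw [Nat.coprime_comm, Nat.Prime.coprime_iff_not_dvd hp]
    intro h
    exact h3 (h.trans h2)
  exact Nat.Coprime.eq_one_of_dvd hcop h1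

theorem pReduced_normalClosure_of_sylow_le [Fact p.Prime] [Finite L]
    (hchar : Subgroup.centralizer (Cfsg.pCore p L : Set L) ≤ Cfsg.pCore p L)
    (T : Sylow p L) (R : Subgroup L) (hTR : (T : Subgroup L) ≤ R) (X : Subgroup ↥R)
    (hX : Cfsg.IsPReducedNormal p X) :
    Cfsg.IsPReducedNormal p (Subgroup.normalClosure ((X.map R.subtype : Subgroup L) : Set L)) := by
  rw [isPReducedNormal_iff] at hX
  obtain ⟨hXn, ⟨_, hXe⟩, hXP⟩ := hX
  set X' : Subgroup L := X.map R.subtype with hX'
  set V := Subgroup.normalClosure (X' : Set L) with hV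
  have hOn : (Cfsg.pCore p L).Normal := Cfsg.pCore_normal p L
  have hOR : Cfsg.pCore p L ≤ R := (pCore_le_sylow T).trans hTR
  -- X' centralizes O_p(L)
  have h1 : ((Cfsg.pCore p L).subgroupOf R) ≤ Subgroup.centralizer (X : Set R) := by
    refine le_trans ?_ (pCore_le_of_pRed _ hXP)
    apply le_pCore
    · exact hOn.subgroupOf R
    · exact (isPGroup_pCore p L).comap_of_injective R.subtype R.subtype_injective
  have hXcent : X' ≤ Subgroup.centralizer (Cfsg.pCore p L : Set L) := by
    rintro _ ⟨x, hx, rfl⟩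
    rw [Subgroup.mem_centralizer_iff]
    intro q hq
    have hq' : (⟨q, hOR hq⟩ : R) ∈ (Cfsg.pCore p L).subgroupOf R := by
      rw [Subgroup.mem_subgroupOf]; exact hq
    have := h1 hq'
    rw [Subgroup.mem_centralizer_iff] at this
    have h2 := this x hx
    have h3 := congrArg Subtype.val h2
    simpa using h3.symm
  have hXO : X' ≤ Cfsg.pCore p L := hXcent.trans hchar
  -- K = elements of Z(O_p(L)) of order dividing p
  have hZcomm : ∀ a ∈ Cfsg.pCore p L ⊓ Subgroup.centralizer (Cfsg.pCore p L : Set L),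
      ∀ b ∈ Cfsg.pCore p L ⊓ Subgroup.centralizer (Cfsg.pCore p L : Set L), a * b = b * a := by
    intro a ha b hb
    have h1 := (Subgroup.mem_inf.mp ha).2
    rw [Subgroup.mem_centralizer_iff] at h1
    exact (h1 b (Subgroup.mem_inf.mp hb).1).symm
  have hCn : (Subgroup.centralizer (Cfsg.pCore p L : Set L)).Normal := Subgroup.normal_centralizer
  let K : Subgroup L :=
    { carrier := {g | g ∈ Cfsg.pCore p L ⊓ Subgroup.centralizer (Cfsg.pCore p L : Set L) ∧ g ^ p = 1}
      one_mem' := ⟨Subgroup.one_mem _, one_pow _⟩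
      mul_mem' := by
        intro a b iha ihb
        refine ⟨Subgroup.mul_mem _ iha.1 ihb.1, ?_⟩
        have hab : Commute a b := hZcomm a iha.1 b ihb.1
        rw [hab.mul_pow, iha.2, ihb.2, one_mul]
      inv_mem' := by
        intro a iha
        exact ⟨Subgroup.inv_mem _ iha.1, by rw [inv_pow, iha.2, inv_one]⟩ }
  have hKn : K.Normal := by
    constructor
    intro a ha g
    refine ⟨?_, ?_⟩
    · have : (Cfsg.pCore p L ⊓ Subgroup.centralizer (Cfsg.pCore p L : Set L)).Normal := inferInstance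
      exact this.conj_mem a ha.1 g
    · rw [conj_pow, ha.2]; group
  have hX'K : (X' : Set L) ⊆ K := by
    intro x hx
    refine ⟨Subgroup.mem_inf.mpr ⟨hXO hx, hXcent hx⟩, ?_⟩
    obtain ⟨y, hy, rfl⟩ := hx
    have := hXe y hy
    have h2 := congrArg Subtype.val this
    simpa using h2
  have hVK : V ≤ K := Subgroup.normalClosure_le_normal hX'K
  have hVn : V.Normal := Subgroup.normalClosure_normal
  rw [isPReducedNormal_iff]
  refine ⟨hVn, ⟨⟨⟨fun a b => Subtype.ext (hZcomm a (hVK a.2).1 b (hVK b.2).1)⟩⟩,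
    fun a ha => (hVK ha).2⟩, ?_⟩
  -- PRed
  intro D hD hDp
  haveI := hD
  have hCVn : (Subgroup.centralizer (V : Set L)).Normal := Subgroup.normal_centralizer
  have hCVX : Subgroup.centralizer (V : Set L) ≤ Subgroup.centralizer (X' : Set L) :=
    Subgroup.centralizer_le Subgroup.subset_normalClosure
  -- (a)
  have ha : D.subgroupOf R ≤ Subgroup.centralizer (X : Set R) := by
    apply hXP _ (hD.subgroupOf R)
    intro d hd
    rw [Subgroup.mem_subgroupOf] at hd
    obtain ⟨k, hk⟩ := hDp _ hd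
    refine ⟨k, ?_⟩
    have hk' := hCVX hk
    rw [Subgroup.mem_centralizer_iff] at hk' ⊢
    intro x hx
    have := hk' (x : L) ⟨x, hx, rfl⟩
    apply Subtype.ext
    simpa using this
  have ha' : D ⊓ R ≤ Subgroup.centralizer (X' : Set L) := by
    intro d hd
    have hdR : (⟨d, hd.2⟩ : R) ∈ D.subgroupOf R := by
      rw [Subgroup.mem_subgroupOf]; exact hd.1
    have := ha hdR
    rw [Subgroup.mem_centralizer_iff] at this ⊢
    rintro _ ⟨x, hx, rfl⟩
    have h2 := congrArg Subtype.val (this x hx)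
    simpa using h2
  -- (b)
  have hb := le_sup_sylow_of_ppower T D (Subgroup.centralizer (V : Set L)) hDp
  have hDX : D ≤ Subgroup.centralizer (X' : Set L) := by
    refine hb.trans (sup_le (inf_le_right.trans hCVX) ?_)
    refine le_trans ?_ ha'
    exact le_inf inf_le_right (inf_le_left.trans hTR)
  -- (c)
  have hCDn : (Subgroup.centralizer (D : Set L)).Normal := Subgroup.normal_centralizer
  have hXD : (X' : Set L) ⊆ Subgroup.centralizer (D : Set L) := by
    intro x hx
    rw [SetLike.mem_coe, Subgroup.mem_centralizer_iff]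
    intro d hd
    have := hDX hd
    rw [Subgroup.mem_centralizer_iff] at this
    exact (this x hx).symm
  have hVD : V ≤ Subgroup.centralizer (D : Set L) := Subgroup.normalClosure_le_normal hXD
  intro d hd
  rw [Subgroup.mem_centralizer_iff]
  intro v hv
  have := hVD hv
  rw [Subgroup.mem_centralizer_iff] at this
  exact (this d hd).symm

end Cfsg.Agent.Lib.Helper5
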