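import Cfsg.Agent.Lib.Helper5.Coprime

set_option autoImplicit false
open Cfsg

namespace Cfsg.Agent.Lib.Helper5

variable {G : Type*} [Group G] {p : ℕ}

theorem pResidual_le_of_isPGroup_quotient [Fact p.Prime] (N : Subgroup G) [N.Normal]
    (h : IsPGroup p (G ⧸ N)) : Cfsg.pResidual p G ≤ N := by
  unfold Cfsg.pResidual
  rw [Subgroup.closure_le]
  intro g hg
  have hg' : (orderOf g).Coprime p := hg
  have h1 : orderOf (QuotientGroup.mk' N g) ∣ orderOf g := orderOf_map_dvd _ g
  have h2 : (orderOf (QuotientGroup.mk' N g)).Coprime p := Nat.Coprime.coprime_dvd_left h1 hg'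
  obtain ⟨k, hk⟩ := h (QuotientGroup.mk' N g)
  have h3 := pelement_coprime_eq_one (QuotientGroup.mk' N g) h2 ⟨k, hk⟩
  rw [SetLike.mem_coe, ← QuotientGroup.eq_one_iff]
  exact h3

theorem isPGroup_quotient_of_sup_eq_top (N : Subgroup G) [hN : N.Normal] (T : Subgroup G)
    (hT : IsPGroup p T) (h : N ⊔ T = ⊤) : IsPGroup p (G ⧸ N) := by
  intro x
  induction x using QuotientGroup.induction_on with
  | H g =>
    have hg : g ∈ N ⊔ T := by rw [h]; trivial
    rw [Subgroup.mem_sup_of_normal_left] at hg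
    obtain ⟨n, hn, t, ht, rfl⟩ := hg
    obtain ⟨k, hk⟩ := hT ⟨t, ht⟩
    refine ⟨k, ?_⟩
    have h1 : ((n * t : G) : G ⧸ N) = ((t : G) : G ⧸ N) := by
      rw [QuotientGroup.eq]
      have : (n * t)⁻¹ * t = t⁻¹ * n⁻¹ * t := by group
      rw [this]
      have := hN.conj_mem n⁻¹ (N.inv_mem hn) t⁻¹
      simpa using this
    rw [h1, ← QuotientGroup.mk_pow]
    have h2 : t ^ p ^ k = 1 := by
      have := congrArg Subtype.val hk
      simpa using this
    rw [h2]
    rfl

theorem pResidual_le_of_sup_eq_top [Fact p.Prime] (N : Subgroup G) [N.Normal] (T : Subgroup G)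
    (hT : IsPGroup p T) (h : N ⊔ T = ⊤) : Cfsg.pResidual p G ≤ N :=
  pResidual_le_of_isPGroup_quotient N (isPGroup_quotient_of_sup_eq_top N T hT h)

theorem pResidual_characteristic (p : ℕ) (G : Type*) [Group G] :
    (Cfsg.pResidual p G).Characteristic := by
  rw [Subgroup.characteristic_iff_map_le]
  intro φ
  unfold Cfsg.pResidual
  rw [MonoidHom.map_closure, Subgroup.closure_le]
  rintro _ ⟨g, hg, rfl⟩
  apply Subgroup.subset_closure
  have hg' : (orderOf g).Coprime p := hg
  show (orderOf (φ g)).Coprime p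
  rw [MulEquiv.orderOf_eq]
  exact hg'

theorem pResidual_normal (p : ℕ) (G : Type*) [Group G] : (Cfsg.pResidual p G).Normal := by
  haveI := pResidual_characteristic p G
  exact Subgroup.normal_of_characteristic _

theorem isPGroup_quotient_pResidual [Fact p.Prime] [Finite G] (N : Subgroup G) [N.Normal]
    (h : Cfsg.pResidual p G ≤ N) : IsPGroup p (G ⧸ N) := by
  intro x
  induction x using QuotientGroup.induction_on with
  | H g =>
    obtain ⟨a, h1, h2⟩ := pprime_part (p := p) g (isOfFinOrder_of_finite g)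
    refine ⟨a, ?_⟩
    rw [← QuotientGroup.mk_pow, QuotientGroup.eq_one_iff]
    apply h
    exact Subgroup.subset_closure h2

end Cfsg.Agent.Lib.Helper5
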