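import Mathlib
import Cfsg.Prelude.Def_Classical
import Cfsg.Agent.Lib.Helper5.CharSum2

set_option autoImplicit false

namespace Cfsg.Agent.Lib.Helper5

section
variable {F : Type*} [Field F] (m : ℕ)

/-- The polarization of the plus-type form. -/
def fpol (u v : Fin m ⊕ Fin m → F) : F :=
  Cfsg.quadFormPlus m F (u + v) - Cfsg.quadFormPlus m F u - Cfsg.quadFormPlus m F v

theorem fpol_eq (u v : Fin m ⊕ Fin m → F) :
    fpol m u v = ∑ i : Fin m, (u (.inl i) * v (.inr i) + u (.inr i) * v (.inl i)) := by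
  unfold fpol Cfsg.quadFormPlus
  rw [← Finset.sum_sub_distrib, ← Finset.sum_sub_distrib]
  apply Finset.sum_congr rfl
  intro i _
  simp only [Pi.add_apply]
  ring

theorem fpol_add_left (u u' v : Fin m ⊕ Fin m → F) :
    fpol m (u + u') v = fpol m u v + fpol m u' v := by
  rw [fpol_eq, fpol_eq, fpol_eq, ← Finset.sum_add_distrib]
  apply Finset.sum_congr rfl
  intro i _
  simp only [Pi.add_apply]
  ring

theorem fpol_add_right (u v v' : Fin m ⊕ Fin m → F) :
    fpol m u (v + v') = fpol m u v + fpol m u v' := by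
  rw [fpol_eq, fpol_eq, fpol_eq, ← Finset.sum_add_distrib]
  apply Finset.sum_congr rfl
  intro i _
  simp only [Pi.add_apply]
  ring

theorem fpol_smul_left (c : F) (u v : Fin m ⊕ Fin m → F) :
    fpol m (c • u) v = c * fpol m u v := by
  rw [fpol_eq, fpol_eq, Finset.mul_sum]
  apply Finset.sum_congr rfl
  intro i _
  simp only [Pi.smul_apply, smul_eq_mul]
  ring

theorem fpol_comm (u v : Fin m ⊕ Fin m → F) : fpol m u v = fpol m v u := by
  rw [fpol_eq, fpol_eq]
  apply Finset.sum_congr rfl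
  intro i _
  ring

theorem fpol_single_inl (i : Fin m) (v : Fin m ⊕ Fin m → F) [DecidableEq (Fin m ⊕ Fin m)] :
    fpol m (Pi.single (Sum.inl i) 1) v = v (.inr i) := by
  rw [fpol_eq, Finset.sum_eq_single i]
  · simp
  · intro j _ hji
    have h1 : (Sum.inl j : Fin m ⊕ Fin m) ≠ Sum.inl i := fun h => hji (Sum.inl.inj h)
    simp [Pi.single_apply, h1]
  · intro h; exact absurd (Finset.mem_univ _) h

theorem fpol_single_inr (i : Fin m) (v : Fin m ⊕ Fin m → F) [DecidableEq (Fin m ⊕ Fin m)] :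
    fpol m (Pi.single (Sum.inr i) 1) v = v (.inl i) := by
  rw [fpol_eq, Finset.sum_eq_single i]
  · simp
  · intro j _ hji
    have h1 : (Sum.inr j : Fin m ⊕ Fin m) ≠ Sum.inr i := fun h => hji (Sum.inr.inj h)
    simp [Pi.single_apply, h1]
  · intro h; exact absurd (Finset.mem_univ _) h

/-- `fpol · w` as a linear functional. -/
def fpolLin (w : Fin m ⊕ Fin m → F) : (Fin m ⊕ Fin m → F) →ₗ[F] F where
  toFun v := fpol m v w
  map_add' u v := fpol_add_left m u v w
  map_smul' c v := by rw [fpol_smul_left]; rfl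

end

section F2
variable (m : ℕ)

theorem fpol_self_two (u : Fin m ⊕ Fin m → ZMod 2) : fpol m u u = 0 := by
  rw [fpol_eq]
  apply Finset.sum_eq_zero
  intro i _
  rw [mul_comm (u (Sum.inr i))]
  exact CharTwo.add_self_eq_zero _

theorem fpol_nondeg_two (v : Fin m ⊕ Fin m → ZMod 2) (hv : v ≠ 0) : ∃ u, fpol m u v = 1 := by
  classical
  have : ∃ s, v s ≠ 0 := by
    by_contra h
    apply hv
    ext s
    by_contra hs
    exact h ⟨s, hs⟩
  obtain ⟨s, hs⟩ := this
  have h1 : v s = 1 := by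
    have : ∀ a : ZMod 2, a ≠ 0 → a = 1 := by decide
    exact this _ hs
  rcases s with i | i
  · exact ⟨Pi.single (Sum.inr i) 1, by rw [fpol_single_inr, h1]⟩
  · exact ⟨Pi.single (Sum.inl i) 1, by rw [fpol_single_inl, h1]⟩

theorem quadFormPlus_zero {F : Type*} [Field F] : Cfsg.quadFormPlus m F 0 = 0 := by
  unfold Cfsg.quadFormPlus
  simp

end F2

end Cfsg.Agent.Lib.Helper5
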