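import Mathlib
import Cfsg.Agent.Lib.Helper5.QF2

set_option autoImplicit false

namespace Cfsg.Agent.Lib.Helper5

open QuadraticMap

section QF3

variable {F : Type*} [Field F]

/-- A non-degenerate quadratic space of dimension at least two over a finite field represents 1. -/
theorem exists_value_one {V : Type*} [AddCommGroup V] [Module F V] [Finite F]
    [FiniteDimensional F V] {Q : QuadraticForm F V}
    (hQ : (QuadraticMap.polarBilin Q).Nondegenerate) (h2 : 2 ≤ Module.finrank F V) :
    ∃ x : V, Q x = 1 := by
  obtain ⟨k, e, f, H, han⟩ := exists_maximal_hypFam hQ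
  have hdim := finrank_perp H
  have hle := finrank_le_two_of_anisotropic Q (perp Q e f) han
  rcases Nat.eq_zero_or_pos k with hk | hk
  · subst hk
    have h2' : Module.finrank F (perp Q e f) = 2 := by omega
    obtain ⟨x, _, hx⟩ := exists_value_of_anisotropic Q _ han h2' 1 one_ne_zero
    exact ⟨x, hx⟩
  · refine ⟨e ⟨0, hk⟩ + f ⟨0, hk⟩, ?_⟩
    rw [QuadraticMap.map_add (⇑Q) _ _, H.e_sing, H.f_sing, H.ef, if_pos rfl]
    simp

/-- An orthogonal family with all values 1 except the last (odd characteristic). -/
theorem exists_orth_family [Finite F] (h2 : (2 : F) ≠ 0) :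
    ∀ (n : ℕ) {V : Type*} [AddCommGroup V] [Module F V] [FiniteDimensional F V]
      (Q : QuadraticForm F V), (QuadraticMap.polarBilin Q).Nondegenerate →
      Module.finrank F V = n + 1 →
      ∃ b : Fin (n + 1) → V, (∀ i j, i ≠ j → polar Q (b i) (b j) = 0) ∧
        (∀ i, i ≠ Fin.last n → Q (b i) = 1) ∧ Q (b (Fin.last n)) ≠ 0 := by
  intro n
  induction n with
  | zero =>
    intro V _ _ _ Q hQ hV
    haveI : Nontrivial V := Module.nontrivial_of_finrank_pos (R := F) (by omega)
    obtain ⟨x, hx0⟩ := exists_ne (0 : V)
    have hall := (finrank_eq_one_iff_of_nonzero' x hx0).1 hV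
    have hQx : Q x ≠ 0 := by
      intro h
      apply hx0
      apply hQ.1 x
      intro y
      obtain ⟨c, rfl⟩ := hall y
      show polar Q x (c • x) = 0
      rw [polar_smul_right, polar_self, h]
      simp
    refine ⟨fun _ => x, ?_, ?_, hQx⟩
    · intro i j hij
      exact absurd (Fin.ext (by omega)) hij
    · intro i hi
      exact absurd (Fin.ext (by simp [Fin.last])) hi
  | succ n ih =>
    intro V _ _ _ Q hQ hV
    obtain ⟨x, hQx⟩ := exists_value_one hQ (by omega)
    have hxx : (QuadraticMap.polarBilin Q) x x ≠ 0 := by
      show polar Q x x ≠ 0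
      rw [polar_self, hQx]
      simpa using h2
    have hx0 : x ≠ 0 := by
      rintro rfl
      simp at hQx
    have hrefl : (QuadraticMap.polarBilin Q).IsRefl := by
      intro a b hab
      show polar Q b a = 0
      rw [polar_comm]; exact hab
    set B : LinearMap.BilinForm F V := QuadraticMap.polarBilin Q with hB
    have hcompl := LinearMap.BilinForm.isCompl_span_singleton_orthogonal hxx
    have hnd := LinearMap.BilinForm.restrict_nondegenerate_orthogonal_spanSingleton B hQ hrefl hxx
    set W := LinearMap.BilinForm.orthogonal B (F ∙ x) with hW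
    have hdim : Module.finrank F W = n + 1 := by
      have h1 := Submodule.finrank_add_eq_of_isCompl hcompl
      rw [finrank_span_singleton hx0, hV] at h1
      omega
    have hortho : ∀ w ∈ W, polar Q x w = 0 := by
      intro w hw
      exact (LinearMap.BilinForm.mem_orthogonal_iff.1 hw) x (Submodule.mem_span_singleton_self x)
    have hQ' : (QuadraticMap.polarBilin (Q.comp W.subtype)).Nondegenerate := by
      have : QuadraticMap.polarBilin (Q.comp W.subtype) = B.restrict W := by
        apply LinearMap.ext₂
        intro a b
        rfl
      rw [this]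
      exact hnd
    obtain ⟨b', hb1, hb2, hb3⟩ := ih (Q.comp W.subtype) hQ' hdim
    have hpol : ∀ a c : W, polar (Q.comp W.subtype) a c = polar Q (a : V) (c : V) := fun a c => rfl
    refine ⟨Fin.cons x (fun i => (b' i : V)), ?_, ?_, ?_⟩
    · intro i j
      refine Fin.cases ?_ (fun i' => ?_) i <;> refine Fin.cases ?_ (fun j' => ?_) j
      · intro h; exact absurd rfl h
      · intro _
        simp only [Fin.cons_zero, Fin.cons_succ]
        exact hortho _ (b' j').2
      · intro _
        simp only [Fin.cons_zero, Fin.cons_succ]
        rw [polar_comm]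
        exact hortho _ (b' i').2
      · intro h
        simp only [Fin.cons_succ]
        rw [← hpol]
        apply hb1
        intro h'
        exact h (congrArg Fin.succ h')
    · intro i
      refine Fin.cases ?_ (fun i' => ?_) i
      · intro _
        simpa using hQx
      · intro h
        simp only [Fin.cons_succ]
        have : i' ≠ Fin.last n := by
          intro h'
          apply h
          rw [h', Fin.succ_last]
        exact hb2 i' this
    · rw [← Fin.succ_last, Fin.cons_succ]
      exact hb3

/-- The value of the form on a combination of pairwise orthogonal vectors. -/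
theorem Q_orth_sum {V : Type*} [AddCommGroup V] [Module F V] (Q : QuadraticForm F V)
    {ι : Type*} (b : ι → V) (hb : ∀ i j, i ≠ j → polar Q (b i) (b j) = 0) (r : ι → F)
    (s : Finset ι) : Q (∑ i ∈ s, r i • b i) = ∑ i ∈ s, r i * r i * Q (b i) := by
  classical
  induction s using Finset.induction with
  | empty => simp
  | insert j s hj ih =>
    rw [Finset.sum_insert hj, Finset.sum_insert hj, QuadraticMap.map_add (⇑Q) (r j • b j) _, ih,
      QuadraticMap.map_smul]
    have h2 : polar Q (r j • b j) (∑ i ∈ s, r i • b i) = 0 := by
      rw [polar_sum_right]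
      apply Finset.sum_eq_zero
      intro i hi
      have hij : j ≠ i := fun h => hj (h ▸ hi)
      rw [polar_smul_left, polar_smul_right, hb j i hij]
      simp
    rw [h2, add_zero, smul_eq_mul]

end QF3

end Cfsg.Agent.Lib.Helper5
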