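import Mathlib

set_option autoImplicit false

namespace Cfsg.Agent.Lib.Helper5

variable {G : Type*} [Group G]

theorem isCoatom_comap_mk (N : Subgroup G) [N.Normal] (K : Subgroup (G ⧸ N)) (hK : IsCoatom K) :
    IsCoatom (K.comap (QuotientGroup.mk' N)) := by
  have hsurj : Function.Surjective (QuotientGroup.mk' N) := QuotientGroup.mk'_surjective N
  constructor
  · intro h
    apply hK.1
    rw [← Subgroup.map_comap_eq_self_of_surjective hsurj K, h, ← MonoidHom.range_eq_map,
      MonoidHom.range_eq_top.mpr hsurj]
  · intro L hL
    have hNL : (QuotientGroup.mk' N).ker ≤ L := by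
      refine le_trans ?_ hL.le
      intro x hx
      rw [Subgroup.mem_comap]
      rw [MonoidHom.mem_ker] at hx
      rw [hx]
      exact K.one_mem
    have h1 : K ≤ L.map (QuotientGroup.mk' N) := by
      rw [← Subgroup.map_comap_eq_self_of_surjective hsurj K]
      exact Subgroup.map_mono hL.le
    have h2 : K ≠ L.map (QuotientGroup.mk' N) := by
      intro h
      have : L ≤ K.comap (QuotientGroup.mk' N) := by
        rw [h]
        exact Subgroup.le_comap_map _ _
      exact absurd hL (not_lt_of_ge this)
    have h3 := hK.2 _ (lt_of_le_of_ne h1 h2)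
    rw [← Subgroup.comap_map_eq_self hNL, h3, Subgroup.comap_top]

theorem isCoatom_map_mk (N : Subgroup G) [N.Normal] (M : Subgroup G) (hM : IsCoatom M)
    (hNM : N ≤ M) : IsCoatom (M.map (QuotientGroup.mk' N)) := by
  have hsurj : Function.Surjective (QuotientGroup.mk' N) := QuotientGroup.mk'_surjective N
  have hker : (QuotientGroup.mk' N).ker ≤ M := by rw [QuotientGroup.ker_mk']; exact hNM
  constructor
  · intro h
    apply hM.1
    rw [← Subgroup.comap_map_eq_self hker, h, Subgroup.comap_top]
  · intro K hK
    have h1 : M ≤ K.comap (QuotientGroup.mk' N) := by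
      rw [← Subgroup.comap_map_eq_self hker]
      exact Subgroup.comap_mono hK.le
    have h2 : M ≠ K.comap (QuotientGroup.mk' N) := by
      intro h
      have : K ≤ M.map (QuotientGroup.mk' N) := by
        rw [h, Subgroup.map_comap_eq_self_of_surjective hsurj]
      exact absurd hK (not_lt_of_ge this)
    have h3 := hM.2 _ (lt_of_le_of_ne h1 h2)
    rw [← Subgroup.map_comap_eq_self_of_surjective hsurj K, h3, ← MonoidHom.range_eq_map,
      MonoidHom.range_eq_top.mpr hsurj]

end Cfsg.Agent.Lib.Helper5
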