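import Cfsg.Agent.Lib.Helper5.CopGen3

set_option autoImplicit false

namespace Cfsg.Agent.Lib.Helper5

variable {G : Type*} [Group G]

/-- two commuting elements of order `p` generating disjoint cyclic groups span an `E_{p²}` -/
theorem rank_two_of_commuting [Finite G] {p : ℕ} [Fact p.Prime] (a b : G) (ha : orderOf a = p)
    (hb : orderOf b = p) (hab : Commute a b)
    (hdisj : Subgroup.zpowers a ⊓ Subgroup.zpowers b = ⊥) :
    (∀ e ∈ Subgroup.zpowers a ⊔ Subgroup.zpowers b, e ^ p = 1) ∧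
      Nat.card (Subgroup.zpowers a ⊔ Subgroup.zpowers b : Subgroup G) = p ^ 2 := by
  have hnorm : Subgroup.zpowers a ≤ Subgroup.normalizer ((Subgroup.zpowers b : Subgroup G) : Set G) := by
    refine le_trans ?_ (Subgroup.centralizer_le_normalizer _)
    rintro _ ⟨i, rfl⟩
    rw [Subgroup.mem_centralizer_iff]
    rintro _ ⟨j, rfl⟩
    exact ((hab.zpow_zpow i j).eq).symm
  constructor
  · intro e he
    obtain ⟨z₁, ⟨i, rfl⟩, z₂, ⟨j, rfl⟩, rfl⟩ := (mem_sup_of_le_normalizer _ _ hnorm e).mp he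
    show (a ^ i * b ^ j) ^ p = 1
    rw [(hab.zpow_zpow i j).mul_pow, ← zpow_natCast, ← zpow_natCast, ← zpow_mul, ← zpow_mul,
      mul_comm i, mul_comm j, zpow_mul, zpow_mul, zpow_natCast, zpow_natCast]
    have h1 : a ^ p = 1 := by rw [← ha]; exact pow_orderOf_eq_one a
    have h2 : b ^ p = 1 := by rw [← hb]; exact pow_orderOf_eq_one b
    rw [h1, h2, one_zpow, one_zpow, one_mul]
  · have := Cfsg.Agent.Lib.Helper2.card_sup_mul_card_inf _ _ hnorm
    rw [hdisj, Subgroup.card_bot, mul_one, Nat.card_zpowers, Nat.card_zpowers, ha, hb] at this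
    rw [this, sq]

/-- a normal subgroup of order divisible by `p` meets every Sylow `p`-subgroup in an element of
order `p` -/
theorem exists_orderOf_eq_prime_mem_sylow_inf [Finite G] {p : ℕ} [Fact p.Prime] (S : Sylow p G)
    (N : Subgroup G) [hN : N.Normal] (h : p ∣ Nat.card N) :
    ∃ a : G, a ∈ (S : Subgroup G) ∧ a ∈ N ∧ orderOf a = p := by
  obtain ⟨x, hx⟩ := exists_prime_orderOf_dvd_card' p h
  have hxo : orderOf (x : G) = p := by rw [Subgroup.orderOf_coe]; exact hx
  have hZp : IsPGroup p (Subgroup.zpowers (x : G)) := by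
    apply IsPGroup.of_card (n := 1)
    rw [Nat.card_zpowers, hxo, pow_one]
  obtain ⟨Q, hQ⟩ := hZp.exists_le_sylow
  obtain ⟨g, hg⟩ := MulAction.exists_smul_eq G Q S
  refine ⟨g * x * g⁻¹, ?_, ?_, ?_⟩
  · rw [← hg, sylow_smul_coe]
    exact ⟨x, hQ (Subgroup.mem_zpowers _), by simp⟩
  · exact hN.conj_mem _ x.2 g
  · have := orderOf_injective (MulAut.conj g).toMonoidHom (MulAut.conj g).injective (x : G)
    simp only [MulEquiv.coe_toMonoidHom, MulAut.conj_apply] at this
    rw [this, hxo]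

end Cfsg.Agent.Lib.Helper5
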