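import Mathlib

set_option autoImplicit false

namespace Cfsg.Agent.Lib.Helper5

section RegUnip

variable {K V : Type*} [Field K] [AddCommGroup V] [Module K V] [FiniteDimensional K V]

/-- Nullity of a composite is at most the sum of the nullities. -/
theorem finrank_ker_comp_le (f g : V →ₗ[K] V) :
    Module.finrank K (LinearMap.ker (f ∘ₗ g)) ≤
      Module.finrank K (LinearMap.ker f) + Module.finrank K (LinearMap.ker g) := by
  classical
  -- restrict g to ker (f ∘ g), landing in ker f
  let h : LinearMap.ker (f ∘ₗ g) →ₗ[K] LinearMap.ker f :=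
    LinearMap.codRestrict (LinearMap.ker f) (g ∘ₗ (LinearMap.ker (f ∘ₗ g)).subtype) (by
      intro x
      have hx : (f ∘ₗ g) (x : V) = 0 := LinearMap.mem_ker.1 x.2
      rw [LinearMap.mem_ker]
      exact hx)
  have h1 := LinearMap.finrank_range_add_finrank_ker h
  have h2 : Module.finrank K (LinearMap.range h) ≤ Module.finrank K (LinearMap.ker f) :=
    Submodule.finrank_le _
  have h3 : Module.finrank K (LinearMap.ker h) ≤ Module.finrank K (LinearMap.ker g) := by
    let j : LinearMap.ker h →ₗ[K] LinearMap.ker g :=
      LinearMap.codRestrict (LinearMap.ker g)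
        ((LinearMap.ker (f ∘ₗ g)).subtype ∘ₗ (LinearMap.ker h).subtype) (by
        intro x
        have hx : h (x : LinearMap.ker (f ∘ₗ g)) = 0 := LinearMap.mem_ker.1 x.2
        rw [LinearMap.mem_ker]
        have := congrArg Subtype.val hx
        exact this)
    apply LinearMap.finrank_le_finrank_of_injective (f := j)
    intro a b hab
    have := congrArg Subtype.val hab
    simp only [j, LinearMap.codRestrict_apply, LinearMap.comp_apply, Submodule.subtype_apply] at this
    exact Subtype.ext (Subtype.ext this)
  omega

theorem finrank_ker_pow_le (φ : Module.End K V) (k : ℕ) :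
    Module.finrank K (LinearMap.ker (φ ^ k)) ≤ k * Module.finrank K (LinearMap.ker φ) := by
  induction k with
  | zero =>
    have : LinearMap.ker (φ ^ 0) = ⊥ := by
      rw [pow_zero, Module.End.one_eq_id, LinearMap.ker_id]
    rw [this, finrank_bot]; simp
  | succ k ih =>
    have h := finrank_ker_comp_le (φ ^ k) φ
    have e : φ ^ (k + 1) = (φ ^ k) ∘ₗ φ := by
      rw [pow_succ]; rfl
    rw [e]
    have : (k + 1) * Module.finrank K (LinearMap.ker φ)
        = k * Module.finrank K (LinearMap.ker φ) + Module.finrank K (LinearMap.ker φ) := by ring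
    omega

/-- A subspace invariant under a nilpotent endomorphism with at most one-dimensional kernel is the
kernel of the power of the endomorphism given by its dimension. -/
theorem eq_ker_pow_of_invariant (φ : Module.End K V) (hnil : IsNilpotent φ)
    (hker : Module.finrank K (LinearMap.ker φ) ≤ 1) (W : Submodule K V)
    (hW : ∀ v ∈ W, φ v ∈ W) :
    W = LinearMap.ker (φ ^ Module.finrank K W) := by
  classical
  set d := Module.finrank K W with hd
  -- restriction
  let ψ : Module.End K W := φ.restrict hW
  have hψpow : ∀ k : ℕ, ∀ w : W, ((ψ ^ k) w : V) = (φ ^ k) (w : V) := by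
    intro k
    induction k with
    | zero => intro w; simp
    | succ k ih =>
      intro w
      rw [pow_succ', pow_succ', Module.End.mul_apply, Module.End.mul_apply]
      have : ((ψ ((ψ ^ k) w) : W) : V) = φ (((ψ ^ k) w : W) : V) := rfl
      rw [this, ih]
  have hψnil : IsNilpotent ψ := by
    obtain ⟨k, hk⟩ := hnil
    refine ⟨k, ?_⟩
    ext w
    rw [hψpow, hk]
    simp
  have hψd : ψ ^ d = 0 := by
    have h1 := (LinearMap.isNilpotent_iff_charpoly ψ).1 hψnil
    have h2 := LinearMap.aeval_self_charpoly ψ
    rw [h1] at h2
    simpa using h2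
  have hle : W ≤ LinearMap.ker (φ ^ d) := by
    intro w hw
    rw [LinearMap.mem_ker]
    have := hψpow d ⟨w, hw⟩
    rw [hψd] at this
    simpa using this.symm
  have hdim : Module.finrank K (LinearMap.ker (φ ^ d)) ≤ Module.finrank K W := by
    have := finrank_ker_pow_le φ d
    calc Module.finrank K (LinearMap.ker (φ ^ d)) ≤ d * Module.finrank K (LinearMap.ker φ) := this
      _ ≤ d * 1 := Nat.mul_le_mul_left d hker
      _ = Module.finrank K W := by rw [mul_one]
  exact Submodule.eq_of_le_of_finrank_le hle hdim

/-- For a nilpotent endomorphism with at most one-dimensional kernel on a space of dimension `n`,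
the kernel of the `d`-th power lies in the range of the `d`-th power when `2 d ≤ n`. -/
theorem ker_pow_le_range_pow (φ : Module.End K V) (hnil : φ ^ Module.finrank K V = 0)
    (hker : Module.finrank K (LinearMap.ker φ) ≤ 1) (d : ℕ) (hd : 2 * d ≤ Module.finrank K V) :
    LinearMap.ker (φ ^ d) ≤ LinearMap.range (φ ^ d) := by
  classical
  set n := Module.finrank K V with hn
  have h1 : LinearMap.range (φ ^ d) ≤ LinearMap.ker (φ ^ (n - d)) := by
    rintro _ ⟨x, rfl⟩
    rw [LinearMap.mem_ker, ← Module.End.mul_apply, ← pow_add]
    have : n - d + d = n := by omega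
    rw [this, hnil]; rfl
  have h2 : Module.finrank K (LinearMap.ker (φ ^ (n - d))) ≤ n - d := by
    have := finrank_ker_pow_le φ (n - d)
    calc _ ≤ (n - d) * Module.finrank K (LinearMap.ker φ) := this
      _ ≤ (n - d) * 1 := Nat.mul_le_mul_left _ hker
      _ = n - d := mul_one _
  have h3 : Module.finrank K (LinearMap.ker (φ ^ d)) ≤ d := by
    have := finrank_ker_pow_le φ d
    calc _ ≤ d * Module.finrank K (LinearMap.ker φ) := this
      _ ≤ d * 1 := Nat.mul_le_mul_left _ hker
      _ = d := mul_one _
  have h4 := LinearMap.finrank_range_add_finrank_ker (φ ^ d)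
  have h5 : Module.finrank K (LinearMap.ker (φ ^ (n - d)))
      ≤ Module.finrank K (LinearMap.range (φ ^ d)) := by omega
  have h6 := Submodule.eq_of_le_of_finrank_le h1 h5
  rw [h6]
  intro x hx
  rw [LinearMap.mem_ker] at hx ⊢
  have : n - d = (n - 2 * d) + d := by omega
  rw [this, pow_add, Module.End.mul_apply, hx, map_zero]

end RegUnip

end Cfsg.Agent.Lib.Helper5
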