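import Cfsg.Agent.Lib.Helper5.SPE
import Cfsg.Agent.Lib.Helper5.YL2
import Cfsg.Prelude.Def_LocalStructure

set_option autoImplicit false
open Cfsg

namespace Cfsg.Agent.Lib.Helper5

variable {H : Type*} [Group H] {p : ℕ}

/-- abbreviation for the conjugate `g Q g⁻¹` -/
abbrev cj (Q : Subgroup H) (g : H) : Subgroup H := Q.map (MulAut.conj g).toMonoidHom

theorem cj_le_cj {A B : Subgroup H} (h : A ≤ B) (g : H) : cj A g ≤ cj B g := Subgroup.map_mono h

theorem mem_cj_of_mem {A : Subgroup H} {a : H} (ha : a ∈ A) (g : H) : g * a * g⁻¹ ∈ cj A g :=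
  ⟨a, ha, by simp⟩

theorem cj_eq_self_iff (Q : Subgroup H) (g : H) :
    cj Q g = Q ↔ g ∈ Subgroup.normalizer (Q : Set H) := (mem_normalizer_iff_map_conj Q g).symm

section Fin
variable [Finite H] [Fact p.Prime]

theorem wc_of_sylow (Q : Subgroup H) (hwc : Cfsg.IsWeaklyClosedSubgroup p Q) (T' : Sylow p H)
    (hQT' : Q ≤ (T' : Subgroup H)) : Cfsg.IsWeaklyClosed Q (T' : Subgroup H) := by
  obtain ⟨T, hQT, hT⟩ := hwc
  obtain ⟨x, hx⟩ := MulAction.exists_smul_eq H T T'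
  have hT' : (T' : Subgroup H) = cj (T : Subgroup H) x := by rw [← hx, sylow_smul_coe]
  have h1 : cj Q x⁻¹ ≤ (T : Subgroup H) := by
    have := cj_le_cj hQT' x⁻¹
    rwa [hT', cj, cj, map_conj_inv_conj] at this
  have h2 : cj Q x⁻¹ = Q := hT x⁻¹ h1
  have h3 : cj Q x = Q := by
    have := congrArg (fun K => cj K x) h2
    simp only [cj, map_conj_conj_inv] at this
    exact this.symm
  refine ⟨hQT', ?_⟩
  intro g hg
  have h4 : cj Q (x⁻¹ * g) ≤ (T : Subgroup H) := by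
    have := cj_le_cj hg x⁻¹
    rwa [hT', cj, cj, cj, map_conj_inv_conj, map_conj_conj] at this
  have h5 : cj Q (x⁻¹ * g) = Q := hT _ h4
  have h6 := congrArg (fun K => cj K x) h5
  simp only [cj, map_conj_conj] at h6
  have : x * (x⁻¹ * g) = g := by group
  rw [this] at h6
  rw [h6]
  exact h3

theorem wc_pgroup (Q : Subgroup H) (hwc : Cfsg.IsWeaklyClosedSubgroup p Q) (R : Subgroup H)
    (hR : IsPGroup p R) (hQR : Q ≤ R) (g : H) (hg : cj Q g ≤ R) : cj Q g = Q := by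
  obtain ⟨T', hT'⟩ := hR.exists_le_sylow
  exact (wc_of_sylow Q hwc T' (hQR.trans hT')).2 g (hg.trans hT')

theorem wc_normalizer (Q : Subgroup H) (hwc : Cfsg.IsWeaklyClosedSubgroup p Q) (R : Subgroup H)
    (hR : IsPGroup p R) (hQR : Q ≤ R) : R ≤ Subgroup.normalizer (Q : Set H) := by
  intro r hr
  rw [← cj_eq_self_iff]
  apply wc_pgroup Q hwc R hR hQR
  rintro _ ⟨q, hq, rfl⟩
  simp only [MulEquiv.toMonoidHom_eq_coe, MonoidHom.coe_coe, MulAut.conj_apply]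
  exact R.mul_mem (R.mul_mem hr (hQR hq)) (R.inv_mem hr)

theorem wc_conj_in (Q : Subgroup H) (hQp : IsPGroup p Q) (hwc : Cfsg.IsWeaklyClosedSubgroup p Q)
    (K : Subgroup H) (hQK : Q ≤ K) (g : H) (hg : cj Q g ≤ K) :
    ∃ k ∈ K, cj Q g = cj Q k := by
  obtain ⟨S₁, hS₁, hQS₁⟩ := exists_isMaxPIn_ge K Q hQp hQK
  obtain ⟨S₂, hS₂, hQS₂⟩ := exists_isMaxPIn_ge K (cj Q g) (hQp.map _) hg
  obtain ⟨k, hk, hkS⟩ := hS₁.conj hS₂
  refine ⟨k, hk, ?_⟩
  have h1 : cj Q (k⁻¹ * g) ≤ S₁ := by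
    have := cj_le_cj hQS₂ k⁻¹
    rwa [← hkS, cj, cj, cj, map_conj_inv_conj, map_conj_conj] at this
  have h2 := wc_pgroup Q hwc S₁ hS₁.2.1 hQS₁ _ h1
  have h3 := congrArg (fun A => cj A k) h2
  simp only [cj, map_conj_conj] at h3
  have : k * (k⁻¹ * g) = g := by group
  rw [this] at h3
  exact h3

end Fin

end Cfsg.Agent.Lib.Helper5
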