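import Mathlib
import Cfsg.Agent.Lib.Helper5.CPin2
import Cfsg.Agent.Lib.Helper5.CharPLocal
import Cfsg.Agent.Lib.Helper5.WC

set_option autoImplicit false

namespace Cfsg.Agent.Lib.Helper5

variable {G : Type*} [Group G] {p : ℕ}

/-- the elements of `N` (normalizing `A` and `B`) acting trivially on `A` modulo `B`. -/
def chainStab (N A B : Subgroup G) : Subgroup G where
  carrier := {g | g ∈ N ⊓ Subgroup.normalizer (A : Set G) ⊓ Subgroup.normalizer (B : Set G) ∧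
    ∀ a ∈ A, a⁻¹ * (g * a * g⁻¹) ∈ B}
  one_mem' := ⟨Subgroup.one_mem _, fun a _ => by simp [B.one_mem]⟩
  mul_mem' := by
    rintro x y ⟨hx, h1⟩ ⟨hy, h2⟩
    refine ⟨Subgroup.mul_mem _ hx hy, ?_⟩
    intro a ha
    have h3 : a⁻¹ * (x * y * a * (x * y)⁻¹) =
        (a⁻¹ * (x * a * x⁻¹)) * (x * (a⁻¹ * (y * a * y⁻¹)) * x⁻¹) := by group
    rw [h3]
    exact B.mul_mem (h1 a ha) ((Subgroup.mem_normalizer_iff.mp hx.2 _).mp (h2 a ha))
  inv_mem' := by
    rintro x ⟨hx, h1⟩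
    refine ⟨Subgroup.inv_mem _ hx, ?_⟩
    intro a ha
    have hxA := hx.1.2
    have ha' : x⁻¹ * a * x⁻¹⁻¹ ∈ A :=
      (Subgroup.mem_normalizer_iff.mp (Subgroup.inv_mem _ hxA) a).mp ha
    have h2 := h1 _ ha'
    have h3 : a⁻¹ * (x⁻¹ * a * x⁻¹⁻¹) =
        ((x⁻¹ * a * x⁻¹⁻¹)⁻¹ * (x * (x⁻¹ * a * x⁻¹⁻¹) * x⁻¹))⁻¹ := by group
    rw [h3]
    exact B.inv_mem h2

theorem mem_chainStab_iff (N A B : Subgroup G) (g : G) :
    g ∈ chainStab N A B ↔
      g ∈ N ⊓ Subgroup.normalizer (A : Set G) ⊓ Subgroup.normalizer (B : Set G) ∧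
        ∀ a ∈ A, a⁻¹ * (g * a * g⁻¹) ∈ B := Iff.rfl

theorem chainStab_conj_mem (N A B : Subgroup G) (g l : G) (hg : g ∈ chainStab N A B)
    (hl : l ∈ N ⊓ Subgroup.normalizer (A : Set G) ⊓ Subgroup.normalizer (B : Set G)) :
    l * g * l⁻¹ ∈ chainStab N A B := by
  obtain ⟨hg1, hg2⟩ := hg
  refine ⟨Subgroup.mul_mem _ (Subgroup.mul_mem _ hl hg1) (Subgroup.inv_mem _ hl), ?_⟩
  intro a ha
  have ha' : l⁻¹ * a * l⁻¹⁻¹ ∈ A :=
    (Subgroup.mem_normalizer_iff.mp (Subgroup.inv_mem _ hl.1.2) a).mp ha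
  have h2 := hg2 _ ha'
  have h3 : a⁻¹ * (l * g * l⁻¹ * a * (l * g * l⁻¹)⁻¹) =
      l * ((l⁻¹ * a * l⁻¹⁻¹)⁻¹ * (g * (l⁻¹ * a * l⁻¹⁻¹) * g⁻¹)) * l⁻¹ := by group
  rw [h3]
  exact (Subgroup.mem_normalizer_iff.mp hl.2 _).mp h2

theorem chainStab_normalizer (N A B : Subgroup G) :
    N ⊓ Subgroup.normalizer (A : Set G) ⊓ Subgroup.normalizer (B : Set G) ≤
      Subgroup.normalizer ((chainStab N A B : Subgroup G) : Set G) := by
  intro l hl
  rw [Subgroup.mem_normalizer_iff]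
  intro g
  constructor
  · intro hg
    exact chainStab_conj_mem N A B g l hg hl
  · intro hg
    have := chainStab_conj_mem N A B _ l⁻¹ hg (Subgroup.inv_mem _ hl)
    have h3 : l⁻¹ * (l * g * l⁻¹) * l⁻¹⁻¹ = g := by group
    rwa [h3] at this

theorem chainStab_le (N A B : Subgroup G) : chainStab N A B ≤ N := fun _ hg => hg.1.1.1

/-- a `p'`-element stabilizing the chain `A ≥ B ≥ 1` (with `B` a `p`-group) centralizes `A`. -/
theorem chainStab_centralizes [Fact p.Prime] (N A B : Subgroup G) (hB : IsPGroup p B) (x : G)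
    (hx : x ∈ chainStab N A B) (hxc : (orderOf x).Coprime p) (hxB : ∀ b ∈ B, x * b = b * x) :
    ∀ a ∈ A, x * a = a * x :=
  coprime_centralizes_step x hxc A B hB hxB hx.2

theorem eq_one_of_conj_eq_mul [Fact p.Prime] (x q c : G) (hx : (orderOf x).Coprime p)
    (hc : ∃ k : ℕ, c ^ p ^ k = 1) (hcomm : x * c = c * x) (h : q * x * q⁻¹ = x * c) : c = 1 := by
  have h1 : (q * x * q⁻¹) ^ orderOf x = 1 := by
    rw [conj_pow, pow_orderOf_eq_one]; group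
  rw [h, (show Commute x c from hcomm).mul_pow, pow_orderOf_eq_one, one_mul] at h1
  obtain ⟨k, hk⟩ := hc
  have h3 : orderOf c ∣ orderOf x := orderOf_dvd_of_pow_eq_one h1
  have h4 : orderOf c ∣ p ^ k := orderOf_dvd_of_pow_eq_one hk
  have h5 : (orderOf x).Coprime (p ^ k) := Nat.Coprime.pow_right k hx
  have h6 : orderOf c = 1 := Nat.eq_one_of_dvd_coprimes h5 h3 h4
  exact orderOf_eq_one_iff.mp h6

/-- overgroups of a weakly closed centric `p`-subgroup inside a group of characteristic `p`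
have characteristic `p`. -/
theorem cpin_of_wc_le [Finite G] [Fact p.Prime] (Q : Subgroup G) (hQp : IsPGroup p Q)
    (hwc : Cfsg.IsWeaklyClosedSubgroup p Q)
    (hCQ : Subgroup.centralizer (Q : Set G) ≤ Q) (M L : Subgroup G) (hM : CPin p M)
    (hQL : Q ≤ L) (hLM : L ≤ M) : CPin p L := by
  intro x hxL hxc hxP
  have hD₀p : IsPGroup p (Cfsg.pCoreOf p M) := isPGroup_pCoreOf p M
  have hMD₀ : M ≤ Subgroup.normalizer ((Cfsg.pCoreOf p M : Subgroup G) : Set G) :=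
    pCoreOf_normalizer M
  have hLD₀ := hLM.trans hMD₀
  have hLD₁ : L ≤ Subgroup.normalizer ((Cfsg.pCoreOf p M ⊓ L : Subgroup G) : Set G) :=
    fun l hl => mem_normalizer_inf _ _ l (hLD₀ hl) (Subgroup.le_normalizer hl)
  have hD₁P : Cfsg.pCoreOf p M ⊓ L ≤ Cfsg.pCoreOf p L :=
    le_pCoreOf L _ inf_le_right hLD₁ (hD₀p.to_le inf_le_left)
  have hQD₀p : IsPGroup p (Q ⊔ Cfsg.pCoreOf p M : Subgroup G) :=
    hQp.to_sup_of_normal_right' hD₀p ((hQL.trans hLM).trans hMD₀)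
  have hD₀NQ : Cfsg.pCoreOf p M ≤ Subgroup.normalizer (Q : Set G) :=
    le_sup_right.trans (wc_normalizer Q hwc _ hQD₀p le_sup_left)
  have hLW : ∀ l ∈ L, l ∈ L ⊓ Subgroup.normalizer ((Cfsg.pCoreOf p M : Subgroup G) : Set G) ⊓
      Subgroup.normalizer ((Cfsg.pCoreOf p M ⊓ L : Subgroup G) : Set G) :=
    fun l hl => ⟨⟨hl, hLD₀ hl⟩, hLD₁ hl⟩
  have hQW : Q ≤ chainStab L (Cfsg.pCoreOf p M) (Cfsg.pCoreOf p M ⊓ L) := by
    intro q hq
    refine ⟨hLW q (hQL hq), ?_⟩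
    intro d hd
    constructor
    · exact Subgroup.mul_mem _ (Subgroup.inv_mem _ hd)
        ((Subgroup.mem_normalizer_iff.mp (hLD₀ (hQL hq)) d).mp hd)
    · have h1 : d⁻¹ * q * d⁻¹⁻¹ ∈ Q :=
        (Subgroup.mem_normalizer_iff.mp (hD₀NQ (Subgroup.inv_mem _ hd)) q).mp hq
      have h2 : d⁻¹ * (q * d * q⁻¹) = (d⁻¹ * q * d⁻¹⁻¹) * q⁻¹ := by group
      rw [h2]
      exact hQL (Q.mul_mem h1 (Q.inv_mem hq))
  have hWK : ∀ w ∈ chainStab L (Cfsg.pCoreOf p M) (Cfsg.pCoreOf p M ⊓ L),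
      w ∈ Subgroup.centralizer ((Cfsg.pCoreOf p L : Subgroup G) : Set G) →
      (orderOf w).Coprime p → w = 1 := by
    intro w hw hwP hwc
    apply hM w (hLM hw.1.1.1) hwc
    apply chainStab_centralizes L _ _ (hD₀p.to_le inf_le_left) w hw hwc
    intro c hc
    exact (Subgroup.mem_centralizer_iff.mp hwP c (hD₁P hc)).symm
  have hWKp : IsPGroup p (chainStab L (Cfsg.pCoreOf p M) (Cfsg.pCoreOf p M ⊓ L) ⊓
      (L ⊓ Subgroup.centralizer ((Cfsg.pCoreOf p L : Subgroup G) : Set G)) : Subgroup G) :=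
    isPGroup_of_forall_coprime_eq_one _ (fun w hw hc => hWK w hw.1 hw.2.2 hc)
  have hWKP : chainStab L (Cfsg.pCoreOf p M) (Cfsg.pCoreOf p M ⊓ L) ⊓
      (L ⊓ Subgroup.centralizer ((Cfsg.pCoreOf p L : Subgroup G) : Set G)) ≤ Cfsg.pCoreOf p L := by
    apply le_pCoreOf L _ (inf_le_right.trans inf_le_left) _ hWKp
    intro l hl
    apply mem_normalizer_inf
    · exact chainStab_normalizer _ _ _ (hLW l hl)
    · apply mem_normalizer_inf
      · exact Subgroup.le_normalizer hl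
      · exact normalizer_le_normalizer_centralizer _ (pCoreOf_normalizer L hl)
  have hxC : x ∈ Subgroup.centralizer ((Cfsg.pCoreOf p L : Subgroup G) : Set G) :=
    Subgroup.mem_centralizer_iff.mpr (fun c hc => (hxP c hc).symm)
  have hxQ : x ∈ Subgroup.centralizer (Q : Set G) := by
    rw [Subgroup.mem_centralizer_iff]
    intro q hq
    have hc : x⁻¹ * (q * x * q⁻¹) ∈ chainStab L (Cfsg.pCoreOf p M) (Cfsg.pCoreOf p M ⊓ L) ⊓
        (L ⊓ Subgroup.centralizer ((Cfsg.pCoreOf p L : Subgroup G) : Set G)) := by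
      refine ⟨?_, ?_, ?_⟩
      · have h1 := chainStab_conj_mem _ _ _ q x⁻¹ (hQW hq) (hLW _ (L.inv_mem hxL))
        have h2 : x⁻¹ * (q * x * q⁻¹) = (x⁻¹ * q * x⁻¹⁻¹) * q⁻¹ := by group
        rw [h2]
        exact Subgroup.mul_mem _ h1 (Subgroup.inv_mem _ (hQW hq))
      · exact L.mul_mem (L.inv_mem hxL) (L.mul_mem (L.mul_mem (hQL hq) hxL) (L.inv_mem (hQL hq)))
      · exact Subgroup.mul_mem _ (Subgroup.inv_mem _ hxC)
          (conj_mem_centralizer_of_mem_normalizer _ q x (pCoreOf_normalizer L (hQL hq)) hxC)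
    have hcP := hWKP hc
    have h1 := eq_one_of_conj_eq_mul x q _ hxc (isPGroup_mem_pow _ (isPGroup_pCoreOf p L) _ hcP)
      (hxP _ hcP) (by group : q * x * q⁻¹ = x * (x⁻¹ * (q * x * q⁻¹)))
    have h2 : q * x * q⁻¹ = x := by
      have := inv_mul_eq_one.mp h1
      exact this.symm
    calc q * x = q * x * q⁻¹ * q := by group
      _ = x * q := by rw [h2]
  exact eq_one_of_mem_pgroup_of_coprime Q hQp x (hCQ hxQ) hxc

end Cfsg.Agent.Lib.Helper5

namespace Cfsg.Agent.Lib.Helper5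

open scoped commutatorElement

variable {G : Type*} [Group G] {p : ℕ}

/-- main step for overgroups of a weakly closed centric `p`-subgroup -/
theorem wc_overgroup_main [Finite G] [Fact p.Prime] (Q : Subgroup G) (hQp : IsPGroup p Q)
    (hwc : Cfsg.IsWeaklyClosedSubgroup p Q)
    (hCQ : Subgroup.centralizer (Q : Set G) ≤ Q) (L : Subgroup G) (hQL : Q ≤ L)
    (hov : ∀ L' : Subgroup G, Q ≤ L' → Cfsg.pCoreOf p L ≤ Cfsg.pCoreOf p L' → CPin p L') :
    ⁅Q, Subgroup.centralizer ((Cfsg.pCoreOf p L : Subgroup G) : Set G)⁆ ≤ Q ⊓ Cfsg.pCoreOf p L ∧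
    IsPGroup p ↥(Subgroup.centralizer ((Cfsg.pCoreOf p L : Subgroup G) : Set G)) := by
  obtain ⟨P, hPdef⟩ : ∃ P : Subgroup G, P = Cfsg.pCoreOf p L := ⟨_, rfl⟩
  obtain ⟨C, hCdef⟩ : ∃ C : Subgroup G, C = Subgroup.centralizer (P : Set G) := ⟨_, rfl⟩
  rw [← hPdef] at hov ⊢
  rw [← hCdef]
  have hPp : IsPGroup p P := hPdef ▸ isPGroup_pCoreOf p L
  have hPL : P ≤ L := hPdef ▸ pCoreOf_le p L
  have hLP : L ≤ Subgroup.normalizer (P : Set G) := hPdef ▸ pCoreOf_normalizer L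
  have hLC : L ≤ Subgroup.normalizer (C : Set G) := by
    rw [hCdef]; exact hLP.trans (normalizer_le_normalizer_centralizer P)
  have hLtC : C ⊔ L ≤ Subgroup.normalizer (C : Set G) := sup_le Subgroup.le_normalizer hLC
  have hLtP : C ⊔ L ≤ Subgroup.normalizer (P : Set G) := by
    refine sup_le ?_ hLP
    rw [hCdef]; exact Subgroup.centralizer_le_normalizer _
  have hPPt : P ≤ Cfsg.pCoreOf p (C ⊔ L) :=
    le_pCoreOf (C ⊔ L) P (hPL.trans le_sup_right) hLtP hPp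
  have hcpL : CPin p L := hov L hQL (hPdef ▸ le_rfl)
  have hcpLt : CPin p (C ⊔ L) := hov (C ⊔ L) (hQL.trans le_sup_right) hPPt
  obtain ⟨Pt, hPtdef⟩ : ∃ Pt : Subgroup G, Pt = Cfsg.pCoreOf p (C ⊔ L) := ⟨_, rfl⟩
  rw [← hPtdef] at hPPt
  have hPtp : IsPGroup p Pt := hPtdef ▸ isPGroup_pCoreOf p (C ⊔ L)
  have hPtLt : Pt ≤ C ⊔ L := hPtdef ▸ pCoreOf_le p (C ⊔ L)
  have hLtPt : C ⊔ L ≤ Subgroup.normalizer (Pt : Set G) := hPtdef ▸ pCoreOf_normalizer (C ⊔ L)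
  have hQLt : Q ≤ C ⊔ L := hQL.trans le_sup_right
  have hQPtp : IsPGroup p (Q ⊔ Pt : Subgroup G) :=
    hQp.to_sup_of_normal_right' hPtp (hQLt.trans hLtPt)
  have hPtNQ : Pt ≤ Subgroup.normalizer (Q : Set G) :=
    le_sup_right.trans (wc_normalizer Q hwc _ hQPtp le_sup_left)
  have hPtL : Pt ⊓ L ≤ P := by
    rw [hPdef]
    apply le_pCoreOf L _ inf_le_right _ (hPtp.to_le inf_le_left)
    intro l hl
    exact mem_normalizer_inf _ _ l (hLtPt (le_sup_right (a := C) hl)) (Subgroup.le_normalizer hl)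
  have hLtE : C ⊔ L ≤ Subgroup.normalizer ((Pt ⊓ C : Subgroup G) : Set G) :=
    fun l hl => mem_normalizer_inf _ _ l (hLtPt hl) (hLtC hl)
  have hLtE₀ : C ⊔ L ≤ Subgroup.normalizer ((P ⊓ C : Subgroup G) : Set G) :=
    fun l hl => mem_normalizer_inf _ _ l (hLtP hl) (hLtC hl)
  have hLtSt : ∀ l ∈ C ⊔ L, l ∈ (C ⊔ L) ⊓ Subgroup.normalizer ((Pt ⊓ C : Subgroup G) : Set G) ⊓
      Subgroup.normalizer ((P ⊓ C : Subgroup G) : Set G) :=
    fun l hl => ⟨⟨hl, hLtE hl⟩, hLtE₀ hl⟩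
  have hconj : ∀ (N : Subgroup G) (l n : G), l ∈ Subgroup.normalizer (N : Set G) → n ∈ N →
      l * n * l⁻¹ ∈ N := fun N l n hl hn => (Subgroup.mem_normalizer_iff.mp hl n).mp hn
  have hQSt : Q ≤ chainStab (C ⊔ L) (Pt ⊓ C) (P ⊓ C) := by
    intro q hq
    refine ⟨hLtSt q (hQLt hq), ?_⟩
    intro e he
    have h1 : q * e * q⁻¹ ∈ Pt ⊓ C := hconj _ q e (hLtE (hQLt hq)) he
    refine ⟨?_, C.mul_mem (C.inv_mem he.2) h1.2⟩
    apply hPtL
    refine ⟨Pt.mul_mem (Pt.inv_mem he.1) h1.1, ?_⟩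
    have h2 : e⁻¹ * q * e⁻¹⁻¹ ∈ Q := hconj _ e⁻¹ q (hPtNQ (Pt.inv_mem he.1)) hq
    have h3 : e⁻¹ * (q * e * q⁻¹) = (e⁻¹ * q * e⁻¹⁻¹) * q⁻¹ := by group
    rw [h3]
    exact hQL (Q.mul_mem h2 (Q.inv_mem hq))
  have hStC : ∀ w ∈ chainStab (C ⊔ L) (Pt ⊓ C) (P ⊓ C), w ∈ C → (orderOf w).Coprime p → w = 1 := by
    intro w hw hwC hwc
    have hwLt : w ∈ C ⊔ L := hw.1.1.1
    apply hcpLt w hwLt hwc
    rw [← hPtdef]
    apply coprime_centralizes_step w hwc Pt (Pt ⊓ C) (hPtp.to_le inf_le_left)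
    · apply chainStab_centralizes (C ⊔ L) _ _ (hPp.to_le inf_le_left) w hw hwc
      intro b hb
      rw [hCdef] at hwC
      exact (Subgroup.mem_centralizer_iff.mp hwC b hb.1).symm
    · intro r hr
      refine ⟨Pt.mul_mem (Pt.inv_mem hr) (hconj _ w r (hLtPt hwLt) hr), ?_⟩
      have h2 : r⁻¹ * w * r⁻¹⁻¹ ∈ C := hconj _ r⁻¹ w (hLtC (hPtLt (Pt.inv_mem hr))) hwC
      have h3 : r⁻¹ * (w * r * w⁻¹) = (r⁻¹ * w * r⁻¹⁻¹) * w⁻¹ := by group
      rw [h3]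
      exact C.mul_mem h2 (C.inv_mem hwC)
  have hStCp : IsPGroup p (chainStab (C ⊔ L) (Pt ⊓ C) (P ⊓ C) ⊓ C : Subgroup G) :=
    isPGroup_of_forall_coprime_eq_one _ (fun w hw hc => hStC w hw.1 hw.2 hc)
  have hCNQ : C ≤ Subgroup.normalizer (Q : Set G) := by
    intro c hc
    have hcLt : c ∈ C ⊔ L := le_sup_left (b := L) hc
    have hRp : IsPGroup p (Q ⊔ (chainStab (C ⊔ L) (Pt ⊓ C) (P ⊓ C) ⊓ C) : Subgroup G) := by
      apply hQp.to_sup_of_normal_right' hStCp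
      intro q hq
      exact mem_normalizer_inf _ _ q (chainStab_normalizer _ _ _ (hLtSt q (hQLt hq)))
        (hLtC (hQLt hq))
    rw [← cj_eq_self_iff]
    apply wc_pgroup Q hwc _ hRp le_sup_left
    rintro _ ⟨q, hq, rfl⟩
    have h1 : c * q * c⁻¹ = q * (q⁻¹ * (c * q * c⁻¹)) := by group
    simp only [MulEquiv.toMonoidHom_eq_coe, MonoidHom.coe_coe, MulAut.conj_apply]
    rw [h1]
    apply Subgroup.mul_mem _ (Subgroup.mem_sup_left hq)
    apply Subgroup.mem_sup_right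
    constructor
    · exact Subgroup.mul_mem _ (Subgroup.inv_mem _ (hQSt hq))
        (chainStab_conj_mem _ _ _ q c (hQSt hq) (hLtSt c hcLt))
    · have h2 : q⁻¹ * c * q⁻¹⁻¹ ∈ C := hconj _ q⁻¹ c (hLC (hQL (Q.inv_mem hq))) hc
      have h3 : q⁻¹ * (c * q * c⁻¹) = (q⁻¹ * c * q⁻¹⁻¹) * c⁻¹ := by group
      rw [h3]
      exact C.mul_mem h2 (C.inv_mem hc)
  have hLCP : L ⊓ C ≤ P := by
    rw [hPdef]
    apply le_pCoreOf L _ inf_le_left
    · intro l hl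
      exact mem_normalizer_inf _ _ l (Subgroup.le_normalizer hl) (hLC hl)
    · apply isPGroup_of_forall_coprime_eq_one
      intro w hw hc
      apply hcpL w hw.1 hc
      intro q hq
      have hwC := hw.2
      rw [hCdef] at hwC
      rw [← hPdef] at hq
      exact (Subgroup.mem_centralizer_iff.mp hwC q hq).symm
  have hcomm : ⁅Q, C⁆ ≤ Q ⊓ P := by
    rw [Subgroup.commutator_le]
    intro q hq c hc
    have h1 : c * q⁻¹ * c⁻¹ ∈ Q := hconj _ c q⁻¹ (hCNQ hc) (Q.inv_mem hq)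
    have h2 : ⁅q, c⁆ = q * (c * q⁻¹ * c⁻¹) := by rw [commutatorElement_def]; group
    have h3 : ⁅q, c⁆ ∈ Q := by rw [h2]; exact Q.mul_mem hq h1
    refine ⟨h3, hLCP ⟨hQL h3, ?_⟩⟩
    have h4 : q * c * q⁻¹ ∈ C := hconj _ q c (hLC (hQL hq)) hc
    rw [commutatorElement_def]
    exact C.mul_mem h4 (C.inv_mem hc)
  refine ⟨hcomm, ?_⟩
  apply isPGroup_of_forall_coprime_eq_one
  intro x hx hxc
  have hxQ : ∀ r ∈ Q, x * r = r * x := by
    apply coprime_centralizes_step x hxc Q (Q ⊓ P) (hQp.to_le inf_le_left)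
    · intro b hb
      have hxC := hx
      rw [hCdef] at hxC
      exact (Subgroup.mem_centralizer_iff.mp hxC b hb.2).symm
    · intro r hr
      apply hcomm
      have h1 : r⁻¹ * (x * r * x⁻¹) = ⁅r⁻¹, x⁆ := by rw [commutatorElement_def]; group
      rw [h1]
      exact Subgroup.commutator_mem_commutator (Q.inv_mem hr) hx
  have hxCQ : x ∈ Subgroup.centralizer (Q : Set G) :=
    Subgroup.mem_centralizer_iff.mpr (fun r hr => (hxQ r hr).symm)
  exact eq_one_of_mem_pgroup_of_coprime Q hQp x (hCQ hxCQ) hxc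

/-- if some `y ∈ O_p(L') ∩ C(Q)` has `C(y)` of characteristic `p`, then `L' ≥ Q` has
characteristic `p`. -/
theorem cpin_of_wc_of_centralizer [Finite G] [Fact p.Prime] (Q : Subgroup G) (hQp : IsPGroup p Q)
    (hwc : Cfsg.IsWeaklyClosedSubgroup p Q)
    (hCQ : Subgroup.centralizer (Q : Set G) ≤ Q) (L' : Subgroup G) (hQL : Q ≤ L') (y : G)
    (hyP : y ∈ Cfsg.pCoreOf p L') (hyQ : y ∈ Subgroup.centralizer (Q : Set G))
    (hy : CPin p (Subgroup.centralizer ({y} : Set G))) : CPin p L' := by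
  have hQM : Q ≤ Subgroup.centralizer ({y} : Set G) := by
    intro q hq
    rw [Subgroup.mem_centralizer_iff]
    intro h hh
    rw [Set.mem_singleton_iff] at hh
    rw [hh]
    exact (Subgroup.mem_centralizer_iff.mp hyQ q hq).symm
  have h1 := cpin_of_wc_le Q hQp hwc hCQ _ (L' ⊓ Subgroup.centralizer ({y} : Set G)) hy
    (le_inf hQL hQM) inf_le_right
  rw [centralizer_singleton_eq_zpowers] at h1
  apply cpin_of_centralizer L' (Subgroup.zpowers y) _ h1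
  rw [Subgroup.zpowers_le]
  exact hyP

theorem cpin_top_of_charp [Finite G] [Fact p.Prime]
    (h : Subgroup.centralizer (Cfsg.pCore p G : Set G) ≤ Cfsg.pCore p G) :
    CPin p (⊤ : Subgroup G) :=
  cpin_of_charp ⊤ (charp_of_equiv Subgroup.topEquiv.symm h)

end Cfsg.Agent.Lib.Helper5
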