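import Mathlib
import Cfsg.Prelude.Def_TwoFusion
import Cfsg.Agent.Lib.Helper4.Fusion
import Cfsg.Agent.Lib.Helper5.WCCharP
import Cfsg.Agent.Lib.Helper5.Basic
import Cfsg.Agent.Lib.Helper5.SPE

set_option autoImplicit false

namespace Cfsg.Agent.Lib.Helper5

open Cfsg.Agent.Lib.Helper4

variable {G : Type*} [Group G]

/-- An element stabilizing the chain `U ≥ A₀ ≥ 1` has a power of exponent `#A₀` centralizing `U`. -/
theorem stab_pow_mem_centralizer [Finite G] (U A₀ : Subgroup G) (m : G)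
    (h1 : ∀ u ∈ U, u⁻¹ * (m * u * m⁻¹) ∈ A₀) (h2 : ∀ x ∈ A₀, m * x * m⁻¹ = x) :
    m ^ Nat.card A₀ ∈ Subgroup.centralizer (U : Set G) := by
  have key : ∀ j : ℕ, ∀ u ∈ U, m ^ j * u * (m ^ j)⁻¹ = u * (u⁻¹ * (m * u * m⁻¹)) ^ j := by
    intro j
    induction j with
    | zero => intro u _; simp
    | succ j ih =>
      intro u hu
      obtain ⟨z, hz⟩ : ∃ z, z = u⁻¹ * (m * u * m⁻¹) := ⟨_, rfl⟩
      have hzA : z ∈ A₀ := by rw [hz]; exact h1 u hu
      have hzj : m * z ^ j * m⁻¹ = z ^ j := h2 _ (A₀.pow_mem hzA j)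
      have hmu : m * u * m⁻¹ = u * z := by rw [hz]; group
      have ih' := ih u hu
      rw [← hz] at ih' ⊢
      calc m ^ (j + 1) * u * (m ^ (j + 1))⁻¹ = m * (m ^ j * u * (m ^ j)⁻¹) * m⁻¹ := by
            rw [pow_succ', mul_inv_rev]; simp only [mul_assoc]
        _ = m * (u * z ^ j) * m⁻¹ := by rw [ih']
        _ = (m * u * m⁻¹) * (m * z ^ j * m⁻¹) := by simp only [mul_assoc, inv_mul_cancel_left]
        _ = u * z * z ^ j := by rw [hzj, hmu]
        _ = u * z ^ (j + 1) := by rw [pow_succ', mul_assoc]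
  rw [Subgroup.mem_centralizer_iff]
  intro u hu
  have h3 := key (Nat.card A₀) u hu
  have h4 : (u⁻¹ * (m * u * m⁻¹)) ^ Nat.card A₀ = 1 := by
    have := pow_card_eq_one' (G := A₀) (x := ⟨_, h1 u hu⟩)
    exact congrArg Subtype.val this
  rw [h4, mul_one] at h3
  calc u * m ^ Nat.card A₀ = (m ^ Nat.card A₀ * u * (m ^ Nat.card A₀)⁻¹) * m ^ Nat.card A₀ := by
        rw [h3]
    _ = m ^ Nat.card A₀ * u := by simp only [mul_assoc, inv_mul_cancel, mul_one]

/-- Induction along a `Fuses` chain. -/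
theorem fuses_realize [Finite G] (A : Subgroup G) (𝓕 : Set (Subgroup G)) (k : ℕ)
    (hΨ : ∀ T ∈ 𝓕, k ≤ Nat.card T → ∀ n ∈ Subgroup.normalizer (T : Set G),
      ∃ y ∈ Subgroup.normalizer (A : Set G), ∀ u ∈ T, y * u * y⁻¹ = n * u * n⁻¹)
    (X : Set G) (g : G) (h : Fuses 𝓕 X g) (hX : k ≤ X.ncard) :
    ∃ y ∈ Subgroup.normalizer (A : Set G), ∀ a ∈ X, y⁻¹ * a * y = g⁻¹ * a * g := by
  induction h with
  | nil X => exact ⟨1, Subgroup.one_mem _, fun a _ => by simp⟩
  | cons X T x g hT hx hXT _ ih =>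
    have hcard : k ≤ Nat.card T := by
      have h1 : X.ncard ≤ (T : Set G).ncard := Set.ncard_le_ncard hXT (Set.toFinite _)
      have h2 : (T : Set G).ncard = Nat.card T := (Nat.card_coe_set_eq (T : Set G)).symm
      omega
    obtain ⟨y₁, hy₁, hy₁'⟩ := hΨ T hT hcard x⁻¹ (inv_mem hx)
    have hrc : (rc x X).ncard = X.ncard := by
      unfold rc
      apply Set.ncard_image_of_injective
      intro a b hab
      simpa using hab
    obtain ⟨y₂, hy₂, hy₂'⟩ := ih (by rw [hrc]; exact hX)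
    refine ⟨y₁⁻¹ * y₂, Subgroup.mul_mem _ (inv_mem hy₁) hy₂, ?_⟩
    intro a ha
    have e1 := hy₁' a (hXT ha)
    have hmem : x⁻¹ * a * x ∈ rc x X := ⟨a, ha, rfl⟩
    have e2 := hy₂' _ hmem
    rw [inv_inv] at e1
    calc (y₁⁻¹ * y₂)⁻¹ * a * (y₁⁻¹ * y₂) = y₂⁻¹ * (y₁ * a * y₁⁻¹) * y₂ := by
          simp only [mul_inv_rev, inv_inv, mul_assoc]
      _ = y₂⁻¹ * (x⁻¹ * a * x) * y₂ := by rw [e1]
      _ = g⁻¹ * (x⁻¹ * a * x) * g := e2
      _ = (x * g)⁻¹ * a * (x * g) := by simp only [mul_inv_rev, mul_assoc]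

/-- The key step: for a fully normalized `U ≤ S`, conjugation by `N_G(U)` on `U` is realized in
`N_G(A)`, given the fusion control for all bigger subgroups of `S`. -/
theorem sc_step [Finite G] {p : ℕ} [Fact p.Prime] (S : Sylow p G) (A : Subgroup G)
    (hA : ∀ a ∈ A, ∀ b ∈ A, a * b = b * a) (hsc : Cfsg.IsStronglyClosed A (S : Subgroup G))
    (U : Subgroup G) (hUS : U ≤ (S : Subgroup G))
    (hfn : ¬ p ∣ ((S : Subgroup G) ⊓ Subgroup.normalizer (U : Set G)).relIndex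
      (Subgroup.normalizer (U : Set G)))
    (IH : ∀ B' : Subgroup G, B' ≤ (S : Subgroup G) → Nat.card U < Nat.card B' → ∀ g : G,
      (∀ b ∈ B', g * b * g⁻¹ ∈ (S : Subgroup G)) →
        ∃ y ∈ Subgroup.normalizer (A : Set G), ∀ b ∈ B', y * b * y⁻¹ = g * b * g⁻¹)
    (n : G) (hn : n ∈ Subgroup.normalizer (U : Set G)) :
    ∃ y ∈ Subgroup.normalizer (A : Set G), ∀ u ∈ U, y * u * y⁻¹ = n * u * n⁻¹ := by
  classical
  obtain ⟨hAS, hcl⟩ := hsc
  have hSA : (S : Subgroup G) ≤ Subgroup.normalizer (A : Set G) := by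
    intro s hs
    rw [Subgroup.mem_normalizer_iff]
    intro x
    constructor
    · intro hx
      exact hcl x hx s (Subgroup.mul_mem _ (Subgroup.mul_mem _ hs (hAS hx)) (Subgroup.inv_mem _ hs))
    · intro hx
      have h1 : s⁻¹ * (s * x * s⁻¹) * s⁻¹⁻¹ ∈ A :=
        hcl _ hx s⁻¹ (Subgroup.mul_mem _ (Subgroup.mul_mem _ (Subgroup.inv_mem _ hs) (hAS hx))
          (Subgroup.inv_mem _ (Subgroup.inv_mem _ hs)))
      have h2 : s⁻¹ * (s * x * s⁻¹) * s⁻¹⁻¹ = x := by group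
      rwa [h2] at h1
  by_cases hAU : A ≤ U
  · refine ⟨n, ?_, fun u _ => rfl⟩
    have hconj : ∀ m ∈ Subgroup.normalizer (U : Set G), ∀ x ∈ A, m * x * m⁻¹ ∈ A := by
      intro m hm x hx
      apply hcl x hx m
      exact hUS ((Subgroup.mem_normalizer_iff.1 hm x).1 (hAU hx))
    rw [Subgroup.mem_normalizer_iff]
    intro x
    constructor
    · exact hconj n hn x
    · intro hx
      have h1 := hconj n⁻¹ (inv_mem hn) _ hx
      have h2 : n⁻¹ * (n * x * n⁻¹) * n⁻¹⁻¹ = x := by group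
      rwa [h2] at h1
  · obtain ⟨NU, hNU⟩ : ∃ NU : Subgroup G, NU = Subgroup.normalizer (U : Set G) := ⟨_, rfl⟩
    obtain ⟨A₀, hA₀⟩ : ∃ A₀ : Subgroup G, A₀ = A ⊓ U := ⟨_, rfl⟩
    obtain ⟨AN, hAN⟩ : ∃ AN : Subgroup G, AN = A ⊓ NU := ⟨_, rfl⟩
    obtain ⟨SN, hSN⟩ : ∃ SN : Subgroup G, SN = (S : Subgroup G) ⊓ NU := ⟨_, rfl⟩
    obtain ⟨C, hC⟩ : ∃ C : Subgroup G, C = Subgroup.centralizer (U : Set G) := ⟨_, rfl⟩
    rw [← hNU] at hfn hn
    rw [← hSN] at hfn
    have hUNU : U ≤ NU := by rw [hNU]; exact Subgroup.le_normalizer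
    have hCNU : C ≤ NU := by rw [hC, hNU]; exact Subgroup.centralizer_le_normalizer _
    have hSNNU : SN ≤ NU := by rw [hSN]; exact inf_le_right
    have hSNS : SN ≤ (S : Subgroup G) := by rw [hSN]; exact inf_le_left
    have hSNp : IsPGroup p SN := S.2.to_le hSNS
    have hnorm : ∀ m ∈ NU, ∀ u, u ∈ U ↔ m * u * m⁻¹ ∈ U := by
      intro m hm u
      rw [hNU] at hm
      exact Subgroup.mem_normalizer_iff.1 hm u
    -- an element of `A ∩ N_G(U)` outside `U`
    have hUA : U < U ⊔ A := by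
      apply lt_of_le_of_ne le_sup_left
      intro h
      apply hAU
      rw [h]
      exact le_sup_right
    have hUAS : U ⊔ A ≤ (S : Subgroup G) := sup_le hUS hAS
    have hUAp : IsPGroup p (U ⊔ A : Subgroup G) := S.2.to_le hUAS
    have hlt := lt_inf_normalizer_of_lt (U ⊔ A) hUAp U hUA
    obtain ⟨z, hz1, hz2⟩ := SetLike.exists_of_lt hlt
    have hUnA : U ≤ Subgroup.normalizer (A : Set G) := hUS.trans hSA
    have hcoe := Subgroup.coe_mul_of_left_le_normalizer_right U A hUnA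
    obtain ⟨u0, hu0, a0, ha0, hza⟩ : ∃ u0 ∈ U, ∃ a0 ∈ A, u0 * a0 = z := by
      have : z ∈ ((U ⊔ A : Subgroup G) : Set G) := hz1.1
      rw [hcoe] at this
      exact Set.mem_mul.1 this
    have ha0N : a0 ∈ NU := by
      have : a0 = u0⁻¹ * z := by rw [← hza]; group
      rw [this, hNU]
      exact Subgroup.mul_mem _ (Subgroup.inv_mem _ (Subgroup.le_normalizer hu0)) hz1.2
    have ha0U : a0 ∉ U := by
      intro h
      apply hz2
      rw [← hza]
      exact U.mul_mem hu0 h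
    -- `A₀` is normalized by `NU`
    have hA₀n : ∀ m ∈ NU, ∀ x ∈ A₀, m * x * m⁻¹ ∈ A₀ := by
      intro m hm x hx
      rw [hA₀] at hx ⊢
      have hxU : m * x * m⁻¹ ∈ U := (hnorm m hm x).1 hx.2
      exact ⟨hcl x hx.1 m (hUS hxU), hxU⟩
    have hNUA₀ : NU ≤ Subgroup.normalizer (A₀ : Set G) := by
      intro m hm
      rw [Subgroup.mem_normalizer_iff]
      intro x
      constructor
      · exact hA₀n m hm x
      · intro hx
        have h1 := hA₀n m⁻¹ (inv_mem hm) _ hx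
        have h2 : m⁻¹ * (m * x * m⁻¹) * m⁻¹⁻¹ = x := by group
        rwa [h2] at h1
    -- the stability group
    obtain ⟨K, hK⟩ : ∃ K : Subgroup G, K = chainStab NU U A₀ ⊓ Subgroup.centralizer (A₀ : Set G) :=
      ⟨_, rfl⟩
    have hKNU : K ≤ NU := by
      rw [hK]; exact inf_le_left.trans (chainStab_le NU U A₀)
    have hfull : ∀ m ∈ NU, m ∈ NU ⊓ Subgroup.normalizer (U : Set G) ⊓
        Subgroup.normalizer (A₀ : Set G) := by
      intro m hm
      exact ⟨⟨hm, by rw [← hNU]; exact hm⟩, hNUA₀ hm⟩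
    have hKnormal : ∀ m ∈ NU, ∀ k ∈ K, m * k * m⁻¹ ∈ K := by
      intro m hm k hk
      rw [hK] at hk ⊢
      exact ⟨chainStab_conj_mem NU U A₀ k m hk.1 (hfull m hm),
        conj_mem_centralizer_of_mem_normalizer A₀ m k (hNUA₀ hm) hk.2⟩
    have hANK : AN ≤ K := by
      intro a ha
      rw [hAN] at ha
      rw [hK]
      refine ⟨⟨hfull a ha.2, ?_⟩, ?_⟩
      · intro u hu
        rw [hA₀]
        refine ⟨?_, U.mul_mem (U.inv_mem hu) ((hnorm a ha.2 u).1 hu)⟩
        have h1 : u⁻¹ * a * u⁻¹⁻¹ ∈ A :=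
          (Subgroup.mem_normalizer_iff.1 (hUnA (U.inv_mem hu)) a).1 ha.1
        have h2 : u⁻¹ * (a * u * a⁻¹) = (u⁻¹ * a * u⁻¹⁻¹) * a⁻¹ := by group
        rw [h2]
        exact A.mul_mem h1 (A.inv_mem ha.1)
      · show a ∈ Subgroup.centralizer (A₀ : Set G)
        rw [Subgroup.mem_centralizer_iff]
        intro x hx
        rw [hA₀] at hx
        exact hA x hx.1 a ha.1
    have hKstab : ∀ k ∈ K, k ^ Nat.card A₀ ∈ C := by
      intro k hk
      rw [hK] at hk
      rw [hC]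
      apply stab_pow_mem_centralizer U A₀ k
      · exact hk.1.2
      · intro x hx
        have := (Subgroup.mem_centralizer_iff.1 hk.2) x hx
        rw [← this]
        group
    -- `K ≤ SN ⊔ C`
    have hA₀p : IsPGroup p A₀ := by
      rw [hA₀]; exact S.2.to_le (inf_le_left.trans hAS)
    obtain ⟨e, he⟩ := (IsPGroup.iff_card).1 hA₀p
    have hKM : K ≤ SN ⊔ C := by
      haveI hCn : (C.subgroupOf NU).Normal := by
        apply Subgroup.normal_subgroupOf_of_le_normalizer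
        rw [hNU, hC]
        exact normalizer_le_normalizer_centralizer U
      let π := QuotientGroup.mk' (C.subgroupOf NU)
      have hπ : Function.Surjective π := QuotientGroup.mk'_surjective _
      have hK'n : (K.subgroupOf NU).Normal := by
        constructor
        intro k hk m
        rw [Subgroup.mem_subgroupOf] at hk ⊢
        exact hKnormal m m.2 k hk
      have hKπn : ((K.subgroupOf NU).map π).Normal := hK'n.map π hπ
      have hKπp : IsPGroup p ((K.subgroupOf NU).map π) := by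
        rintro ⟨x, k, hk, rfl⟩
        refine ⟨e, ?_⟩
        apply Subtype.ext
        have hk' : (k : G) ∈ K := hk
        have h1 := hKstab k hk'
        rw [he] at h1
        show (π k) ^ p ^ e = 1
        rw [← map_pow]
        apply (QuotientGroup.eq_one_iff _).2
        rw [Subgroup.mem_subgroupOf]
        exact h1
      have hSN' : IsPGroup p (SN.subgroupOf NU) := hSNp.comap_subtype
      let S' : Sylow p NU := hSN'.toSylow hfn
      have hle : (K.subgroupOf NU).map π ≤ ((S'.mapSurjective hπ : Sylow p _) : Subgroup _) := by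
        apply le_sylow_of_normalizedBy _ _ hKπp
        rw [Subgroup.normalizer_eq_top_iff.2 hKπn]
        exact le_top
      intro k hk
      have hkNU : k ∈ NU := hKNU hk
      have h1 : π ⟨k, hkNU⟩ ∈ (K.subgroupOf NU).map π :=
        Subgroup.mem_map_of_mem _ (by rw [Subgroup.mem_subgroupOf]; exact hk)
      have h2 := hle h1
      rw [Sylow.coe_mapSurjective] at h2
      obtain ⟨s, hs, hsk⟩ := h2
      have hs' : (s : G) ∈ SN := by
        have : s ∈ SN.subgroupOf NU := hs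
        rwa [Subgroup.mem_subgroupOf] at this
      have h3 : s⁻¹ * ⟨k, hkNU⟩ ∈ C.subgroupOf NU := QuotientGroup.eq.1 hsk
      rw [Subgroup.mem_subgroupOf] at h3
      have h4 : k = (s : G) * ((s : G)⁻¹ * k) := by group
      rw [h4]
      exact Subgroup.mul_mem _ (Subgroup.mem_sup_left hs') (Subgroup.mem_sup_right h3)
    -- Sylow's theorem in `M = SN ⊔ C`
    have hMNU : SN ⊔ C ≤ NU := sup_le hSNNU hCNU
    have hidxM : ¬ p ∣ SN.relIndex (SN ⊔ C) := by
      intro h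
      apply hfn
      rw [← Subgroup.relIndex_mul_relIndex SN (SN ⊔ C) NU le_sup_left hMNU]
      exact dvd_mul_of_dvd_left h _
    have hQK : Cfsg.Agent.Lib.Helper4.cj n AN ≤ K := by
      rintro _ ⟨a, ha, rfl⟩
      exact hKnormal n hn a (hANK ha)
    have hANp : IsPGroup p AN := by
      rw [hAN]; exact S.2.to_le (inf_le_left.trans hAS)
    obtain ⟨m, hmM, hmQ⟩ := exists_conj_le_of_relIndex p (SN ⊔ C) SN (Cfsg.Agent.Lib.Helper4.cj n AN) hSNp hidxM
      (hQK.trans hKM) (cj_isPGroup p n hANp)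
    have hSNC : SN ≤ Subgroup.normalizer (C : Set G) := by
      rw [hC]
      exact hSNNU.trans (by rw [hNU]; exact normalizer_le_normalizer_centralizer U)
    have hcoe2 := Subgroup.coe_mul_of_left_le_normalizer_right SN C hSNC
    obtain ⟨s, hs, c, hc, hsc⟩ : ∃ s ∈ SN, ∃ c ∈ C, s * c = m := by
      have : m ∈ ((SN ⊔ C : Subgroup G) : Set G) := hmM
      rw [hcoe2] at this
      exact Set.mem_mul.1 this
    have hm' : c * n ∈ NU := NU.mul_mem (hCNU hc) hn
    have hconjS : ∀ a ∈ AN, (c * n) * a * (c * n)⁻¹ ∈ SN := by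
      intro a ha
      have h1 := hmQ (n * a * n⁻¹) (conj_mem_cj n AN ha)
      rw [← hsc] at h1
      have h2 : (c * n) * a * (c * n)⁻¹ = s⁻¹ * (s * c * (n * a * n⁻¹) * (s * c)⁻¹) * s := by group
      rw [h2]
      exact SN.mul_mem (SN.mul_mem (SN.inv_mem hs) h1) hs
    have hconjAN : ∀ a ∈ AN, (c * n) * a * (c * n)⁻¹ ∈ AN := by
      intro a ha
      have h1 := hconjS a ha
      rw [hAN] at ha ⊢
      refine ⟨hcl a ha.1 _ (hSNS h1), ?_⟩
      exact NU.mul_mem (NU.mul_mem hm' ha.2) (NU.inv_mem hm')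
    -- apply the induction hypothesis to `U ⊔ AN`
    have hANS : AN ≤ (S : Subgroup G) := by rw [hAN]; exact inf_le_left.trans hAS
    have hB'S : U ⊔ AN ≤ (S : Subgroup G) := sup_le hUS hANS
    have hcardlt : Nat.card U < Nat.card (U ⊔ AN : Subgroup G) := by
      apply card_lt_of_lt
      apply lt_of_le_of_ne le_sup_left
      intro h
      apply ha0U
      rw [h]
      apply Subgroup.mem_sup_right
      rw [hAN]
      exact ⟨ha0, ha0N⟩
    have hconjB' : ∀ b ∈ U ⊔ AN, (c * n) * b * (c * n)⁻¹ ∈ (S : Subgroup G) := by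
      intro b hb
      have h1 : Cfsg.Agent.Lib.Helper4.cj (c * n) (U ⊔ AN) ≤ U ⊔ AN := by
        rw [cj_def, Subgroup.map_sup]
        apply sup_le_sup
        · rintro _ ⟨u, hu, rfl⟩
          exact (hnorm _ hm' u).1 hu
        · rintro _ ⟨a, ha, rfl⟩
          exact hconjAN a ha
      exact hB'S (h1 (conj_mem_cj _ _ hb))
    obtain ⟨y, hy, hy'⟩ := IH (U ⊔ AN) hB'S hcardlt (c * n) hconjB'
    refine ⟨y, hy, ?_⟩
    intro u hu
    rw [hy' u (Subgroup.mem_sup_left hu)]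
    have h1 : n * u * n⁻¹ ∈ U := (hnorm n hn u).1 hu
    have h2 : c ∈ Subgroup.centralizer (U : Set G) := by rw [← hC]; exact hc
    have h3 := (Subgroup.mem_centralizer_iff.1 h2) _ h1
    calc c * n * u * (c * n)⁻¹ = c * (n * u * n⁻¹) * c⁻¹ := by group
      _ = (n * u * n⁻¹) * c * c⁻¹ := by rw [h3]
      _ = n * u * n⁻¹ := by group

/-- A strongly closed abelian subgroup `A` of a Sylow `p`-subgroup `S`: `N_G(A)` controls strong
fusion in `S`. -/
theorem sc_controls [Finite G] {p : ℕ} [Fact p.Prime] (S : Sylow p G) (A : Subgroup G)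
    (hA : ∀ a ∈ A, ∀ b ∈ A, a * b = b * a) (hsc : Cfsg.IsStronglyClosed A (S : Subgroup G)) :
    ∀ B : Subgroup G, B ≤ (S : Subgroup G) → ∀ g : G, (∀ b ∈ B, g * b * g⁻¹ ∈ (S : Subgroup G)) →
      ∃ y ∈ Subgroup.normalizer (A : Set G), ∀ b ∈ B, y * b * y⁻¹ = g * b * g⁻¹ := by
  classical
  obtain ⟨𝓕, h𝓕def⟩ : ∃ 𝓕 : Set (Subgroup G), 𝓕 = {U | U ≤ (S : Subgroup G) ∧
      ¬ p ∣ ((S : Subgroup G) ⊓ Subgroup.normalizer (U : Set G)).relIndex
        (Subgroup.normalizer (U : Set G))} := ⟨_, rfl⟩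
  have h𝓕 : ∀ T : Subgroup G, T ≤ (S : Subgroup G) → ∃ U ∈ 𝓕, U ≤ (S : Subgroup G) ∧
      (∃ g : G, Cfsg.Agent.Lib.Helper4.cj g T = U) ∧
      ¬ p ∣ ((S : Subgroup G) ⊓ Subgroup.normalizer ((U : Subgroup G) : Set G)).relIndex
        (Subgroup.normalizer ((U : Subgroup G) : Set G)) := by
    intro T hT
    obtain ⟨g, hg1, hg2⟩ := exists_cj_sylow_normalizer p S T
      ((S : Subgroup G) ⊓ Subgroup.normalizer (T : Set G)) inf_le_right (S.2.to_le inf_le_left)
    have hTS : Cfsg.Agent.Lib.Helper4.cj g T ≤ (S : Subgroup G) :=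
      (cj_mono g (le_inf hT Subgroup.le_normalizer)).trans hg1
    refine ⟨Cfsg.Agent.Lib.Helper4.cj g T, ?_, hTS, ⟨g, rfl⟩, hg2⟩
    rw [h𝓕def]
    exact ⟨hTS, hg2⟩
  have hal := fuses_of_family S 𝓕 h𝓕
  -- general consequence of the step statement for large subgroups
  have hcons : ∀ k : ℕ, (∀ T ∈ 𝓕, k ≤ Nat.card T → ∀ n ∈ Subgroup.normalizer (T : Set G),
      ∃ y ∈ Subgroup.normalizer (A : Set G), ∀ u ∈ T, y * u * y⁻¹ = n * u * n⁻¹) →
      ∀ B : Subgroup G, B ≤ (S : Subgroup G) → k ≤ Nat.card B → ∀ g : G,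
        (∀ b ∈ B, g * b * g⁻¹ ∈ (S : Subgroup G)) →
        ∃ y ∈ Subgroup.normalizer (A : Set G), ∀ b ∈ B, y * b * y⁻¹ = g * b * g⁻¹ := by
    intro k hΨ B hBS hkB g hg
    have h1 : Cfsg.Agent.Lib.Helper4.cj g⁻¹⁻¹ B ≤ (S : Subgroup G) := by
      rw [inv_inv]
      rintro _ ⟨b, hb, rfl⟩
      exact hg b hb
    have h2 := hal B hBS g⁻¹ h1
    have h3 : k ≤ (B : Set G).ncard := by
      rw [← Nat.card_coe_set_eq]
      exact hkB
    obtain ⟨y, hy, hy'⟩ := fuses_realize A 𝓕 k hΨ (B : Set G) g⁻¹ h2 h3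
    refine ⟨y⁻¹, inv_mem hy, ?_⟩
    intro b hb
    have := hy' b hb
    rw [inv_inv] at this ⊢
    exact this
  -- the step statement, by downward induction
  have hΨ : ∀ d : ℕ, ∀ T ∈ 𝓕, Nat.card (S : Subgroup G) - Nat.card T = d →
      ∀ n ∈ Subgroup.normalizer (T : Set G),
      ∃ y ∈ Subgroup.normalizer (A : Set G), ∀ u ∈ T, y * u * y⁻¹ = n * u * n⁻¹ := by
    intro d
    induction d using Nat.strong_induction_on with
    | _ d ih =>
      intro T hT hd n hn
      have hT' := hT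
      rw [h𝓕def] at hT'
      apply sc_step S A hA hsc T hT'.1 hT'.2 _ n hn
      intro B' hB'S hlt g hg
      apply hcons (Nat.card T + 1) _ B' hB'S hlt g hg
      intro T' hT'F hle n' hn'
      have hT'S : T' ≤ (S : Subgroup G) := by
        rw [h𝓕def] at hT'F
        exact hT'F.1
      have hc1 : Nat.card T' ≤ Nat.card (S : Subgroup G) := Subgroup.card_le_of_le hT'S
      have hc2 : Nat.card T ≤ Nat.card (S : Subgroup G) := Subgroup.card_le_of_le hT'.1
      exact ih (Nat.card (S : Subgroup G) - Nat.card T') (by omega) T' hT'F rfl n' hn'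
  intro B hBS g hg
  exact hcons 0 (fun T hT _ n hn => hΨ _ T hT rfl n hn) B hBS (Nat.zero_le _) g hg

end Cfsg.Agent.Lib.Helper5
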