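import Mathlib
import Cfsg.Agent.Lib.Helper5.CPin2
import Cfsg.Agent.Lib.Helper5.SPE
import Cfsg.Agent.Lib.Helper9.Frattini

set_option autoImplicit false

namespace Cfsg.Agent.Lib.Helper5

variable {G : Type*} [Group G] {p : ℕ}

/-- a Sylow subgroup meets a subnormal subgroup in a Sylow subgroup (cardinality form) -/
theorem card_sylow_inf_subnormal [Finite G] [Fact p.Prime] (T : Sylow p G) (N : Subgroup G)
    (hN : N.IsSubnormal) :
    Nat.card ↥((T : Subgroup G) ⊓ N) = p ^ (Nat.card N).factorization p := by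
  induction hN with
  | top =>
    rw [inf_top_eq, Subgroup.card_top]
    exact T.card_eq_multiplicity
  | step H K hHK hK hn ih =>
    have hc1 : Nat.card (((T : Subgroup G) ⊓ K).subgroupOf K) = p ^ (Nat.card K).factorization p := by
      rw [← ih]
      exact Nat.card_congr (Subgroup.subgroupOfEquivOfLe inf_le_right).toEquiv
    haveI := hn
    have h1 := Cfsg.Agent.Lib.Helper9.card_sylow_inf_normal p
      (Sylow.ofCard (((T : Subgroup G) ⊓ K).subgroupOf K) hc1) (H.subgroupOf K)
    rw [Sylow.coe_ofCard] at h1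
    have h2 : ((T : Subgroup G) ⊓ K).subgroupOf K ⊓ H.subgroupOf K =
        ((T : Subgroup G) ⊓ H).subgroupOf K := by
      ext y
      simp only [Subgroup.mem_inf, Subgroup.mem_subgroupOf]
      constructor
      · rintro ⟨⟨h3, _⟩, h4⟩
        exact ⟨h3, h4⟩
      · rintro ⟨h3, h4⟩
        exact ⟨⟨h3, y.2⟩, h4⟩
    rw [h2] at h1
    have h3 : Nat.card (((T : Subgroup G) ⊓ H).subgroupOf K) = Nat.card ((T : Subgroup G) ⊓ H : Subgroup G) :=
      Nat.card_congr (Subgroup.subgroupOfEquivOfLe (inf_le_right.trans hHK)).toEquiv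
    have h4 : Nat.card (H.subgroupOf K) = Nat.card H :=
      Nat.card_congr (Subgroup.subgroupOfEquivOfLe hHK).toEquiv
    rw [h3, h4] at h1
    exact h1

/-- every Sylow subgroup of a subnormal subgroup `N` is `S^g ∩ N` with `g ∈ N` -/
theorem exists_conj_sylow_inf_subnormal [Finite G] [Fact p.Prime] (S : Sylow p G) (N : Subgroup G)
    (hN : N.IsSubnormal) (T₀ : Sylow p ↥N) :
    ∃ g ∈ N, ((g • S : Sylow p G) : Subgroup G).comap N.subtype = (T₀ : Subgroup ↥N) := by
  have hc1 : Nat.card (((S : Subgroup G) ⊓ N).subgroupOf N) = p ^ (Nat.card N).factorization p := by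
    rw [← card_sylow_inf_subnormal S N hN]
    exact Nat.card_congr (Subgroup.subgroupOfEquivOfLe inf_le_right).toEquiv
  obtain ⟨h, hh⟩ := MulAction.exists_smul_eq ↥N
    (Sylow.ofCard (((S : Subgroup G) ⊓ N).subgroupOf N) hc1) T₀
  refine ⟨(h : G), h.2, ?_⟩
  ext y
  rw [← hh, Subgroup.mem_comap, sylow_smul_coe, sylow_smul_coe, mem_map_conj_iff, mem_map_conj_iff,
    Sylow.coe_ofCard, Subgroup.mem_subgroupOf]
  simp only [Subgroup.coe_subtype, Subgroup.coe_mul, Subgroup.coe_inv, Subgroup.mem_inf]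
  constructor
  · intro h1
    exact ⟨h1, N.mul_mem (N.mul_mem (N.inv_mem h.2) y.2) h.2⟩
  · intro h1
    exact h1.1

/-- characteristic p passes to intersections with subnormal subgroups -/
theorem cpin_inf_subnormal [Fact p.Prime] (N : Subgroup G) (hN : N.IsSubnormal) :
    ∀ M : Subgroup G, CPin p M → CPin p (M ⊓ N) := by
  induction hN with
  | top => intro M hM; rwa [inf_top_eq]
  | step H K hHK hK hn ih =>
    intro M hM
    have h1 := ih M hM
    have hKH : K ≤ Subgroup.normalizer (H : Set G) :=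
      (Subgroup.normal_subgroupOf_iff_le_normalizer hHK).mp hn
    have h2 : M ⊓ H = (M ⊓ K) ⊓ H := by
      rw [inf_assoc, inf_eq_right.mpr hHK]
    rw [h2]
    apply cpin_of_normalizedBy (M ⊓ K) _ h1 inf_le_left
    intro x hx
    apply mem_normalizer_inf
    · exact Subgroup.le_normalizer hx
    · exact hKH hx.2

end Cfsg.Agent.Lib.Helper5
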