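import Cfsg.Prelude.Def_SylowChains
import Cfsg.Agent.Lib.Helper5.SPE

set_option autoImplicit false
open Cfsg

namespace Cfsg.Agent.Lib.Helper5

variable {G : Type*} [Group G] {p : ℕ}

/-- adjacency of Sylow subgroups: distinct with nontrivial intersection -/
def sadj (P Q : Sylow p G) : Prop := P ≠ Q ∧ (P : Subgroup G) ⊓ (Q : Subgroup G) ≠ ⊥

/-- reachability in the Sylow graph -/
def SReach (P Q : Sylow p G) : Prop := Relation.ReflTransGen sadj P Q

theorem sadj_symm {P Q : Sylow p G} (h : sadj P Q) : sadj Q P :=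
  ⟨h.1.symm, by rw [inf_comm]; exact h.2⟩

theorem SReach.symm {P Q : Sylow p G} (h : SReach P Q) : SReach Q P := by
  unfold SReach at h ⊢
  induction h with
  | refl => exact Relation.ReflTransGen.refl
  | tail _ hbc ih => exact Relation.ReflTransGen.head (sadj_symm hbc) ih

theorem SReach.trans {P Q R : Sylow p G} (h1 : SReach P Q) (h2 : SReach Q R) : SReach P R :=
  Relation.ReflTransGen.trans h1 h2

theorem sreach_of_chain : ∀ (n : ℕ) (c : Fin (n + 1) → Sylow p G),
    (∀ i : Fin n, sadj (c i.castSucc) (c i.succ)) → SReach (c 0) (c (Fin.last n)) := by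
  intro n
  induction n with
  | zero =>
    intro c _
    exact Relation.ReflTransGen.refl
  | succ n ih =>
    intro c hc
    have h1 := ih (fun i => c i.castSucc) (fun i => by
      have := hc i.castSucc
      simpa using this)
    have h2 := hc (Fin.last n)
    have h1' : SReach (c 0) (c (Fin.last n).castSucc) := h1
    have e2 : (Fin.last n).succ = Fin.last (n + 1) := Fin.succ_last n
    rw [e2] at h2
    exact Relation.ReflTransGen.tail h1' h2

theorem chain_of_sreach {S T : Sylow p G} (h : SReach S T) :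
    ∃ (n : ℕ) (c : Fin (n + 1) → Sylow p G), c 0 = S ∧ c (Fin.last n) = T ∧
      ∀ i : Fin n, sadj (c i.castSucc) (c i.succ) := by
  unfold SReach at h
  induction h with
  | refl => exact ⟨0, fun _ => S, rfl, rfl, fun i => i.elim0⟩
  | @tail T' T _ hbc ih =>
    obtain ⟨n, c, h0, hl, hc⟩ := ih
    refine ⟨n + 1, Fin.snoc c T, ?_, ?_, ?_⟩
    · have : (0 : Fin (n + 2)) = Fin.castSucc (0 : Fin (n + 1)) := rfl
      rw [this, Fin.snoc_castSucc]
      exact h0
    · exact Fin.snoc_last _ _
    · intro i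
      induction i using Fin.lastCases with
      | last =>
        have e1 : (Fin.last n).succ = Fin.last (n + 1) := Fin.succ_last n
        rw [e1, Fin.snoc_last, Fin.snoc_castSucc, hl]
        exact hbc
      | cast j =>
        have e1 : (Fin.castSucc j).succ = Fin.castSucc j.succ := Fin.succ_castSucc j
        rw [e1, Fin.snoc_castSucc, Fin.snoc_castSucc]
        exact hc j

theorem isSylowChainConnected_iff : Cfsg.IsSylowChainConnected p G ↔ ∀ S T : Sylow p G, SReach S T := by
  constructor
  · intro h S T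
    obtain ⟨n, c, h0, hl, _, hc⟩ := h S T
    have := sreach_of_chain n c hc
    rwa [h0, hl] at this
  · intro h S T
    by_cases hST : S = T
    · subst hST
      exact ⟨0, fun _ => S, rfl, rfl, fun _ => inf_le_left, fun i => i.elim0⟩
    · by_cases hi : (S : Subgroup G) ⊓ (T : Subgroup G) = ⊥
      · obtain ⟨n, c, h0, hl, hc⟩ := chain_of_sreach (h S T)
        exact ⟨n, c, h0, hl, fun i => by rw [hi]; exact bot_le, hc⟩
      · refine ⟨1, ![S, T], rfl, rfl, ?_, ?_⟩
        · intro i
          fin_cases i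
          · exact inf_le_left
          · exact inf_le_right
        · intro i
          fin_cases i
          exact ⟨hST, hi⟩

end Cfsg.Agent.Lib.Helper5

namespace Cfsg.Agent.Lib.Helper5

variable {G : Type*} [Group G] {p : ℕ}

theorem sadj_smul (g : G) {P Q : Sylow p G} (h : sadj P Q) : sadj (g • P) (g • Q) := by
  refine ⟨fun h' => h.1 (smul_left_cancel g h'), ?_⟩
  rw [sylow_smul_coe, sylow_smul_coe,
    ← Subgroup.map_inf _ _ _ (MulAut.conj g).injective]
  exact map_conj_ne_bot _ g h.2

theorem SReach.smul (g : G) {P Q : Sylow p G} (h : SReach P Q) : SReach (g • P) (g • Q) := by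
  unfold SReach at h ⊢
  induction h with
  | refl => exact Relation.ReflTransGen.refl
  | tail _ hbc ih => exact Relation.ReflTransGen.tail ih (sadj_smul g hbc)

theorem sreach_of_common {P Q : Sylow p G} (A : Subgroup G) (hA : A ≠ ⊥) (hAP : A ≤ (P : Subgroup G))
    (hAQ : A ≤ (Q : Subgroup G)) : SReach P Q := by
  by_cases h : P = Q
  · subst h; exact Relation.ReflTransGen.refl
  · apply Relation.ReflTransGen.single
    refine ⟨h, fun hbot => hA ?_⟩
    have : A ≤ (P : Subgroup G) ⊓ (Q : Subgroup G) := le_inf hAP hAQ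
    rw [hbot] at this
    exact le_bot_iff.mp this

/-- the stabilizer of the connected component of `S₀` -/
def compStab (S₀ : Sylow p G) : Subgroup G where
  carrier := {g | SReach S₀ (g • S₀)}
  one_mem' := by
    show SReach S₀ ((1 : G) • S₀)
    rw [one_smul]; exact Relation.ReflTransGen.refl
  mul_mem' := by
    intro a b ha hb
    show SReach S₀ ((a * b) • S₀)
    rw [mul_smul]
    exact SReach.trans ha (SReach.smul a hb)
  inv_mem' := by
    intro a ha
    show SReach S₀ (a⁻¹ • S₀)
    have := SReach.smul a⁻¹ ha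
    rw [inv_smul_smul] at this
    exact this.symm

theorem mem_compStab (S₀ : Sylow p G) (g : G) : g ∈ compStab S₀ ↔ SReach S₀ (g • S₀) := Iff.rfl

theorem le_compStab (S₀ : Sylow p G) : (S₀ : Subgroup G) ≤ compStab S₀ := by
  intro s hs
  rw [mem_compStab]
  have : s • S₀ = S₀ := Sylow.smul_eq_iff_mem_normalizer.mpr (Subgroup.le_normalizer hs)
  rw [this]
  exact Relation.ReflTransGen.refl

/-- every nontrivial `p`-subgroup of the component stabilizer lies in a Sylow subgroup of the component -/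
theorem exists_sylow_ge_of_le_compStab [Fact p.Prime] [Finite G] (S₀ : Sylow p G) (Q : Subgroup G)
    (hQ : IsPGroup p Q) (hQH : Q ≤ compStab S₀) :
    ∃ P : Sylow p G, Q ≤ (P : Subgroup G) ∧ SReach S₀ P := by
  have h1 : IsMaxPIn p ⊤ (S₀ : Subgroup G) := (isMaxPIn_top_iff _).mpr ⟨S₀, rfl⟩
  have h2 : IsMaxPIn p (compStab S₀) (S₀ : Subgroup G) := h1.of_le le_top (le_compStab S₀)
  obtain ⟨R, hR, hQR⟩ := exists_isMaxPIn_ge (compStab S₀) Q hQ hQH
  obtain ⟨h, hh, hconj⟩ := h2.conj hR
  refine ⟨h • S₀, ?_, hh⟩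
  rw [sylow_smul_coe, hconj]
  exact hQR

theorem compStab_spe [Fact p.Prime] [Finite G] (S₀ : Sylow p G) (g : G) (hg : g ∉ compStab S₀) :
    ¬ p ∣ Nat.card ↥(compStab S₀ ⊓ (compStab S₀).map (MulAut.conj g).toMonoidHom) := by
  intro hdvd
  apply hg
  obtain ⟨x, hx⟩ := exists_prime_orderOf_dvd_card' p hdvd
  set Q : Subgroup G := Subgroup.zpowers (x : G) with hQdef
  have hxo : orderOf (x : G) = p := by rw [Subgroup.orderOf_coe]; exact hx
  have hQp : IsPGroup p Q := by
    apply IsPGroup.of_card (n := 1)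
    rw [Nat.card_zpowers, hxo, pow_one]
  have hQ1 : Q ≠ ⊥ := by
    intro h
    rw [hQdef, Subgroup.zpowers_eq_bot] at h
    rw [h, orderOf_one] at hxo
    exact (Fact.out : p.Prime).one_lt.ne hxo
  have hQH : Q ≤ compStab S₀ := by
    rw [hQdef, Subgroup.zpowers_le]; exact x.2.1
  have hQHg : Q ≤ (compStab S₀).map (MulAut.conj g).toMonoidHom := by
    rw [hQdef, Subgroup.zpowers_le]; exact x.2.2
  have hQ' : Q.map (MulAut.conj g⁻¹).toMonoidHom ≤ compStab S₀ := by
    have := Subgroup.map_mono (f := (MulAut.conj g⁻¹).toMonoidHom) hQHg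
    rwa [map_conj_inv_conj] at this
  obtain ⟨P₁, hP₁, hr₁⟩ := exists_sylow_ge_of_le_compStab S₀ Q hQp hQH
  obtain ⟨P₂, hP₂, hr₂⟩ := exists_sylow_ge_of_le_compStab S₀ _ (hQp.map _) hQ'
  have hP₂' : Q ≤ ((g • P₂ : Sylow p G) : Subgroup G) := by
    rw [sylow_smul_coe]
    have := Subgroup.map_mono (f := (MulAut.conj g).toMonoidHom) hP₂
    rwa [map_conj_conj_inv] at this
  have h3 : SReach P₁ (g • P₂) := sreach_of_common Q hQ1 hP₁ hP₂'
  have h4 : SReach (g • P₂) (g • S₀) := (SReach.smul g hr₂).symm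
  exact (hr₁.trans h3).trans h4

end Cfsg.Agent.Lib.Helper5
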