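import Cfsg.Agent.Lib.Helper5.SylowLib

set_option autoImplicit false
open Cfsg

namespace Cfsg.Agent.Lib.Helper5

variable {G : Type*} [Group G] {p : ℕ}

/-- If a Sylow `p`-subgroup `T` of `G` normalizes `N`, then `T ∩ N` is a Sylow `p`-subgroup of `N`. -/
theorem exists_sylow_inf_of_le_normalizer [Finite G] [Fact p.Prime] (T : Sylow p G)
    (N : Subgroup G) (hTN : (T : Subgroup G) ≤ Subgroup.normalizer (N : Set G)) :
    ∃ P : Sylow p N, (P : Subgroup N) = ((T : Subgroup G) ⊓ N).subgroupOf N := by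
  set K := Subgroup.normalizer (N : Set G) with hK
  have hNK : N ≤ K := Subgroup.le_normalizer
  let T' : Sylow p K := T.subtype hTN
  have hT' : (T' : Subgroup K) = (T : Subgroup G).subgroupOf K := Sylow.coe_subtype _ _
  set N' : Subgroup K := N.subgroupOf K with hN'
  haveI : N'.Normal := Subgroup.normal_in_normalizer
  obtain ⟨P', hP'⟩ := exists_sylow_inf_normal T' N'
  let e : N' ≃* N := Subgroup.subgroupOfEquivOfLe hNK
  have hes : Function.Surjective e.toMonoidHom := e.surjective
  refine ⟨P'.mapSurjective hes, ?_⟩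
  rw [Sylow.coe_mapSurjective hes]
  ext x
  rw [Subgroup.mem_subgroupOf]
  constructor
  · rintro ⟨y, hy, rfl⟩
    have h1 : N'.subtype y ∈ (P' : Subgroup N').map N'.subtype := ⟨y, hy, rfl⟩
    rw [hP', hT'] at h1
    have h2 : N'.subtype y ∈ (T : Subgroup G).subgroupOf K := h1.1
    rw [Subgroup.mem_subgroupOf] at h2
    exact ⟨h2, (e y).2⟩
  · intro hx
    let y : N' := ⟨⟨x.1, hNK x.2⟩, by rw [hN', Subgroup.mem_subgroupOf]; exact x.2⟩
    have h1 : N'.subtype y ∈ (T' : Subgroup K) ⊓ N' := by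
      refine ⟨?_, y.2⟩
      rw [hT']
      show N'.subtype y ∈ (T : Subgroup G).subgroupOf K
      rw [Subgroup.mem_subgroupOf]
      exact hx.1
    rw [← hP'] at h1
    obtain ⟨y', hy', hyy⟩ := h1
    have : y' = y := N'.subtype_injective hyy
    refine ⟨y, this ▸ hy', ?_⟩
    apply Subtype.ext
    rfl

end Cfsg.Agent.Lib.Helper5
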