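import Mathlib

set_option autoImplicit false

namespace Cfsg.Agent.Lib.Helper5

open QuadraticMap Module

section
variable {F V : Type*} [Field F] [AddCommGroup V] [Module F V]

theorem ts_polar_zero (Q : QuadraticForm F V) (W : Submodule F V) (hW : ∀ w ∈ W, Q w = 0)
    {x y : V} (hx : x ∈ W) (hy : y ∈ W) : polar Q x y = 0 := by
  unfold polar
  rw [hW _ (W.add_mem hx hy), hW x hx, hW y hy]
  simp

theorem pb_apply (Q : QuadraticForm F V) (x y : V) : polarBilin Q x y = polar Q x y := rfl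

/-- the orthogonal complement for the polar form -/
def orthQ (Q : QuadraticForm F V) (W : Submodule F V) : Submodule F V :=
  LinearMap.BilinForm.orthogonal (polarBilin Q) W

theorem mem_orth_iff (Q : QuadraticForm F V) (W : Submodule F V) (v : V) :
    v ∈ orthQ Q W ↔ ∀ w ∈ W, polar Q w v = 0 := by
  unfold orthQ
  rw [LinearMap.BilinForm.mem_orthogonal_iff]
  constructor
  · intro h w hw
    exact h w hw
  · intro h w hw
    exact h w hw

theorem ts_le_orthogonal (Q : QuadraticForm F V) (W : Submodule F V) (hW : ∀ w ∈ W, Q w = 0) :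
    W ≤ orthQ Q W := by
  intro x hx
  rw [mem_orth_iff]
  intro y hy
  exact ts_polar_zero Q W hW hy hx

theorem orth_sup (Q : QuadraticForm F V) (X Y : Submodule F V) :
    orthQ Q (X ⊔ Y) =
      orthQ Q X ⊓ orthQ Q Y := by
  ext v
  rw [Submodule.mem_inf, mem_orth_iff, mem_orth_iff, mem_orth_iff]
  constructor
  · intro h
    exact ⟨fun x hx => h x (Submodule.mem_sup_left hx), fun y hy => h y (Submodule.mem_sup_right hy)⟩
  · rintro ⟨h1, h2⟩ z hz
    obtain ⟨x, hx, y, hy, rfl⟩ := Submodule.mem_sup.1 hz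
    rw [polar_add_left, h1 x hx, h2 y hy, add_zero]

theorem pb_refl (Q : QuadraticForm F V) : LinearMap.BilinForm.IsRefl (polarBilin Q) := by
  intro x y h
  rw [pb_apply] at h ⊢
  rw [polar_comm]
  exact h

/-- the form on a sum of a totally singular space orthogonal to a vector -/
theorem Q_add_of_orth (Q : QuadraticForm F V) (U : Submodule F V) (hU : ∀ u ∈ U, Q u = 0)
    {u z : V} (hu : u ∈ U) (hz : z ∈ orthQ Q U) : Q (u + z) = Q z := by
  rw [QuadraticMap.map_add (⇑Q) u z, hU u hu, (mem_orth_iff Q U z).1 hz u hu]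
  simp

end

section main
variable {F V : Type*} [Field F] [AddCommGroup V] [Module F V] [FiniteDimensional F V]

/-- dimension of `U ⊔ span{x}` for `x ∉ U` -/
theorem finrank_sup_span_singleton' (U : Submodule F V) (x : V) (hx : x ∉ U) :
    finrank F ↥(U ⊔ Submodule.span F {x}) = finrank F U + 1 := by
  have hx0 : x ≠ 0 := fun h => hx (h ▸ U.zero_mem)
  have h1 := Submodule.finrank_sup_add_finrank_inf_eq U (Submodule.span F {x})
  have h2 : U ⊓ Submodule.span F {x} = ⊥ := by
    rw [eq_bot_iff]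
    intro z hz
    obtain ⟨hzU, hzs⟩ := Submodule.mem_inf.1 hz
    obtain ⟨a, rfl⟩ := Submodule.mem_span_singleton.1 hzs
    rw [Submodule.mem_bot]
    by_cases ha : a = 0
    · rw [ha, zero_smul]
    · exfalso
      apply hx
      have := U.smul_mem a⁻¹ hzU
      rwa [smul_smul, inv_mul_cancel₀ ha, one_smul] at this
  rw [h2, finrank_bot, add_zero, finrank_span_singleton hx0] at h1
  exact h1

theorem finrank_orthQ (Q : QuadraticForm F V)
    (hQ : LinearMap.BilinForm.Nondegenerate (polarBilin Q)) (W : Submodule F V) :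
    finrank F (orthQ Q W) = finrank F V - finrank F W :=
  LinearMap.BilinForm.finrank_orthogonal hQ W

theorem orthQ_orthQ (Q : QuadraticForm F V)
    (hQ : LinearMap.BilinForm.Nondegenerate (polarBilin Q)) (W : Submodule F V) :
    orthQ Q (orthQ Q W) = W :=
  LinearMap.BilinForm.orthogonal_orthogonal hQ (pb_refl Q) W

/-- In a `2m`-dimensional space with a totally singular `m`-subspace, every totally singular
`(m-1)`-subspace lies in exactly two totally singular `m`-subspaces. -/
theorem card_ts_extensions (Q : QuadraticForm F V)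
    (hQ : LinearMap.BilinForm.Nondegenerate (polarBilin Q)) (m : ℕ)
    (hV : finrank F V = 2 * m)
    (W₀ : Submodule F V) (hW₀ : ∀ w ∈ W₀, Q w = 0) (hW₀m : finrank F W₀ = m)
    (U : Submodule F V) (hUm : finrank F U + 1 = m) (hU : ∀ u ∈ U, Q u = 0) :
    Nat.card {W : Submodule F V // finrank F W = m ∧ (∀ w ∈ W, Q w = 0) ∧ U ≤ W} = 2 := by
  have hUo : finrank F (orthQ Q U) = m + 1 := by
    rw [finrank_orthQ Q hQ, hV]; omega
  have hUle : U ≤ orthQ Q U := ts_le_orthogonal Q U hU
  have hW₀o : orthQ Q W₀ = W₀ := by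
    symm
    apply Submodule.eq_of_le_of_finrank_eq (ts_le_orthogonal Q W₀ hW₀)
    rw [finrank_orthQ Q hQ, hV, hW₀m]; omega
  have hex : ∃ x ∈ orthQ Q U ⊓ W₀, x ∉ U := by
    by_contra hcon
    have hle : orthQ Q U ⊓ W₀ ≤ U ⊓ W₀ := by
      intro x hx
      refine ⟨?_, hx.2⟩
      by_contra h
      exact hcon ⟨x, hx, h⟩
    have h1 : orthQ Q U ⊓ W₀ = orthQ Q (U ⊔ W₀) := by rw [orth_sup, hW₀o]
    have h2 := finrank_orthQ Q hQ (U ⊔ W₀)
    have h3 := Submodule.finrank_sup_add_finrank_inf_eq U W₀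
    have h4 := Submodule.finrank_mono hle
    rw [h1, h2] at h4
    have h5 : finrank F ↥(U ⊔ W₀) ≤ finrank F V := Submodule.finrank_le _
    omega
  obtain ⟨x₀, hx₀, hx₀U⟩ := hex
  have hx₀o : x₀ ∈ orthQ Q U := hx₀.1
  have hQx₀ : Q x₀ = 0 := hW₀ x₀ hx₀.2
  have hexy : ∃ y ∈ orthQ Q U, polar Q x₀ y ≠ 0 := by
    by_contra hcon
    apply hx₀U
    rw [← orthQ_orthQ Q hQ U, mem_orth_iff]
    intro z hz
    by_contra h
    rw [polar_comm] at h
    exact hcon ⟨z, hz, h⟩
  obtain ⟨y, hyo, hxy⟩ := hexy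
  obtain ⟨y', hy'o, hxy'⟩ : ∃ y' ∈ orthQ Q U, polar Q x₀ y' = 1 := by
    refine ⟨(polar Q x₀ y)⁻¹ • y, (orthQ Q U).smul_mem _ hyo, ?_⟩
    rw [polar_smul_right, smul_eq_mul, inv_mul_cancel₀ hxy]
  obtain ⟨y₁, hy₁o, hxy₁, hQy₁⟩ : ∃ y₁ ∈ orthQ Q U, polar Q x₀ y₁ = 1 ∧ Q y₁ = 0 := by
    have e : y' - Q y' • x₀ = y' + (-(Q y')) • x₀ := by rw [neg_smul, sub_eq_add_neg]
    refine ⟨y' - Q y' • x₀, (orthQ Q U).sub_mem hy'o ((orthQ Q U).smul_mem _ hx₀o), ?_, ?_⟩
    · rw [e, polar_add_right, polar_smul_right, polar_self, hQx₀, hxy']; simp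
    · rw [e, QuadraticMap.map_add (⇑Q) y' _, QuadraticMap.map_smul, hQx₀, polar_smul_right,
        polar_comm, hxy']
      simp
  have hy₁U : y₁ ∉ U := by
    intro h
    have h1 := (mem_orth_iff Q U x₀).1 hx₀o y₁ h
    rw [polar_comm, hxy₁] at h1
    exact one_ne_zero h1
  have hW₁m : finrank F ↥(U ⊔ Submodule.span F {x₀}) = m := by
    rw [finrank_sup_span_singleton' U x₀ hx₀U]; exact hUm
  have hW₂m : finrank F ↥(U ⊔ Submodule.span F {y₁}) = m := by
    rw [finrank_sup_span_singleton' U y₁ hy₁U]; exact hUm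
  have hts : ∀ z, z ∈ orthQ Q U → Q z = 0 → ∀ w ∈ U ⊔ Submodule.span F {z}, Q w = 0 := by
    intro z hz hQz w hw
    obtain ⟨u, hu, s, hs, rfl⟩ := Submodule.mem_sup.1 hw
    obtain ⟨a, rfl⟩ := Submodule.mem_span_singleton.1 hs
    rw [Q_add_of_orth Q U hU hu ((orthQ Q U).smul_mem a hz), QuadraticMap.map_smul, hQz,
      smul_zero]
  have hW₁ts := hts x₀ hx₀o hQx₀
  have hW₂ts := hts y₁ hy₁o hQy₁
  have hy₁W₁ : y₁ ∉ U ⊔ Submodule.span F {x₀} := by
    intro h
    obtain ⟨u, hu, s, hs, hsum⟩ := Submodule.mem_sup.1 h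
    obtain ⟨a, rfl⟩ := Submodule.mem_span_singleton.1 hs
    have h1 : polar Q x₀ y₁ = 0 := by
      rw [← hsum, polar_add_right, polar_smul_right, polar_self, hQx₀]
      have h2 := (mem_orth_iff Q U x₀).1 hx₀o u hu
      rw [polar_comm, h2]; simp
    rw [hxy₁] at h1
    exact one_ne_zero h1
  have hT : (U ⊔ Submodule.span F {x₀}) ⊔ Submodule.span F {y₁} = orthQ Q U := by
    apply Submodule.eq_of_le_of_finrank_le
    · exact sup_le (sup_le hUle ((Submodule.span_singleton_le_iff_mem _ _).2 hx₀o))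
        ((Submodule.span_singleton_le_iff_mem _ _).2 hy₁o)
    · rw [finrank_sup_span_singleton' _ y₁ hy₁W₁, hW₁m, hUo]
  have hclass : ∀ W : Submodule F V, finrank F W = m → (∀ w ∈ W, Q w = 0) → U ≤ W →
      W = U ⊔ Submodule.span F {x₀} ∨ W = U ⊔ Submodule.span F {y₁} := by
    intro W hWm hWts hUW
    have hWo : W ≤ orthQ Q U := by
      intro w hw
      rw [mem_orth_iff]
      intro u hu
      exact ts_polar_zero Q W hWts (hUW hu) hw
    have hexw : ∃ w ∈ W, w ∉ U := by
      by_contra hcon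
      have hle : W ≤ U := fun w hw => by
        by_contra h
        exact hcon ⟨w, hw, h⟩
      have := Submodule.finrank_mono hle
      omega
    obtain ⟨w, hwW, hwU⟩ := hexw
    have hwo := hWo hwW
    rw [← hT] at hwo
    obtain ⟨w₁, hw₁, s, hs, hsum⟩ := Submodule.mem_sup.1 hwo
    obtain ⟨b, rfl⟩ := Submodule.mem_span_singleton.1 hs
    obtain ⟨u, hu, s', hs', hsum'⟩ := Submodule.mem_sup.1 hw₁
    obtain ⟨a, rfl⟩ := Submodule.mem_span_singleton.1 hs'
    have hmem : a • x₀ + b • y₁ ∈ orthQ Q U :=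
      (orthQ Q U).add_mem ((orthQ Q U).smul_mem a hx₀o) ((orthQ Q U).smul_mem b hy₁o)
    have hQw : a * b = 0 := by
      have h0 := hWts w hwW
      rw [← hsum, ← hsum', add_assoc, Q_add_of_orth Q U hU hu hmem,
        QuadraticMap.map_add (⇑Q) _ _, QuadraticMap.map_smul, QuadraticMap.map_smul, hQx₀, hQy₁,
        polar_smul_left, polar_smul_right, hxy₁] at h0
      simpa using h0
    rcases mul_eq_zero.1 hQw with ha | hb
    · right
      have hb : b ≠ 0 := by
        intro hb
        apply hwU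
        rw [← hsum, ← hsum', ha, hb]
        simpa using hu
      have hy₁W : y₁ ∈ W := by
        have h1 : b • y₁ ∈ W := by
          have h2 : b • y₁ = w - u := by
            rw [← hsum, ← hsum', ha]; simp
          rw [h2]
          exact W.sub_mem hwW (hUW hu)
        have h3 := W.smul_mem b⁻¹ h1
        rwa [smul_smul, inv_mul_cancel₀ hb, one_smul] at h3
      symm
      apply Submodule.eq_of_le_of_finrank_eq
        (sup_le hUW ((Submodule.span_singleton_le_iff_mem _ _).2 hy₁W))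
      rw [hW₂m, hWm]
    · left
      have ha : a ≠ 0 := by
        intro ha
        apply hwU
        rw [← hsum, ← hsum', ha, hb]
        simpa using hu
      have hx₀W : x₀ ∈ W := by
        have h1 : a • x₀ ∈ W := by
          have h2 : a • x₀ = w - u := by
            rw [← hsum, ← hsum', hb]; simp
          rw [h2]
          exact W.sub_mem hwW (hUW hu)
        have h3 := W.smul_mem a⁻¹ h1
        rwa [smul_smul, inv_mul_cancel₀ ha, one_smul] at h3
      symm
      apply Submodule.eq_of_le_of_finrank_eq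
        (sup_le hUW ((Submodule.span_singleton_le_iff_mem _ _).2 hx₀W))
      rw [hW₁m, hWm]
  have hne : U ⊔ Submodule.span F {x₀} ≠ U ⊔ Submodule.span F {y₁} := by
    intro h
    apply hy₁W₁
    rw [h]
    exact Submodule.mem_sup_right (Submodule.mem_span_singleton_self y₁)
  rw [Nat.card_eq_two_iff]
  refine ⟨⟨U ⊔ Submodule.span F {x₀}, hW₁m, hW₁ts, le_sup_left⟩,
    ⟨U ⊔ Submodule.span F {y₁}, hW₂m, hW₂ts, le_sup_left⟩, ?_, ?_⟩
  · intro h
    exact hne (congrArg Subtype.val h)
  · ext ⟨W, hW⟩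
    simp only [Set.mem_insert_iff, Set.mem_singleton_iff, Set.mem_univ, iff_true]
    rcases hclass W hW.1 hW.2.1 hW.2.2 with h | h
    · left; exact Subtype.ext h
    · right; exact Subtype.ext h

end main

end Cfsg.Agent.Lib.Helper5
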