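import Mathlib

set_option autoImplicit false
open scoped commutatorElement

namespace Cfsg.Agent.Lib.Helper5

variable {G : Type*} [Group G]

/-- three subgroups lemma modulo a subgroup `N` normalized by all three subgroups -/
theorem three_subgroups_mod (N H₁ H₂ H₃ : Subgroup G)
    (h₁ : H₁ ≤ Subgroup.normalizer (N : Set G)) (h₂ : H₂ ≤ Subgroup.normalizer (N : Set G))
    (h₃ : H₃ ≤ Subgroup.normalizer (N : Set G))
    (a : ⁅⁅H₂, H₃⁆, H₁⁆ ≤ N) (b : ⁅⁅H₃, H₁⁆, H₂⁆ ≤ N) : ⁅⁅H₁, H₂⁆, H₃⁆ ≤ N := by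
  set M : Subgroup G := Subgroup.normalizer (N : Set G) with hM
  set N' : Subgroup ↥M := N.subgroupOf M with hN'
  haveI : N'.Normal := Subgroup.normal_in_normalizer
  set f : ↥M →* ↥M ⧸ N' := QuotientGroup.mk' N' with hf
  have hker : f.ker = N' := QuotientGroup.ker_mk' N'
  have key : ∀ Y : Subgroup ↥M, Y.map f = ⊥ ↔ Y.map M.subtype ≤ N := by
    intro Y
    rw [Subgroup.map_eq_bot_iff, hker, hN', Subgroup.subgroupOf, Subgroup.map_le_iff_le_comap]
  have hm : ∀ X : Subgroup G, X ≤ M → (X.subgroupOf M).map M.subtype = X :=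
    fun X hX => Subgroup.map_subgroupOf_eq_of_le hX
  have e : ∀ X Y Z : Subgroup G, X ≤ M → Y ≤ M → Z ≤ M →
      (⁅⁅X.subgroupOf M, Y.subgroupOf M⁆, Z.subgroupOf M⁆).map M.subtype = ⁅⁅X, Y⁆, Z⁆ := by
    intro X Y Z hX hY hZ
    rw [Subgroup.map_commutator, Subgroup.map_commutator, hm X hX, hm Y hY, hm Z hZ]
  have a' : ⁅⁅(H₂.subgroupOf M).map f, (H₃.subgroupOf M).map f⁆, (H₁.subgroupOf M).map f⁆ = ⊥ := by
    rw [← Subgroup.map_commutator, ← Subgroup.map_commutator, key, e H₂ H₃ H₁ h₂ h₃ h₁]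
    exact a
  have b' : ⁅⁅(H₃.subgroupOf M).map f, (H₁.subgroupOf M).map f⁆, (H₂.subgroupOf M).map f⁆ = ⊥ := by
    rw [← Subgroup.map_commutator, ← Subgroup.map_commutator, key, e H₃ H₁ H₂ h₃ h₁ h₂]
    exact b
  have c' := Subgroup.commutator_commutator_eq_bot_of_rotate a' b'
  rw [← Subgroup.map_commutator, ← Subgroup.map_commutator, key, e H₁ H₂ H₃ h₁ h₂ h₃] at c'
  exact c'

end Cfsg.Agent.Lib.Helper5
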