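import Mathlib

set_option autoImplicit false

namespace Cfsg.Agent.Lib.Helper5

section Transv

variable {F : Type*} [Field F] {m : ℕ}

/-- A basis adapted to a rank-one square-zero endomorphism. -/
theorem exists_adapted_basis (N : (Fin (m + 2) → F) →ₗ[F] (Fin (m + 2) → F))
    (hrank : Module.finrank F (LinearMap.range N) = 1) (hsq : N ∘ₗ N = 0) :
    ∃ b : Module.Basis (Fin (m + 2)) F (Fin (m + 2) → F),
      N (b 0) = b 1 ∧ ∀ i, i ≠ 0 → N (b i) = 0 := by
  classical
  obtain ⟨⟨u, hu⟩, hu0, hall⟩ := finrank_eq_one_iff'.1 hrank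
  obtain ⟨w, hw⟩ := hu
  have hune : u ≠ 0 := fun h => hu0 (Subtype.ext h)
  have hNu : N u = 0 := by
    rw [← hw, ← LinearMap.comp_apply, hsq, LinearMap.zero_apply]
  have hK : Module.finrank F (LinearMap.ker N) = m + 1 := by
    have h1 := LinearMap.finrank_range_add_finrank_ker N
    rw [hrank, Module.finrank_fin_fun] at h1
    omega
  set y : LinearMap.ker N := ⟨u, hNu⟩ with hy
  have hy0 : y ≠ 0 := fun h => hune (congrArg Subtype.val h)
  obtain ⟨C, hC⟩ := Submodule.exists_isCompl (Submodule.span F {y})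
  have hCdim : Module.finrank F C = m := by
    have h1 := Submodule.finrank_add_eq_of_isCompl hC
    rw [finrank_span_singleton hy0, hK] at h1
    omega
  haveI : Module.Free F C := Module.Free.of_divisionRing F C
  let bC : Module.Basis (Fin m) F C := Module.finBasisOfFinrankEq F C hCdim
  have hli1 : ∀ (c : F), ∀ x ∈ C, c • y + x = 0 → c = 0 := by
    intro c x hx hcx
    have h1 : c • y ∈ Submodule.span F {y} ⊓ C := by
      refine ⟨Submodule.smul_mem _ _ (Submodule.mem_span_singleton_self y), ?_⟩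
      have : c • y = -x := eq_neg_of_add_eq_zero_left hcx
      rw [this]
      exact C.neg_mem hx
    rw [hC.disjoint.eq_bot, Submodule.mem_bot] at h1
    exact (smul_eq_zero.1 h1).resolve_right hy0
  have hsp1 : ∀ z : LinearMap.ker N, ∃ c : F, z + c • y ∈ C := by
    intro z
    have hz : z ∈ Submodule.span F {y} ⊔ C := by rw [hC.codisjoint.eq_top]; trivial
    obtain ⟨a, ha, x, hx, rfl⟩ := Submodule.mem_sup.1 hz
    obtain ⟨c, rfl⟩ := Submodule.mem_span_singleton.1 ha
    refine ⟨-c, ?_⟩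
    have : c • y + x + (-c) • y = x := by
      module
    rw [this]
    exact hx
  let bK : Module.Basis (Fin (m + 1)) F (LinearMap.ker N) := Module.Basis.mkFinCons y bC hli1 hsp1
  have hli2 : ∀ (c : F), ∀ x ∈ LinearMap.ker N, c • w + x = 0 → c = 0 := by
    intro c x hx hcx
    have h1 := congrArg N hcx
    rw [map_add, map_smul, hw, LinearMap.mem_ker.1 hx, add_zero, map_zero] at h1
    exact (smul_eq_zero.1 h1).resolve_right hune
  have hsp2 : ∀ z : Fin (m + 2) → F, ∃ c : F, z + c • w ∈ LinearMap.ker N := by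
    intro z
    obtain ⟨a, ha⟩ := hall ⟨N z, LinearMap.mem_range_self N z⟩
    have ha' : a • u = N z := congrArg Subtype.val ha
    refine ⟨-a, ?_⟩
    rw [LinearMap.mem_ker, map_add, map_smul, hw, ← ha', neg_smul]
    abel
  let bV : Module.Basis (Fin (m + 2)) F (Fin (m + 2) → F) := Module.Basis.mkFinCons w bK hli2 hsp2
  have hbV : (bV : Fin (m + 2) → (Fin (m + 2) → F)) = Fin.cons w ((↑) ∘ bK) :=
    Module.Basis.coe_mkFinCons w bK hli2 hsp2
  have hbK : (bK : Fin (m + 1) → LinearMap.ker N) = Fin.cons y ((↑) ∘ bC) :=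
    Module.Basis.coe_mkFinCons y bC hli1 hsp1
  refine ⟨bV, ?_, ?_⟩
  · have h0 : bV 0 = w := by rw [hbV]; rfl
    have h1 : bV 1 = u := by
      rw [hbV]
      show (Fin.cons w ((↑) ∘ bK) : Fin (m + 2) → (Fin (m + 2) → F)) (Fin.succ 0) = u
      rw [Fin.cons_succ, Function.comp_apply, hbK]
      rfl
    rw [h0, h1, hw]
  · intro i hi
    obtain ⟨j, rfl⟩ := Fin.exists_succ_eq.2 hi
    rw [hbV, Fin.cons_succ, Function.comp_apply]
    exact LinearMap.mem_ker.1 (bK j).2

/-- Two rank-one square-zero endomorphisms in dimension at least three are conjugate by an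
endomorphism of determinant one. -/
theorem exists_conj_det_one (hm : 1 ≤ m) (N N' : (Fin (m + 2) → F) →ₗ[F] (Fin (m + 2) → F))
    (hrank : Module.finrank F (LinearMap.range N) = 1) (hsq : N ∘ₗ N = 0)
    (hrank' : Module.finrank F (LinearMap.range N') = 1) (hsq' : N' ∘ₗ N' = 0) :
    ∃ H : (Fin (m + 2) → F) →ₗ[F] (Fin (m + 2) → F),
      LinearMap.det H = 1 ∧ H ∘ₗ N = N' ∘ₗ H := by
  classical
  obtain ⟨b, hb0, hb⟩ := exists_adapted_basis N hrank hsq
  obtain ⟨b', hb'0, hb'⟩ := exists_adapted_basis N' hrank' hsq'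
  let h₀ : (Fin (m + 2) → F) ≃ₗ[F] (Fin (m + 2) → F) := b.equiv b' (Equiv.refl _)
  have hh₀ : ∀ i, h₀ (b i) = b' i := by
    intro i
    rw [Module.Basis.equiv_apply, Equiv.refl_apply]
  have hcomm₀ : (h₀ : (Fin (m + 2) → F) →ₗ[F] (Fin (m + 2) → F)) ∘ₗ N
      = N' ∘ₗ (h₀ : (Fin (m + 2) → F) →ₗ[F] (Fin (m + 2) → F)) := by
    apply b.ext
    intro i
    show h₀ (N (b i)) = N' (h₀ (b i))
    rw [hh₀]
    by_cases hi : i = 0
    · subst hi
      rw [hb0, hh₀, hb'0]
    · rw [hb i hi, hb' i hi, map_zero]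
  set d : F := LinearMap.det (h₀ : (Fin (m + 2) → F) →ₗ[F] (Fin (m + 2) → F)) with hd
  have hd0 : d ≠ 0 := (LinearEquiv.isUnit_det' h₀).ne_zero
  let cf : Fin (m + 2) → F := fun i => if i = Fin.last (m + 1) then d⁻¹ else 1
  let ψ : (Fin (m + 2) → F) →ₗ[F] (Fin (m + 2) → F) := b'.constr F (fun i => cf i • b' i)
  have hψ : ∀ i, ψ (b' i) = cf i • b' i := by
    intro i
    rw [Module.Basis.constr_basis]
  have hψdet : LinearMap.det ψ = d⁻¹ := by
    rw [← LinearMap.det_toMatrix b']
    have hmat : LinearMap.toMatrix b' b' ψ = Matrix.diagonal cf := by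
      ext i j
      rw [LinearMap.toMatrix_apply, hψ, map_smul, Finsupp.smul_apply, Module.Basis.repr_self,
        Matrix.diagonal_apply, Finsupp.single_apply, smul_eq_mul]
      by_cases hij : i = j
      · subst hij
        rw [if_pos rfl, if_pos rfl, mul_one]
      · rw [if_neg hij, if_neg (Ne.symm hij), mul_zero]
    rw [hmat, Matrix.det_diagonal]
    simp only [cf]
    rw [Finset.prod_ite_eq' Finset.univ (Fin.last (m + 1)) (fun _ => d⁻¹)]
    simp
  have hψcomm : ψ ∘ₗ N' = N' ∘ₗ ψ := by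
    apply b'.ext
    intro i
    rw [LinearMap.comp_apply, LinearMap.comp_apply, hψ, map_smul]
    by_cases hi : i = 0
    · subst hi
      rw [hb'0, hψ]
      have h1 : cf 1 = 1 := by
        simp only [cf]
        rw [if_neg]
        intro h
        have := congrArg Fin.val h
        simp at this
        omega
      have h0 : cf 0 = 1 := by
        simp only [cf]
        rw [if_neg]
        intro h
        have := congrArg Fin.val h
        simp at this
      rw [h1, h0]
    · rw [hb' i hi, map_zero, smul_zero]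
  refine ⟨ψ ∘ₗ (h₀ : (Fin (m + 2) → F) →ₗ[F] (Fin (m + 2) → F)), ?_, ?_⟩
  · rw [LinearMap.det_comp, hψdet, ← hd, inv_mul_cancel₀ hd0]
  · rw [LinearMap.comp_assoc, hcomm₀, ← LinearMap.comp_assoc, hψcomm, LinearMap.comp_assoc]

end Transv

end Cfsg.Agent.Lib.Helper5
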