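import Cfsg.Agent.Lib.Helper5.WC
import Cfsg.Agent.Lib.Helper5.PResidual
import Cfsg.Agent.Lib.Helper5.PReduced2

set_option autoImplicit false
open Cfsg

namespace Cfsg.Agent.Lib.Helper5

variable {H : Type*} [Group H] {p : ℕ}

theorem pResidual_map_normal (N' : Subgroup H) [hN : N'.Normal] :
    ((Cfsg.pResidual p ↥N').map N'.subtype).Normal := by
  haveI := pResidual_characteristic p ↥N'
  exact ConjAct.normal_of_characteristic_of_normal

variable [Finite H] [Fact p.Prime]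

theorem exists_pow_mem_pResidual_map (N' : Subgroup H) (d : H) (hd : d ∈ N') :
    ∃ k : ℕ, d ^ p ^ k ∈ (Cfsg.pResidual p ↥N').map N'.subtype := by
  obtain ⟨a, _, h2⟩ := pprime_part (p := p) d (isOfFinOrder_of_finite d)
  refine ⟨a, ⟨⟨d, hd⟩ ^ p ^ a, ?_, by simp⟩⟩
  unfold Cfsg.pResidual
  apply Subgroup.subset_closure
  show (orderOf ((⟨d, hd⟩ : N') ^ p ^ a)).Coprime p
  have : ((⟨d, hd⟩ : N') ^ p ^ a) = ⟨d ^ p ^ a, N'.pow_mem hd _⟩ := by
    apply Subtype.ext; simp
  rw [this, Subgroup.orderOf_mk]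
  exact h2

theorem wc_subgroupOf (Q : Subgroup H) (hQp : IsPGroup p Q) (hwc : Cfsg.IsWeaklyClosedSubgroup p Q)
    (K : Subgroup H) (hQK : Q ≤ K) :
    Cfsg.IsWeaklyClosedSubgroup p (Q.subgroupOf K) ∧
      Cfsg.IsParabolic p ((Subgroup.normalizer (Q : Set H)).subgroupOf K) := by
  have h1 : IsPGroup p (Q.subgroupOf K) := hQp.comap_of_injective K.subtype K.subtype_injective
  obtain ⟨S₁, hS₁⟩ := h1.exists_le_sylow
  set R := (S₁ : Subgroup K).map K.subtype with hR
  have hRp : IsPGroup p R := S₁.isPGroup'.map _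
  have hQR : Q ≤ R := by
    intro q hq
    exact ⟨⟨q, hQK hq⟩, hS₁ (by rw [Subgroup.mem_subgroupOf]; exact hq), rfl⟩
  constructor
  · refine ⟨S₁, hS₁, ?_⟩
    intro k hk
    have h2 : cj Q (k : H) ≤ R := by
      rintro _ ⟨q, hq, rfl⟩
      have hq' : (⟨q, hQK hq⟩ : K) ∈ Q.subgroupOf K := by rw [Subgroup.mem_subgroupOf]; exact hq
      have := hk ⟨_, hq', rfl⟩
      refine ⟨_, this, ?_⟩
      simp
    have h3 := wc_pgroup Q hwc R hRp hQR _ h2
    ext x
    rw [mem_map_conj_iff, Subgroup.mem_subgroupOf, Subgroup.mem_subgroupOf]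
    have h4 : (x : H) ∈ cj Q (k : H) ↔ (x : H) ∈ Q := by rw [h3]
    rw [cj, mem_map_conj_iff] at h4
    simpa using h4
  · refine ⟨S₁, ?_⟩
    intro s hs
    rw [Subgroup.mem_subgroupOf]
    exact wc_normalizer Q hwc R hRp hQR ⟨s, hs, rfl⟩

theorem wc_frattini (Q : Subgroup H) (hQp : IsPGroup p Q) (hwc : Cfsg.IsWeaklyClosedSubgroup p Q)
    (N' : Subgroup H) [hN : N'.Normal] :
    (N' ⊓ Subgroup.normalizer ((Q : Subgroup H) : Set H)) ⊔ (Cfsg.pResidual p ↥N').map N'.subtype = N' := by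
  obtain ⟨T, hT⟩ := hQp.exists_le_sylow
  have hTN : (T : Subgroup H) ≤ Subgroup.normalizer (Q : Set H) :=
    wc_normalizer Q hwc T T.isPGroup' hT
  haveI := pResidual_map_normal (p := p) N'
  have hRN : (Cfsg.pResidual p ↥N').map N'.subtype ≤ N' := by
    rintro _ ⟨d, _, rfl⟩
    exact d.2
  apply le_antisymm (sup_le inf_le_left hRN)
  have := le_sup_sylow_of_ppower T N' ((Cfsg.pResidual p ↥N').map N'.subtype)
    (fun d hd => exists_pow_mem_pResidual_map N' d hd)
  refine this.trans (sup_le (inf_le_right.trans le_sup_right) ?_)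
  refine le_trans ?_ le_sup_left
  exact le_inf inf_le_right (inf_le_left.trans hTN)

theorem wc_quotient (Q : Subgroup H) (hQp : IsPGroup p Q) (hwc : Cfsg.IsWeaklyClosedSubgroup p Q)
    (N' : Subgroup H) [hN : N'.Normal] :
    Cfsg.IsWeaklyClosedSubgroup p (Q.map (QuotientGroup.mk' N')) := by
  obtain ⟨T, hT⟩ := hQp.exists_le_sylow
  have hTN : (T : Subgroup H) ≤ Subgroup.normalizer (Q : Set H) :=
    wc_normalizer Q hwc T T.isPGroup' hT
  set π := QuotientGroup.mk' N' with hπ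
  have hπs : Function.Surjective π := QuotientGroup.mk'_surjective N'
  refine ⟨T.mapSurjective hπs, ?_, ?_⟩
  · rw [Sylow.coe_mapSurjective]
    exact Subgroup.map_mono hT
  · intro gbar hg
    obtain ⟨g, rfl⟩ := hπs gbar
    rw [Sylow.coe_mapSurjective] at hg
    have hcomm : (Q.map π).map (MulAut.conj (π g)).toMonoidHom = (cj Q g).map π := by
      rw [cj, Subgroup.map_map, Subgroup.map_map]
      congr 1
    rw [hcomm] at hg ⊢
    have hNN : Subgroup.normalizer (N' : Set H) = ⊤ := Subgroup.normalizer_eq_top_iff.mpr hN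
    have h1 : cj Q g ≤ (T : Subgroup H) ⊔ N' := by
      intro x hx
      obtain ⟨t, ht, htx⟩ := hg ⟨x, hx, rfl⟩
      have h2 : t⁻¹ * x ∈ N' := by
        rw [← QuotientGroup.eq]
        exact htx
      have : x = t * (t⁻¹ * x) := by group
      rw [this]
      exact Subgroup.mul_mem _ (Subgroup.mem_sup_left ht) (Subgroup.mem_sup_right h2)
    obtain ⟨k, hk, hkQ⟩ := wc_conj_in Q hQp hwc _ (hT.trans le_sup_left) g h1
    obtain ⟨t, ht, n, hn, rfl⟩ :=
      (mem_sup_of_le_normalizer (T : Subgroup H) N' (by rw [hNN]; exact le_top) k).mp hk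
    -- cj Q (t * n) = cj Q (t n t⁻¹) since t normalizes Q
    have h3 : cj Q (t * n) = cj Q (t * n * t⁻¹) := by
      have h4 : cj Q t = Q := (cj_eq_self_iff Q t).mpr (hTN ht)
      have : t * n = (t * n * t⁻¹) * t := by group
      rw [this, cj, ← map_conj_conj]
      change cj (cj Q t) _ = _
      rw [h4]
      have : t * n * t⁻¹ * t * t⁻¹ = t * n * t⁻¹ := by group
      rw [this]
    rw [hkQ, h3]
    have hn' : t * n * t⁻¹ ∈ N' := hN.conj_mem n hn t
    ext y
    constructor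
    · rintro ⟨x, ⟨q, hq, rfl⟩, rfl⟩
      refine ⟨q, hq, ?_⟩
      have h5 : π (t * n * t⁻¹) = 1 := by
        rw [hπ, QuotientGroup.mk'_apply, QuotientGroup.eq_one_iff]; exact hn'
      have h6 : (MulAut.conj (t * n * t⁻¹)).toMonoidHom q = (t * n * t⁻¹) * q * (t * n * t⁻¹)⁻¹ := rfl
      rw [h6, map_mul, map_mul, map_inv, h5]; group
    · rintro ⟨q, hq, rfl⟩
      refine ⟨(t * n * t⁻¹) * q * (t * n * t⁻¹)⁻¹, ⟨q, hq, rfl⟩, ?_⟩
      have h5 : π (t * n * t⁻¹) = 1 := by
        rw [hπ, QuotientGroup.mk'_apply, QuotientGroup.eq_one_iff]; exact hn'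
      rw [map_mul, map_mul, map_inv, h5]; group

end Cfsg.Agent.Lib.Helper5
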