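import Cfsg.Agent.Lib.Helper5.WC2

set_option autoImplicit false
open Cfsg
open scoped commutatorElement

namespace Cfsg.Agent.Lib.Helper5

variable {H : Type*} [Group H] {p : ℕ}

theorem normalizer_inf_le_normalizer_commutator (A B : Subgroup H) :
    Subgroup.normalizer (A : Set H) ⊓ Subgroup.normalizer (B : Set H) ≤
      Subgroup.normalizer ((⁅A, B⁆ : Subgroup H) : Set H) := by
  intro g hg
  rw [mem_normalizer_iff_map_conj, Subgroup.map_commutator,
    (mem_normalizer_iff_map_conj A g).mp hg.1, (mem_normalizer_iff_map_conj B g).mp hg.2]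

variable [Finite H] [Fact p.Prime]

/-- `N = N_N(Q) [N,Q]` for a weakly closed `Q` normalizing `N`. -/
theorem wc_factor (Q : Subgroup H) (hQp : IsPGroup p Q) (hwc : Cfsg.IsWeaklyClosedSubgroup p Q)
    (N : Subgroup H) (hQN : Q ≤ Subgroup.normalizer (N : Set H)) :
    ∀ n : H, n ∈ N → ∃ a ∈ N ⊓ Subgroup.normalizer ((Q : Subgroup H) : Set H),
      ∃ b ∈ ⁅N, Q⁆, n = a * b := by
  intro n hn
  set M := ⁅N, Q⁆ with hM
  have hMN : M ≤ N := Subgroup.le_normalizer_iff_commutator_le_left.mp hQN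
  have hNM : N ≤ Subgroup.normalizer (M : Set H) := Subgroup.normalizer_commutator_ge_left _ _
  have hQM : Q ≤ Subgroup.normalizer (M : Set H) := Subgroup.normalizer_commutator_ge_right _ _
  have h1 : cj Q n ≤ Q ⊔ M := by
    rintro _ ⟨q, hq, rfl⟩
    have : (MulAut.conj n).toMonoidHom q = ⁅n, q⁆ * q := by
      rw [commutatorElement_def]
      simp only [MulEquiv.toMonoidHom_eq_coe, MonoidHom.coe_coe, MulAut.conj_apply]
      group
    rw [this]
    exact Subgroup.mul_mem _ (Subgroup.mem_sup_right (Subgroup.commutator_mem_commutator hn hq))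
      (Subgroup.mem_sup_left hq)
  obtain ⟨k, hk, hkQ⟩ := wc_conj_in Q hQp hwc (Q ⊔ M) le_sup_left n h1
  obtain ⟨q, hq, m, hm, rfl⟩ := (mem_sup_of_le_normalizer Q M hQM k).mp hk
  -- q * m = (q m q⁻¹) * q
  set m' := q * m * q⁻¹ with hm'
  have hm'M : m' ∈ M := ((Subgroup.mem_normalizer_iff.mp (hQM hq)) m).mp hm
  have h2 : cj Q (q * m) = cj Q m' := by
    have h3 : cj Q q = Q := (cj_eq_self_iff Q q).mpr (Subgroup.le_normalizer hq)
    have : q * m = m' * q := by rw [hm']; group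
    rw [this, cj, ← map_conj_conj]
    change cj (cj Q q) m' = _
    rw [h3]
  rw [h2] at hkQ
  -- m'⁻¹ n normalizes Q
  have h4 : m'⁻¹ * n ∈ Subgroup.normalizer (Q : Set H) := by
    rw [← cj_eq_self_iff, cj, ← map_conj_conj]
    change cj (cj Q n) m'⁻¹ = Q
    rw [hkQ, cj, cj, map_conj_inv_conj]
  set x := m'⁻¹ * n with hx
  have hxN : x ∈ N := N.mul_mem (N.inv_mem (hMN hm'M)) hn
  refine ⟨x, ⟨hxN, h4⟩, x⁻¹ * m' * x, ?_, by rw [hx]; group⟩
  exact ((Subgroup.mem_normalizer_iff''.mp (hNM hxN)) m').mp hm'M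

theorem wc_commutator_factor (Q : Subgroup H) (hQp : IsPGroup p Q)
    (hwc : Cfsg.IsWeaklyClosedSubgroup p Q) (N' : Subgroup H) [hN : N'.Normal] :
    ∀ c : H, c ∈ ⁅N', Q⁆ → ∃ a ∈ Q ⊓ ⁅N', Q⁆, ∃ b ∈ ⁅⁅N', Q⁆, Q⁆, c = a * b := by
  set M := ⁅N', Q⁆ with hM
  have hNN : Subgroup.normalizer (N' : Set H) = ⊤ := Subgroup.normalizer_eq_top_iff.mpr hN
  have hQN : Q ≤ Subgroup.normalizer (N' : Set H) := by rw [hNN]; exact le_top
  have hNM : N' ≤ Subgroup.normalizer (M : Set H) := Subgroup.normalizer_commutator_ge_left _ _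
  have hQM : Q ≤ Subgroup.normalizer (M : Set H) := Subgroup.normalizer_commutator_ge_right _ _
  have hQMQ : Q ≤ Subgroup.normalizer ((⁅M, Q⁆ : Subgroup H) : Set H) :=
    Subgroup.normalizer_commutator_ge_right _ _
  have hle : M ≤ (Q ⊓ M) ⊔ ⁅M, Q⁆ := by
    rw [hM, Subgroup.commutator_le]
    intro n hn q hq
    obtain ⟨a, ha, b, hb, rfl⟩ := wc_factor Q hQp hwc N' hQN n hn
    have hid : ⁅a * b, q⁆ = (a * ⁅b, q⁆ * a⁻¹) * ⁅a, q⁆ := by
      simp only [commutatorElement_def]; group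
    rw [hid]
    apply Subgroup.mul_mem
    · apply Subgroup.mem_sup_right
      have haN : a ∈ Subgroup.normalizer ((⁅M, Q⁆ : Subgroup H) : Set H) :=
        normalizer_inf_le_normalizer_commutator M Q ⟨hNM ha.1, ha.2⟩
      exact ((Subgroup.mem_normalizer_iff.mp haN) _).mp (Subgroup.commutator_mem_commutator hb hq)
    · apply Subgroup.mem_sup_left
      refine ⟨?_, Subgroup.commutator_mem_commutator ha.1 hq⟩
      have : ⁅a, q⁆ = (a * q * a⁻¹) * q⁻¹ := by rw [commutatorElement_def]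
      rw [this]
      exact Q.mul_mem (((Subgroup.mem_normalizer_iff.mp ha.2) q).mp hq) (Q.inv_mem hq)
  intro c hc
  exact (mem_sup_of_le_normalizer (Q ⊓ M) ⁅M, Q⁆ (inf_le_left.trans hQMQ) c).mp (hle hc)

end Cfsg.Agent.Lib.Helper5
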