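import Cfsg.Agent.Lib.Helper5.WC3

set_option autoImplicit false
open Cfsg
open scoped commutatorElement

namespace Cfsg.Agent.Lib.Helper5

variable {H : Type*} [Group H] {p : ℕ}

theorem cj_cj (A : Subgroup H) (a b : H) : cj (cj A b) a = cj A (a * b) := map_conj_conj A a b

theorem cj_one (A : Subgroup H) : cj A 1 = A := map_conj_one A

theorem cj_commutator (A B : Subgroup H) (g : H) : cj ⁅A, B⁆ g = ⁅cj A g, cj B g⁆ :=
  Subgroup.map_commutator _ _ _

theorem cj_inf (A B : Subgroup H) (g : H) : cj (A ⊓ B) g = cj A g ⊓ cj B g :=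
  Subgroup.map_inf _ _ _ (MulAut.conj g).injective

theorem cj_le_iff (A B : Subgroup H) (g : H) : cj A g ≤ cj B g ↔ A ≤ B := by
  constructor
  · intro h
    have := cj_le_cj h g⁻¹
    rwa [cj_cj, cj_cj, inv_mul_cancel, cj_one, cj_one] at this
  · intro h
    exact cj_le_cj h g

theorem cj_normalizer (A : Subgroup H) (g : H) :
    Subgroup.normalizer ((cj A g : Subgroup H) : Set H) = cj (Subgroup.normalizer (A : Set H)) g :=
  normalizer_map_conj A g

/-- mutual normalization gives the commutator condition -/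
theorem commutator_le_inf_of_normalize (A B : Subgroup H)
    (hAB : A ≤ Subgroup.normalizer (B : Set H)) (hBA : B ≤ Subgroup.normalizer (A : Set H)) :
    ⁅A, B⁆ ≤ A ⊓ B := by
  refine le_inf ?_ ?_
  · exact Subgroup.le_normalizer_iff_commutator_le_left.mp hBA
  · exact Subgroup.le_normalizer_iff_commutator_le_right.mp hAB

variable [Finite H] [Fact p.Prime]

theorem wc_iff_commutator (Q : Subgroup H) (hQp : IsPGroup p Q) :
    Cfsg.IsWeaklyClosedSubgroup p Q ↔
      ∀ g : H, ⁅Q, cj Q g⁆ ≤ Q ⊓ cj Q g → cj Q g = Q := by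
  constructor
  · intro hwc g hg
    have h1 : Q ≤ Subgroup.normalizer ((cj Q g : Subgroup H) : Set H) :=
      Subgroup.le_normalizer_iff_commutator_le_right.mpr (hg.trans inf_le_right)
    have hR : IsPGroup p (Q ⊔ cj Q g : Subgroup H) :=
      IsPGroup.to_sup_of_normal_right' hQp (hQp.map _) h1
    exact wc_pgroup Q hwc _ hR le_sup_left g le_sup_right
  · intro hcond
    obtain ⟨T, hQT⟩ := hQp.exists_le_sylow
    -- the condition for all conjugates
    have hcond' : ∀ h g : H, ⁅cj Q h, cj (cj Q h) g⁆ ≤ cj Q h ⊓ cj (cj Q h) g →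
        cj (cj Q h) g = cj Q h := by
      intro h g hg
      have h1 := cj_le_cj hg h⁻¹
      rw [cj_commutator, cj_inf, cj_cj, cj_cj, cj_cj, inv_mul_cancel, cj_one] at h1
      have h2 := hcond _ h1
      have h3 := congrArg (fun K => cj K h) h2
      simp only [cj_cj] at h3
      rw [cj_cj]
      have : h * (h⁻¹ * g * h) = g * h := by group
      rw [this] at h3
      exact h3
    -- every conjugate inside T is normal in T
    have hnormal : ∀ h : H, cj Q h ≤ (T : Subgroup H) →
        (T : Subgroup H) ≤ Subgroup.normalizer ((cj Q h : Subgroup H) : Set H) := by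
      intro h hA
      set A := cj Q h with hAdef
      set N := (T : Subgroup H) ⊓ Subgroup.normalizer (A : Set H) with hN
      by_contra hnot
      have hlt : N < (T : Subgroup H) := by
        refine lt_of_le_of_ne inf_le_left ?_
        intro heq
        apply hnot
        rw [← heq]
        exact inf_le_right
      obtain ⟨x, hxT, hxN, hxnot⟩ := exists_mem_normalizer_not_mem N (T : Subgroup H) T.isPGroup' hlt
      have hAN : A ≤ N := le_inf hA Subgroup.le_normalizer
      have hNx : cj N x = N := (cj_eq_self_iff N x).mpr hxN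
      have h1 : cj A x ≤ N := by
        have := cj_le_cj hAN x
        rwa [hNx] at this
      have h2 : cj A x ≤ Subgroup.normalizer (A : Set H) := h1.trans inf_le_right
      have h3 : A ≤ Subgroup.normalizer ((cj A x : Subgroup H) : Set H) := by
        rw [cj_normalizer]
        have h4 : N ≤ cj (Subgroup.normalizer (A : Set H)) x := by
          have := cj_le_cj (inf_le_right : N ≤ Subgroup.normalizer (A : Set H)) x
          rwa [hNx] at this
        exact hAN.trans h4
      have h5 := hcond' h x (commutator_le_inf_of_normalize A (cj A x) h3 h2)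
      apply hxnot
      exact ⟨hxT, (cj_eq_self_iff A x).mp h5⟩
    refine ⟨T, hQT, ?_⟩
    intro g hg
    have hQn : (T : Subgroup H) ≤ Subgroup.normalizer (Q : Set H) := by
      have := hnormal 1 (by rw [cj_one]; exact hQT)
      rwa [cj_one] at this
    have hgn := hnormal g hg
    apply hcond
    exact commutator_le_inf_of_normalize Q (cj Q g) (hQT.trans hgn) (hg.trans hQn)

theorem wc_iff_normalizer (Q : Subgroup H) (hQp : IsPGroup p Q) :
    Cfsg.IsWeaklyClosedSubgroup p Q ↔
      ∀ R : Subgroup H, IsPGroup p ↥R → Q ≤ R →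
        Subgroup.normalizer ((R : Subgroup H) : Set H) ≤ Subgroup.normalizer ((Q : Subgroup H) : Set H) := by
  constructor
  · intro hwc R hR hQR n hn
    rw [← cj_eq_self_iff]
    apply wc_pgroup Q hwc R hR hQR
    have := cj_le_cj hQR n
    rwa [(cj_eq_self_iff R n).mpr hn] at this
  · intro hcond
    obtain ⟨T, hQT⟩ := hQp.exists_le_sylow
    refine ⟨T, hQT, ?_⟩
    intro g hg
    set M := Subgroup.normalizer (Q : Set H) with hM
    have hTM : (T : Subgroup H) ≤ M := Subgroup.le_normalizer.trans (hcond _ T.isPGroup' hQT)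
    set T' : Sylow p H := g⁻¹ • T with hT'
    have hT'coe : (T' : Subgroup H) = cj (T : Subgroup H) g⁻¹ := sylow_smul_coe g⁻¹ T
    have hQT' : Q ≤ (T' : Subgroup H) := by
      rw [hT'coe]
      have := cj_le_cj hg g⁻¹
      rwa [cj_cj, inv_mul_cancel, cj_one] at this
    have hT'M : (T' : Subgroup H) ≤ M := Subgroup.le_normalizer.trans (hcond _ T'.isPGroup' hQT')
    have hmax1 : IsMaxPIn p M (T : Subgroup H) :=
      ⟨hTM, T.isPGroup', fun B hB _ hTB => (T.is_maximal' hB hTB)⟩
    have hmax2 : IsMaxPIn p M (T' : Subgroup H) :=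
      ⟨hT'M, T'.isPGroup', fun B hB _ hTB => (T'.is_maximal' hB hTB)⟩
    obtain ⟨m, hm, hmT⟩ := hmax2.conj hmax1
    change cj (T' : Subgroup H) m = T at hmT
    rw [hT'coe, cj_cj] at hmT
    have h1 : m * g⁻¹ ∈ Subgroup.normalizer ((T : Subgroup H) : Set H) :=
      (cj_eq_self_iff _ _).mp hmT
    have h2 : m * g⁻¹ ∈ M := hcond _ T.isPGroup' hQT h1
    have h3 : g ∈ M := by
      have : g = (m * g⁻¹)⁻¹ * m := by group
      rw [this]
      exact M.mul_mem (M.inv_mem h2) hm
    exact (cj_eq_self_iff Q g).mpr h3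

end Cfsg.Agent.Lib.Helper5
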