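import Cfsg.Agent.Lib.Helper5.WC4

set_option autoImplicit false
open Cfsg

namespace Cfsg.Agent.Lib.Helper5

variable {H : Type*} [Group H] {p : ℕ}

theorem iSup_cj_normal (Q : Subgroup H) : (⨆ k : H, cj Q k).Normal := by
  rw [← Subgroup.normalizer_eq_top_iff, eq_top_iff]
  intro g _
  apply mem_normalizer_of_map_conj_le
  · rw [Subgroup.map_iSup]
    apply iSup_le
    intro k
    change cj (cj Q k) g ≤ _
    rw [cj_cj]
    exact le_iSup (fun k => cj Q k) (g * k)
  · rw [Subgroup.map_iSup]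
    apply iSup_le
    intro k
    change cj (cj Q k) g⁻¹ ≤ _
    rw [cj_cj]
    exact le_iSup (fun k => cj Q k) (g⁻¹ * k)

variable [Finite H] [Fact p.Prime]

/-- conjugates of a weakly closed subgroup stay in every subnormal subgroup containing it -/
theorem wc_conj_le_subnormal (Q : Subgroup H) (hQp : IsPGroup p Q)
    (hwc : Cfsg.IsWeaklyClosedSubgroup p Q) (S : Subgroup H) (hS : S.IsSubnormal) :
    Q ≤ S → ∀ k : H, cj Q k ≤ S := by
  induction hS with
  | top => intro _ k; exact le_top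
  | step S₀ S₁ h_le hSubn hN ih =>
    intro hQS k
    have h1 := ih (hQS.trans h_le) k
    obtain ⟨s, hs, hsQ⟩ := wc_conj_in Q hQp hwc S₁ (hQS.trans h_le) k h1
    rw [hsQ]
    have hS₁n : S₁ ≤ Subgroup.normalizer (S₀ : Set H) :=
      (Subgroup.normal_subgroupOf_iff_le_normalizer h_le).mp hN
    have := cj_le_cj hQS s
    rwa [(cj_eq_self_iff S₀ s).mpr (hS₁n hs)] at this

theorem wc_subnormalClosure (Q : Subgroup H) (hQp : IsPGroup p Q)
    (hwc : Cfsg.IsWeaklyClosedSubgroup p Q) :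
    Cfsg.subnormalClosure Q = ⨆ k : H, cj Q k := by
  unfold Cfsg.subnormalClosure
  apply le_antisymm
  · apply sInf_le
    refine ⟨?_, (iSup_cj_normal Q).isSubnormal⟩
    have := le_iSup (fun k => cj Q k) 1
    simpa [cj_one] using this
  · apply le_sInf
    rintro S ⟨hQS, hS⟩
    apply iSup_le
    intro k
    exact wc_conj_le_subnormal Q hQp hwc S hS hQS k

theorem weakClosure_eq (Q : Subgroup H) (hQp : IsPGroup p Q)
    (hwc : Cfsg.IsWeaklyClosedSubgroup p Q) (K : Subgroup H) (hQK : Q ≤ K) :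
    Cfsg.weakClosure Q K = ⨆ k : ↥K, cj Q (k : H) := by
  unfold Cfsg.weakClosure
  apply le_antisymm
  · apply iSup_le
    rintro ⟨g, hg⟩
    obtain ⟨k, hk, hkQ⟩ := wc_conj_in Q hQp hwc K hQK g hg
    change cj Q g ≤ _
    rw [hkQ]
    exact le_iSup (fun k : K => cj Q (k : H)) ⟨k, hk⟩
  · apply iSup_le
    intro k
    have hk : cj Q (k : H) ≤ K := by
      rintro _ ⟨q, hq, rfl⟩
      simp only [MulEquiv.toMonoidHom_eq_coe, MonoidHom.coe_coe, MulAut.conj_apply]
      exact K.mul_mem (K.mul_mem k.2 (hQK hq)) (K.inv_mem k.2)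
    exact le_iSup (fun g : {g : H // Q.map (MulAut.conj g).toMonoidHom ≤ K} =>
      Q.map (MulAut.conj (g : H)).toMonoidHom) ⟨(k : H), hk⟩

theorem weakClosure_eq_subnormalClosure (Q : Subgroup H) (hQp : IsPGroup p Q)
    (hwc : Cfsg.IsWeaklyClosedSubgroup p Q) (K : Subgroup H) (hQK : Q ≤ K) :
    Cfsg.weakClosure Q K = (Cfsg.subnormalClosure (Q.subgroupOf K)).map K.subtype := by
  rw [weakClosure_eq Q hQp hwc K hQK]
  have hQ'p : IsPGroup p (Q.subgroupOf K) := hQp.comap_of_injective K.subtype K.subtype_injective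
  have hwc' := (wc_subgroupOf Q hQp hwc K hQK).1
  rw [wc_subnormalClosure (Q.subgroupOf K) hQ'p hwc', Subgroup.map_iSup]
  congr 1
  ext k : 1
  change _ = ((Q.subgroupOf K).map (MulAut.conj k).toMonoidHom).map K.subtype
  rw [Subgroup.map_map]
  have : K.subtype.comp (MulAut.conj k).toMonoidHom =
      (MulAut.conj (k : H)).toMonoidHom.comp K.subtype := by
    ext z; simp
  rw [this, ← Subgroup.map_map, Subgroup.map_subgroupOf_eq_of_le hQK]

end Cfsg.Agent.Lib.Helper5
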