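import Cfsg.Agent.Lib.Helper5.YL2
import Cfsg.Agent.Lib.Helper5.SylowLib2

set_option autoImplicit false
open Cfsg

namespace Cfsg.Agent.Lib.Helper5

variable {L : Type*} [Group L] {p : ℕ}

/-- Generalization of `le_sup_sylow_of_ppower` with normalizer hypotheses. -/
theorem le_sup_sylow_of_ppower' [Fact p.Prime] [Finite L] (T : Sylow p L)
    (D C : Subgroup L) (hTD : (T : Subgroup L) ≤ Subgroup.normalizer (D : Set L))
    (hDC : D ≤ Subgroup.normalizer (C : Set L))
    (hDp : ∀ d ∈ D, ∃ k : ℕ, d ^ p ^ k ∈ C) :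
    D ≤ (D ⊓ C) ⊔ ((T : Subgroup L) ⊓ D) := by
  have hp : p.Prime := Fact.out
  set J := (D ⊓ C) ⊔ ((T : Subgroup L) ⊓ D) with hJ
  rw [← Subgroup.relIndex_eq_one]
  have h1 : J.relIndex D ∣ (D ⊓ C).relIndex D := Subgroup.relIndex_dvd_of_le_left D le_sup_left
  have h2 : J.relIndex D ∣ ((T : Subgroup L) ⊓ D).relIndex D :=
    Subgroup.relIndex_dvd_of_le_left D le_sup_right
  have h3 : ¬ p ∣ ((T : Subgroup L) ⊓ D).relIndex D := by
    obtain ⟨P, hP⟩ := exists_sylow_inf_of_le_normalizer T D hTD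
    unfold Subgroup.relIndex
    rw [← hP]
    exact P.not_dvd_index
  have h4 : ∃ n : ℕ, (D ⊓ C).relIndex D = p ^ n := by
    have hn : ((D ⊓ C).subgroupOf D).Normal := by
      rw [Subgroup.normal_subgroupOf_iff_le_normalizer inf_le_left]
      refine le_trans ?_ Subgroup.inf_normalizer_le_normalizer_inf
      exact le_inf Subgroup.le_normalizer hDC
    unfold Subgroup.relIndex
    rw [Subgroup.index_eq_card]
    have hpg : IsPGroup p (D ⧸ (D ⊓ C).subgroupOf D) := by
      intro q
      obtain ⟨d, rfl⟩ := QuotientGroup.mk_surjective q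
      obtain ⟨k, hk⟩ := hDp d.1 d.2
      refine ⟨k, ?_⟩
      rw [← QuotientGroup.mk_pow, QuotientGroup.eq_one_iff, Subgroup.mem_subgroupOf]
      simp only [Subgroup.coe_pow]
      exact ⟨D.pow_mem d.2 _, hk⟩
    exact (IsPGroup.iff_card.mp hpg)
  obtain ⟨n, hn⟩ := h4
  rw [hn] at h1
  have hcop : Nat.Coprime (J.relIndex D) (p ^ n) := by
    apply Nat.Coprime.pow_right
    rw [Nat.coprime_comm, Nat.Prime.coprime_iff_not_dvd hp]
    intro h
    exact h3 (h.trans h2)
  exact Nat.Coprime.eq_one_of_dvd hcop h1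

/-- conjugation-invariant generating sets give normalizing elements -/
theorem mem_normalizer_closure (S : Set L) (g : L)
    (h1 : ∀ s ∈ S, g * s * g⁻¹ ∈ S) (h2 : ∀ s ∈ S, g⁻¹ * s * g ∈ S) :
    g ∈ Subgroup.normalizer ((Subgroup.closure S : Subgroup L) : Set L) := by
  apply mem_normalizer_of_map_conj_le
  · rw [MonoidHom.map_closure, Subgroup.closure_le]
    rintro _ ⟨s, hs, rfl⟩
    exact Subgroup.subset_closure (h1 s hs)
  · rw [MonoidHom.map_closure, Subgroup.closure_le]
    rintro _ ⟨s, hs, rfl⟩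
    apply Subgroup.subset_closure
    have := h2 s hs
    simpa using this

theorem normalizer_le_normalizer_omegaOne_center (S : Subgroup L) :
    Subgroup.normalizer (S : Set L) ≤
      Subgroup.normalizer ((Cfsg.omegaOne p (S ⊓ Subgroup.centralizer (S : Set L)) : Subgroup L) : Set L) := by
  have key : ∀ g ∈ Subgroup.normalizer (S : Set L), ∀ s : L,
      (s ∈ S ⊓ Subgroup.centralizer (S : Set L) ∧ s ^ p = 1) →
      (g * s * g⁻¹ ∈ S ⊓ Subgroup.centralizer (S : Set L) ∧ (g * s * g⁻¹) ^ p = 1) := by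
    intro g hg s hs
    refine ⟨Subgroup.mem_inf.mpr ⟨?_, ?_⟩, ?_⟩
    · exact ((Subgroup.mem_normalizer_iff.mp hg) s).mp (Subgroup.mem_inf.mp hs.1).1
    · have hgc := normalizer_le_normalizer_centralizer S hg
      exact ((Subgroup.mem_normalizer_iff.mp hgc) s).mp (Subgroup.mem_inf.mp hs.1).2
    · rw [conj_pow, hs.2]; group
  intro g hg
  unfold Cfsg.omegaOne
  apply mem_normalizer_closure
  · intro s hs
    exact key g hg s hs
  · intro s hs
    have := key g⁻¹ (Subgroup.inv_mem _ hg) s hs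
    simpa using this


section S2803
variable [Finite L] [Fact p.Prime]

theorem yl_structure
    (hchar : Subgroup.centralizer (Cfsg.pCore p L : Set L) ≤ Cfsg.pCore p L)
    (T : Sylow p L) (Y : Subgroup L)
    (hY : (Cfsg.IsPReducedNormal p Y ∧ ∀ V : Subgroup L, Cfsg.IsPReducedNormal p V → V ≤ Y))
    (TL : Subgroup L) (hTL : TL = (T : Subgroup L) ⊓ Subgroup.centralizer (Y : Set L)) :
    (∀ g : L, ∃ a ∈ Subgroup.normalizer (TL : Set L), ∃ c ∈ Subgroup.centralizer (Y : Set L),
      g = a * c) ∧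
    Cfsg.pCoreOf p (Subgroup.normalizer (TL : Set L)) = TL ∧
    Y = Cfsg.omegaOne p (TL ⊓ Subgroup.centralizer (TL : Set L)) := by
  obtain ⟨hYred, hYmax⟩ := hY
  obtain ⟨hYn, hYe, hYP⟩ := (isPReducedNormal_iff Y).mp hYred
  set C := Subgroup.centralizer (Y : Set L) with hC
  haveI : Y.Normal := hYn
  haveI hCn : C.Normal := Subgroup.normal_centralizer
  set R := Subgroup.normalizer (TL : Set L) with hR
  have hNC : Subgroup.normalizer (C : Set L) = ⊤ := Subgroup.normalizer_eq_top_iff.mpr hCn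
  -- part 1
  have hfr : R ⊔ C = ⊤ := by
    rw [hR, hTL]
    exact frattini_inf_normal T C
  have h1 : ∀ g : L, ∃ a ∈ R, ∃ c ∈ C, g = a * c := by
    intro g
    have hg : g ∈ R ⊔ C := by rw [hfr]; exact Subgroup.mem_top g
    exact (mem_sup_of_le_normalizer R C (by rw [hNC]; exact le_top) g).mp hg
  -- facts
  have hTR : (T : Subgroup L) ≤ R := by
    rw [hR, hTL]
    exact sylow_le_normalizer_inf_normal T C
  have hTLp : IsPGroup p TL := by
    rw [hTL]
    exact T.isPGroup'.to_inf_left
  have hTLR : TL ≤ R := Subgroup.le_normalizer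
  -- a normality criterion
  have hnormal_of : ∀ D : Subgroup L, R ≤ Subgroup.normalizer (D : Set L) → (D ⊔ C).Normal := by
    intro D hD
    rw [← Subgroup.normalizer_eq_top_iff, eq_top_iff, ← hfr]
    apply sup_le
    · exact le_trans (le_inf hD (by rw [hNC]; exact le_top)) (normalizer_inf_le_normalizer_sup D C)
    · exact le_trans le_sup_right Subgroup.le_normalizer
  -- key: D normalized by R with p-powers in C lies in C
  have hkey : ∀ D : Subgroup L, R ≤ Subgroup.normalizer (D : Set L) →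
      (∀ d ∈ D, ∃ k : ℕ, d ^ p ^ k ∈ C) → D ≤ C := by
    intro D hD hDp
    have hn := hnormal_of D hD
    have := hYP (D ⊔ C) hn (by
      intro x hx
      obtain ⟨d, hd, c, hc, rfl⟩ :=
        (mem_sup_of_le_normalizer D C (by rw [hNC]; exact le_top) x).mp hx
      obtain ⟨k, hk⟩ := hDp d hd
      obtain ⟨c', hc', h⟩ := pow_mul_mem_of_mem_normalizer C d c (by rw [hNC]; exact Subgroup.mem_top d)
        hc (p ^ k)
      exact ⟨k, by rw [h]; exact C.mul_mem hk hc'⟩)
    exact le_sup_left.trans this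
  -- part 2
  have h2 : Cfsg.pCoreOf p R = TL := by
    apply le_antisymm
    · rw [hTL]
      refine le_inf (pCoreOf_le_sylow' T R hTR) ?_
      apply hkey _ (pCoreOf_normalizer R)
      intro d hd
      obtain ⟨k, hk⟩ := isPGroup_pCoreOf p R ⟨d, hd⟩
      refine ⟨k, ?_⟩
      have := congrArg Subtype.val hk
      simp only [Subgroup.coe_pow, Subgroup.coe_one] at this
      rw [this]
      exact C.one_mem
    · exact le_pCoreOf R TL hTLR le_rfl hTLp
  -- part 3
  have hYp : IsPGroup p Y := isPGroup_of_isElementaryAbelian Y hYe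
  have hYT : Y ≤ T := (le_pCore Y hYn hYp).trans (pCore_le_sylow T)
  have hYC : Y ≤ C := by
    intro y hy
    rw [hC, Subgroup.mem_centralizer_iff]
    intro z hz
    have := hYe.1.1.1 ⟨z, hz⟩ ⟨y, hy⟩
    exact congrArg Subtype.val this
  have hYTL : Y ≤ TL := by rw [hTL]; exact le_inf hYT hYC
  have hTLC : TL ≤ C := by rw [hTL]; exact inf_le_right
  set W := Cfsg.omegaOne p (TL ⊓ Subgroup.centralizer (TL : Set L)) with hW
  have hYW : Y ≤ W := by
    intro y hy
    rw [hW]
    unfold Cfsg.omegaOne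
    apply Subgroup.subset_closure
    refine ⟨Subgroup.mem_inf.mpr ⟨hYTL hy, ?_⟩, hYe.2 y hy⟩
    rw [Subgroup.mem_centralizer_iff]
    intro t ht
    have := hTLC ht
    rw [hC, Subgroup.mem_centralizer_iff] at this
    exact (this y hy).symm
  have hWZ : W ≤ TL ⊓ Subgroup.centralizer (TL : Set L) := omegaOne_le _
  have hWR : W ≤ R := (hWZ.trans inf_le_left).trans hTLR
  have hRW : R ≤ Subgroup.normalizer (W : Set L) := normalizer_le_normalizer_omegaOne_center TL
  have hTLW : TL ≤ Subgroup.centralizer (W : Set L) := by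
    intro t ht
    rw [Subgroup.mem_centralizer_iff]
    intro w hw
    have := (Subgroup.mem_inf.mp (hWZ hw)).2
    rw [Subgroup.mem_centralizer_iff] at this
    exact (this t ht).symm
  have hCWC : Subgroup.centralizer (W : Set L) ≤ C := Subgroup.centralizer_le hYW
  have hWred : PRedOf p R W := by
    intro D hDR hDn hDp
    have hDC : D ≤ C := by
      apply hkey D hDn
      intro d hd
      obtain ⟨k, hk⟩ := hDp d hd
      exact ⟨k, hCWC hk⟩
    have hDnC : D ≤ Subgroup.normalizer ((Subgroup.centralizer (W : Set L) : Subgroup L) : Set L) :=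
      (hDR.trans hRW).trans (normalizer_le_normalizer_centralizer W)
    have := le_sup_sylow_of_ppower' T D (Subgroup.centralizer (W : Set L)) (hTR.trans hDn) hDnC hDp
    refine this.trans (sup_le inf_le_right ?_)
    refine le_trans ?_ hTLW
    rw [hTL]
    exact inf_le_inf_left _ hDC
  have hWL : Cfsg.IsPReducedNormal p (W.subgroupOf R) :=
    (isPReducedNormal_subgroupOf_iff R W hWR).mpr
      ⟨hRW, isElementaryAbelian_omegaOne_center TL, hWred⟩
  have h3 := pReduced_normalClosure_of_sylow_le hchar T R hTR _ hWL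
  rw [Subgroup.map_subgroupOf_eq_of_le hWR] at h3
  have hWY : W ≤ Y := Subgroup.le_normalClosure.trans (hYmax _ h3)
  exact ⟨h1, h2, le_antisymm hYW hWY⟩

end S2803

end Cfsg.Agent.Lib.Helper5
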