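import Cfsg.Agent.Lib.Helper5.YL4

set_option autoImplicit false
open Cfsg

namespace Cfsg.Agent.Lib.Helper5

variable {H : Type*} [Group H] {p : ℕ} [Finite H] [Fact p.Prime]

theorem lstar_structure (T : Sylow p H) (L M : Subgroup H) (hTL : (T : Subgroup H) ≤ L)
    (hTM : (T : Subgroup H) ≤ M)
    (hL : Subgroup.centralizer (Cfsg.pCore p ↥L : Set ↥L) ≤ Cfsg.pCore p ↥L)
    (hM : Subgroup.centralizer (Cfsg.pCore p ↥M : Set ↥M) ≤ Cfsg.pCore p ↥M)
    (T₀ : Subgroup H)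
    (hT₀ : T₀ = (T : Subgroup H) ⊓
      Subgroup.centralizer (((Cfsg.largestPReducedOf p L) : Subgroup H) : Set H))
    (hfac : M ⊔ Subgroup.centralizer (((Cfsg.largestPReducedOf p L) : Subgroup H) : Set H) =
      L ⊔ Subgroup.centralizer (((Cfsg.largestPReducedOf p L) : Subgroup H) : Set H))
    (Ls : Subgroup H) (hLs : Ls = M ⊓ Subgroup.normalizer ((T₀ : Subgroup H) : Set H)) :
    (Cfsg.largestPReducedOf p Ls) = (Cfsg.largestPReducedOf p L) ∧
    L ⊔ Subgroup.centralizer (((Cfsg.largestPReducedOf p L) : Subgroup H) : Set H) =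
      Ls ⊔ Subgroup.centralizer (((Cfsg.largestPReducedOf p L) : Subgroup H) : Set H) ∧
    Subgroup.centralizer (Cfsg.pCore p ↥Ls : Set ↥Ls) ≤ Cfsg.pCore p ↥Ls ∧
    (T : Subgroup H) ≤ Ls := by
  obtain ⟨hLn, hYe, hLr⟩ := largestPReducedOf_spec (p := p) L hL
  have hYL : Cfsg.largestPReducedOf p L ≤ L := largestPReducedOf_le L
  set Y := Cfsg.largestPReducedOf p L with hY
  set C := Subgroup.centralizer (Y : Set H) with hC
  obtain ⟨hMn, hMr⟩ := pRedOf_transfer M L Y hLn hLr hfac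
  have hNC : Subgroup.normalizer (Y : Set H) ≤ Subgroup.normalizer (C : Set H) :=
    normalizer_le_normalizer_centralizer Y
  have hTn : (T : Subgroup H) ≤ Subgroup.normalizer (T₀ : Set H) := by
    rw [hT₀]
    refine le_trans ?_ Subgroup.inf_normalizer_le_normalizer_inf
    exact le_inf Subgroup.le_normalizer ((hTL.trans hLn).trans hNC)
  have hTLs : (T : Subgroup H) ≤ Ls := by rw [hLs]; exact le_inf hTM hTn
  have hLsM : Ls ≤ M := by rw [hLs]; exact inf_le_left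
  have hfr := frattini_ambient T M C hTM (hMn.trans hNC)
  have hsup : Ls ⊔ C = M ⊔ C := by
    apply le_antisymm (sup_le_sup_right hLsM C)
    refine sup_le ?_ le_sup_right
    rw [hLs, hT₀]
    exact hfr
  have hYp : IsPGroup p Y := isPGroup_of_isElementaryAbelian Y hYe
  have hYT : Y ≤ T := (le_pCoreOf L Y hYL hLn hYp).trans (pCoreOf_le_sylow' T L hTL)
  have hYC : Y ≤ C := by
    intro y hy
    rw [hC, Subgroup.mem_centralizer_iff]
    intro z hz
    have := hYe.1.1.1 ⟨z, hz⟩ ⟨y, hy⟩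
    exact congrArg Subtype.val this
  have hYT₀ : Y ≤ T₀ := by rw [hT₀]; exact le_inf hYT hYC
  have hT₀M : T₀ ≤ M := by rw [hT₀]; exact inf_le_left.trans hTM
  have hT₀Ls : T₀ ≤ Ls := by rw [hLs]; exact le_inf hT₀M Subgroup.le_normalizer
  have hYLs : Y ≤ Ls := hYT₀.trans hT₀Ls
  obtain ⟨hLsn, hLsr⟩ := pRedOf_transfer Ls L Y hLn hLr (hsup.trans hfac)
  have hc : Y ≤ Cfsg.largestPReducedOf p Ls := le_largestPReducedOf Ls Y hYLs hLsn hYe hLsr
  have hOM : Cfsg.pCoreOf p M ≤ T₀ := by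
    rw [hT₀]
    exact le_inf (pCoreOf_le_sylow' T M hTM) (pCoreOf_le_centralizer_of_pRedOf M Y hMr)
  have hM' := (charp_iff_ambient M).mp hM
  have hCT₀ : M ⊓ Subgroup.centralizer (T₀ : Set H) ≤ T₀ := by
    intro x hx
    exact hOM (hM' (Subgroup.mem_inf.mpr ⟨(Subgroup.mem_inf.mp hx).1,
      Subgroup.centralizer_le hOM (Subgroup.mem_inf.mp hx).2⟩))
  have hT₀p : IsPGroup p T₀ := by rw [hT₀]; exact T.isPGroup'.to_inf_left
  have hLsN : Ls ≤ Subgroup.normalizer (T₀ : Set H) := by rw [hLs]; exact inf_le_right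
  have hT₀O : T₀ ≤ Cfsg.pCoreOf p Ls := le_pCoreOf Ls T₀ hT₀Ls hLsN hT₀p
  have hLs' : Subgroup.centralizer (Cfsg.pCore p ↥Ls : Set ↥Ls) ≤ Cfsg.pCore p ↥Ls := by
    rw [charp_iff_ambient]
    intro x hx
    exact hT₀O (hCT₀ (Subgroup.mem_inf.mpr ⟨hLsM (Subgroup.mem_inf.mp hx).1,
      Subgroup.centralizer_le hT₀O (Subgroup.mem_inf.mp hx).2⟩))
  obtain ⟨hn', he', hr'⟩ := largestPReducedOf_spec (p := p) Ls hLs'
  have h5 := le_omegaOne_center_pCoreOf Ls _ (largestPReducedOf_le Ls) hn' he' hr'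
  have h6 : Cfsg.pCoreOf p Ls ⊓ Subgroup.centralizer ((Cfsg.pCoreOf p Ls : Subgroup H) : Set H) ≤
      T₀ ⊓ Subgroup.centralizer (T₀ : Set H) := by
    intro x hx
    have hxc : x ∈ Subgroup.centralizer (T₀ : Set H) :=
      Subgroup.centralizer_le hT₀O (Subgroup.mem_inf.mp hx).2
    exact Subgroup.mem_inf.mpr ⟨hCT₀ (Subgroup.mem_inf.mpr
      ⟨hLsM (pCoreOf_le p Ls (Subgroup.mem_inf.mp hx).1), hxc⟩), hxc⟩
  have h7 := largestPReducedOf_eq_omegaOne T L hTL hL T₀ hT₀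
  have hd : Cfsg.largestPReducedOf p Ls ≤ Y := by
    rw [hY, h7]
    exact h5.trans (omegaOne_mono h6)
  exact ⟨le_antisymm hd hc, (hsup.trans hfac).symm, hLs', hTLs⟩

end Cfsg.Agent.Lib.Helper5
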