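import Cfsg.Agent.Lib.Helper5.YL5

set_option autoImplicit false
open Cfsg
open scoped commutatorElement

namespace Cfsg.Agent.Lib.Helper5

variable {H : Type*} [Group H] {p : ℕ}

theorem charp_of_mem_charPSubgroups (M : Subgroup H) (h : M ∈ Cfsg.charPSubgroups p H) :
    Subgroup.centralizer (Cfsg.pCore p ↥M : Set ↥M) ≤ Cfsg.pCore p ↥M := by
  rw [charp_iff_ambient]
  exact inf_le_right.trans h.2

theorem isElementaryAbelian_mono {A B : Subgroup H} (h : A ≤ B)
    (hB : Cfsg.IsElementaryAbelian p B) : Cfsg.IsElementaryAbelian p A := by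
  refine ⟨⟨⟨fun a b => ?_⟩⟩, fun a ha => hB.2 a (h ha)⟩
  have := hB.1.1.1 ⟨a.1, h a.2⟩ ⟨b.1, h b.2⟩
  have h2 : a.1 * b.1 = b.1 * a.1 := congrArg Subtype.val this
  exact Subtype.ext h2

theorem isElementaryAbelian_closure (S : Set H) (hcomm : ∀ a ∈ S, ∀ b ∈ S, a * b = b * a)
    (hexp : ∀ a ∈ S, a ^ p = 1) : Cfsg.IsElementaryAbelian p (Subgroup.closure S) := by
  have h1 : Subgroup.closure S ≤ Subgroup.centralizer S := by
    rw [Subgroup.closure_le]
    intro a ha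
    rw [SetLike.mem_coe, Subgroup.mem_centralizer_iff]
    intro b hb
    exact hcomm b hb a ha
  have h2 : Subgroup.closure S ≤ Subgroup.centralizer ((Subgroup.closure S : Subgroup H) : Set H) := by
    rw [Subgroup.closure_le]
    intro a ha
    rw [SetLike.mem_coe, Subgroup.mem_centralizer_iff]
    intro b hb
    have := h1 hb
    rw [Subgroup.mem_centralizer_iff] at this
    exact (this a ha).symm
  have hc : ∀ a ∈ Subgroup.closure S, ∀ b ∈ Subgroup.closure S, a * b = b * a := by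
    intro a ha b hb
    have := h2 ha
    rw [Subgroup.mem_centralizer_iff] at this
    exact (this b hb).symm
  refine ⟨⟨⟨fun a b => Subtype.ext (hc a.1 a.2 b.1 b.2)⟩⟩, ?_⟩
  intro x hx
  induction hx using Subgroup.closure_induction with
  | mem g hg => exact hexp g hg
  | one => exact one_pow _
  | mul a b ha hb iha ihb =>
    have hab : Commute a b := hc a ha b hb
    rw [hab.mul_pow, iha, ihb, one_mul]
  | inv a _ iha => rw [inv_pow, iha, inv_one]

/-- asymmetric: conjugates of `Y` under `N(R)` generate an elementary abelian group -/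
theorem asym_normalClosure_elemAbelian (Y R : Subgroup H)
    (hYe : Cfsg.IsElementaryAbelian p Y)
    (hasym : ¬ Cfsg.IsSymmetricIn Y) (hYR : Y ≤ R)
    (hRN : R ≤ Subgroup.normalizer (Y : Set H)) :
    Cfsg.IsElementaryAbelian p ((Subgroup.normalClosure ((Y.subgroupOf
      (Subgroup.normalizer ((R : Subgroup H) : Set H)) :
      Subgroup ↥(Subgroup.normalizer ((R : Subgroup H) : Set H))) :
      Set ↥(Subgroup.normalizer ((R : Subgroup H) : Set H)))).map
      (Subgroup.normalizer ((R : Subgroup H) : Set H)).subtype) := by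
  set N := Subgroup.normalizer ((R : Subgroup H) : Set H) with hN
  -- conjugates of Y by elements of N commute with Y
  have hcomm1 : ∀ g ∈ N, ∀ y ∈ Y, ∀ z ∈ Y, y * (g * z * g⁻¹) = (g * z * g⁻¹) * y := by
    intro g hg
    have hsym : ¬ (⁅Y, Y.map (MulAut.conj g).toMonoidHom⁆ ≠ ⊥ ∧
        ⁅Y, Y.map (MulAut.conj g).toMonoidHom⁆ ≤ Y ⊓ Y.map (MulAut.conj g).toMonoidHom) :=
      fun h => hasym ⟨g, h⟩
    have hle : ⁅Y, Y.map (MulAut.conj g).toMonoidHom⁆ ≤ Y ⊓ Y.map (MulAut.conj g).toMonoidHom := by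
      rw [Subgroup.commutator_le]
      rintro y hy _ ⟨z, hz, rfl⟩
      have hgz : g * z * g⁻¹ ∈ R := ((Subgroup.mem_normalizer_iff.mp hg) z).mp (hYR hz)
      refine Subgroup.mem_inf.mpr ⟨?_, ?_⟩
      · -- y * (w y⁻¹ w⁻¹) with w = g z g⁻¹ ∈ N(Y)
        have hw := hRN hgz
        have h1 : (g * z * g⁻¹) * y⁻¹ * (g * z * g⁻¹)⁻¹ ∈ Y :=
          ((Subgroup.mem_normalizer_iff.mp hw) y⁻¹).mp (Y.inv_mem hy)
        have : ⁅y, (MulAut.conj g).toMonoidHom z⁆ =
            y * ((g * z * g⁻¹) * y⁻¹ * (g * z * g⁻¹)⁻¹) := by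
          rw [commutatorElement_def]
          simp only [MulEquiv.toMonoidHom_eq_coe, MonoidHom.coe_coe, MulAut.conj_apply]
          group
        rw [this]
        exact Y.mul_mem hy h1
      · -- (y w y⁻¹) w⁻¹, with g⁻¹ y g ∈ R ≤ N(Y)
        have hgy : g⁻¹ * y * g ∈ R := ((Subgroup.mem_normalizer_iff''.mp hg) y).mp (hYR hy)
        have hw := hRN hgy
        have h1 : (g⁻¹ * y * g) * z * (g⁻¹ * y * g)⁻¹ ∈ Y :=
          ((Subgroup.mem_normalizer_iff.mp hw) z).mp hz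
        have h2 : (g⁻¹ * y * g) * z * (g⁻¹ * y * g)⁻¹ * z⁻¹ ∈ Y := Y.mul_mem h1 (Y.inv_mem hz)
        refine ⟨_, h2, ?_⟩
        rw [commutatorElement_def]
        simp only [MulEquiv.toMonoidHom_eq_coe, MonoidHom.coe_coe, MulAut.conj_apply]
        group
    have hbot : ⁅Y, Y.map (MulAut.conj g).toMonoidHom⁆ = ⊥ := by
      by_contra hne
      exact hsym ⟨hne, hle⟩
    rw [Subgroup.commutator_eq_bot_iff_le_centralizer] at hbot
    intro y hy z hz
    have := hbot hy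
    rw [Subgroup.mem_centralizer_iff] at this
    have h3 := this (g * z * g⁻¹) ⟨z, hz, by simp⟩
    exact h3.symm
  set S : Set H := {x | ∃ g ∈ N, ∃ z ∈ Y, x = g * z * g⁻¹} with hS
  have hScomm : ∀ a ∈ S, ∀ b ∈ S, a * b = b * a := by
    rintro _ ⟨g, hg, y, hy, rfl⟩ _ ⟨h, hh, z, hz, rfl⟩
    have hgh : g⁻¹ * h ∈ N := N.mul_mem (N.inv_mem hg) hh
    have := hcomm1 (g⁻¹ * h) hgh y hy z hz
    have e1 : g * y * g⁻¹ * (h * z * h⁻¹) = g * (y * ((g⁻¹ * h) * z * (g⁻¹ * h)⁻¹)) * g⁻¹ := by group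
    have e2 : h * z * h⁻¹ * (g * y * g⁻¹) = g * (((g⁻¹ * h) * z * (g⁻¹ * h)⁻¹) * y) * g⁻¹ := by group
    rw [e1, e2, this]
  have hSexp : ∀ a ∈ S, a ^ p = 1 := by
    rintro _ ⟨g, hg, y, hy, rfl⟩
    rw [conj_pow, hYe.2 y hy]; group
  have hE := isElementaryAbelian_closure S hScomm hSexp
  refine isElementaryAbelian_mono ?_ hE
  unfold Subgroup.normalClosure
  rw [MonoidHom.map_closure, Subgroup.closure_le]
  rintro _ ⟨x, hx, rfl⟩
  apply Subgroup.subset_closure
  rw [Group.mem_conjugatesOfSet_iff] at hx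
  obtain ⟨a, ha, hax⟩ := hx
  rw [isConj_iff] at hax
  obtain ⟨c, hc⟩ := hax
  refine ⟨(c : H), c.2, (a : H), Subgroup.mem_subgroupOf.mp ha, ?_⟩
  rw [← hc]
  simp

end Cfsg.Agent.Lib.Helper5
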