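import Cfsg.Agent.Lib.Helper5.YL6

set_option autoImplicit false
open Cfsg

namespace Cfsg.Agent.Lib.Helper5

variable {H : Type*} [Group H] {p : ℕ}

theorem exists_max_psubgroup_of_pclosed [Finite H] [Fact p.Prime] (K : Subgroup H)
    (hK : Cfsg.IsPClosed p ↥K) :
    ∃ P₁ : Subgroup H, P₁ ≤ K ∧ IsPGroup p P₁ ∧ ∀ A : Subgroup H, A ≤ K → IsPGroup p A → A ≤ P₁ := by
  let P : Sylow p K := default
  have hP : (P : Subgroup K).Normal := hK P
  haveI := Sylow.unique_of_normal P hP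
  refine ⟨(P : Subgroup K).map K.subtype, ?_, P.isPGroup'.map _, ?_⟩
  · rintro _ ⟨d, _, rfl⟩
    exact d.2
  · intro A hA hAp
    have h1 : IsPGroup p (A.subgroupOf K) := hAp.comap_of_injective K.subtype K.subtype_injective
    obtain ⟨Q, hQ⟩ := h1.exists_le_sylow
    have hQP : Q = P := Subsingleton.elim _ _
    rw [hQP] at hQ
    rw [← Subgroup.map_subgroupOf_eq_of_le hA]
    exact Subgroup.map_mono hQ

theorem isPGroup_map_conj (A : Subgroup H) (hA : IsPGroup p A) (g : H) :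
    IsPGroup p (A.map (MulAut.conj g).toMonoidHom) := hA.map _

/-- `O_p(M)` is weakly closed in `M† = M C(Y_M)` with respect to `S`. -/
theorem pCoreOf_weaklyClosed [Finite H] [Fact p.Prime] (S : Sylow p H) (M : Subgroup H)
    (hSM : (S : Subgroup H) ≤ M)
    (hcp : Subgroup.centralizer (Cfsg.pCore p ↥M : Set ↥M) ≤ Cfsg.pCore p ↥M)
    (hpc : Cfsg.IsPClosed p ↥(M ⊓ Subgroup.centralizer (Cfsg.largestPReducedOf p M : Set H))) :
    Cfsg.IsWeaklyClosedSubgroup p (((Cfsg.pCoreOf p M)).subgroupOf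
      (M ⊔ Subgroup.centralizer (((Cfsg.largestPReducedOf p M) : Subgroup H) : Set H))) := by
  obtain ⟨hn, he, hr⟩ := largestPReducedOf_spec (p := p) M hcp
  set Y := Cfsg.largestPReducedOf p M with hY
  set C := Subgroup.centralizer (Y : Set H) with hC
  set Q₀ := Cfsg.pCoreOf p M with hQ₀
  set Md := M ⊔ C with hMd
  have hNC : Subgroup.normalizer (Y : Set H) ≤ Subgroup.normalizer (C : Set H) :=
    normalizer_le_normalizer_centralizer Y
  have hMdN : Md ≤ Subgroup.normalizer (C : Set H) :=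
    sup_le (hn.trans hNC) Subgroup.le_normalizer
  have hQS : Q₀ ≤ S := pCoreOf_le_sylow' S M hSM
  have hQC : Q₀ ≤ C := pCoreOf_le_centralizer_of_pRedOf M Y hr
  -- S ⊓ C ≤ Q₀
  obtain ⟨P₁, hP₁K, hP₁p, hP₁max⟩ := exists_max_psubgroup_of_pclosed (M ⊓ C) hpc
  have hMK : M ≤ Subgroup.normalizer ((M ⊓ C : Subgroup H) : Set H) := by
    refine le_trans ?_ Subgroup.inf_normalizer_le_normalizer_inf
    exact le_inf Subgroup.le_normalizer (hn.trans hNC)
  have hMP₁ : M ≤ Subgroup.normalizer (P₁ : Set H) := by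
    have key : ∀ m ∈ M, P₁.map (MulAut.conj m).toMonoidHom ≤ P₁ := by
      intro m hm
      apply hP₁max _ _ (isPGroup_map_conj P₁ hP₁p m)
      rintro _ ⟨x, hx, rfl⟩
      have := ((Subgroup.mem_normalizer_iff.mp (hMK hm)) x).mp (hP₁K hx)
      simpa using this
    intro m hm
    exact mem_normalizer_of_map_conj_le P₁ m (key m hm) (key m⁻¹ (M.inv_mem hm))
  have hP₁Q : P₁ ≤ Q₀ := le_pCoreOf M P₁ (hP₁K.trans inf_le_left) hMP₁ hP₁p
  have hSC : (S : Subgroup H) ⊓ C ≤ Q₀ := by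
    refine le_trans ?_ hP₁Q
    apply hP₁max _ (inf_le_inf_right _ hSM) (S.isPGroup'.to_inf_left)
  -- now the weak closure statement
  have hSMd : (S : Subgroup H) ≤ Md := hSM.trans le_sup_left
  refine ⟨S.subtype hSMd, ?_, ?_⟩
  · rw [Sylow.coe_subtype]
    exact Subgroup.subgroupOf_mono Md hQS
  · intro g hg
    rw [Sylow.coe_subtype] at hg
    have hle : (Q₀.subgroupOf Md).map (MulAut.conj g).toMonoidHom ≤ Q₀.subgroupOf Md := by
      intro x hx
      have hxS := hg hx
      rw [Subgroup.mem_subgroupOf] at hxS ⊢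
      obtain ⟨w, hw, rfl⟩ := hx
      rw [SetLike.mem_coe, Subgroup.mem_subgroupOf] at hw
      apply hSC
      refine Subgroup.mem_inf.mpr ⟨hxS, ?_⟩
      have := ((Subgroup.mem_normalizer_iff.mp (hMdN g.2)) (w : H)).mp (hQC hw)
      simpa using this
    have hcard : Nat.card (Q₀.subgroupOf Md) ≤
        Nat.card ((Q₀.subgroupOf Md).map (MulAut.conj g).toMonoidHom) := by
      rw [Subgroup.card_map_of_injective (MulAut.conj g).injective]
    exact Subgroup.eq_of_le_of_card_ge hle hcard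

end Cfsg.Agent.Lib.Helper5
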